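/-
P22: a normal subgroup without invariant classes of involutions is solvable.
Interface (see plans/P22.md).
-/
import Cfsg.Agent.P19.M0
import Cfsg.Agent.P14.A1

set_option autoImplicit false
set_option linter.unusedSectionVars false

namespace Cfsg.Agent.P22

open Subgroup Cfsg Cfsg.Agent Cfsg.Agent.FT
open Cfsg.Agent.H7.SC (oz jj Red)
open scoped commutatorElement

universe u

/-- The theorem. -/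
def InvStmt : Prop := ∀ (X : Type u) [Group X] [Finite X] (G : Subgroup X) [G.Normal],
  HasNormalPComplement 2 (X ⧸ G) → (∀ t ∈ G, t * t = 1 → t ≠ 1 → G ⊔ 𝐂[t] ≠ ⊤) →
  Group.IsSolvable G

variable {X : Type u} [Group X] [Finite X]

/-- No supplement of `M` in `Γ` normalizes a section of order 2 of `M`. -/
def QP (Γ M : Subgroup X) : Prop := ∀ S P0 P : Subgroup X, S ≤ Γ → Γ ≤ S ⊔ M → P ≤ M →
  P0.relIndex P = 2 → S ≤ 𝐍(P) → S ≤ 𝐍(P0) → False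

/-- No offenders (`SQ.nf`). -/
def NF (L V : Subgroup X) : Prop := ∀ A ≤ L, (∀ a ∈ A, ∀ b ∈ A, ⁅a, b⁆ ∈ 𝐂(V)) →
  (∀ a ∈ A, a * a ∈ 𝐂(V)) → 𝐂(A).relIndex V ≤ 𝐂(V).relIndex A → A ≤ 𝐂(V)

/-- Quadratic subgroups are small. -/
def SNF (L V : Subgroup X) : Prop := ∀ A ≤ L, ⁅V, A⁆ ≤ 𝐂(A) → ¬ A ≤ 𝐂(V) →
  𝐂(V).relIndex A ^ 2 < 𝐂(A).relIndex V

/-- No element of `O(L / C_L(V))` of order 3 has a commutator space of order 4. -/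
def NoQ (L V : Subgroup X) : Prop := ∀ K : Subgroup X, K ⊲ L → ¬ 2 ∣ 𝐂(V).relIndex K →
  ∀ y ∈ K, y ^ 3 ∈ 𝐂(V) → 𝐂[y].relIndex V ≠ 4

/-- Involutions of `L / C_L(V)` have fixed spaces of index at least 8. -/
def N4 (L V : Subgroup X) : Prop :=
  ∀ t ∈ L, t ^ 2 ∈ 𝐂(V) → t ∉ 𝐂(V) → 4 < 𝐂[t].relIndex V

/-- The case `q > 2`. -/
def Q2 (L V : Subgroup X) : Prop := ∃ V0 D : Subgroup X, V0 ≤ V ∧ 2 < V0.relIndex V ∧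
  D ≤ L ⊓ 𝐍(V) ⊓ 𝐂(V0) ∧
  ∀ x ∈ V, x ∉ V0 → ∀ y ∈ V, y ∉ V0 → ∃ d ∈ D, (d * x * d⁻¹)⁻¹ * y ∈ V0

/-- Commuting conjugates are equal. -/
def CC (V : Subgroup X) : Prop := ∀ g : X, V ^ᵍ g ≤ 𝐂(V) → V ^ᵍ g = V

/-- The module `V` and a Sylow subgroup `R` of its centralizer. -/
structure VH (R V : Subgroup X) : Prop where
  el : IsElementaryAbelian 2 V
  syl : IsSyl 2 R 𝐂(V)
  nj : 𝐍(jj R) ≤ 𝐍(V)
  nf : NF 𝐍(V) V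
  sq : SNF 𝐍(V) V

/-- The selected subgroup `J` and offender `A`. -/
structure Sel (R V J A : Subgroup X) : Prop where
  vh : VH R V
  le : J ≤ R
  zle : V ≤ J
  syl : IsSyl 2 (R ⊓ 𝐍(J)) (𝐂(V) ⊓ 𝐍(J))
  mv : ¬ 𝐍(J) ≤ 𝐍(V)
  uniq : ∀ Q : Subgroup X, IsPGroup 2 Q → J ≤ Q → ∀ h ∈ 𝐍(J), ∀ k ∈ 𝐍(J),
    Q ≤ 𝐂(V ^ᵍ h) → Q ≤ 𝐂(V ^ᵍ k) → V ^ᵍ h ≠ V ^ᵍ k → jj Q = J
  hA : A ∈ H5.elemMax 2 (R ⊓ 𝐍(J))
  nA : ¬ A ≤ J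
  quad : ∀ a ∈ A, ∀ v ∈ H2.nclIn 𝐍(J) V, ⁅a, v⁆ ∈ A

/-- The local hypothesis on `M ⊲ Γ` acting on `V`. -/
structure Loc (Γ M V : Subgroup X) : Prop where
  nrm : M ⊲ Γ
  el : IsElementaryAbelian 2 V
  vm : V ≤ M
  nv : Γ ≤ 𝐍(V)
  sol : Group.IsSolvable M
  red : Red M V
  qp : QP Γ M

/-- Chapter Q0. -/
def Q0Stmt : Prop := ∀ (X : Type u) [Group X] [Finite X] (G : Subgroup X) [G.Normal],
  HasNormalPComplement 2 (X ⧸ G) → (∀ t ∈ G, t * t = 1 → t ≠ 1 → G ⊔ 𝐂[t] ≠ ⊤) → QP ⊤ G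

/-- Chapter QL (an invariant orbit of vectors). -/
def QLStmt : Prop := ∀ (X : Type u) [Group X] [Finite X] (Γ M V D : Subgroup X), M ⊲ Γ →
  IsElementaryAbelian 2 V → Γ ≤ 𝐍(V) → D ≤ M → ¬ 2 ∣ 𝐂(V).relIndex D → 2 < 𝐂(D).relIndex V →
  (∀ x ∈ ⁅V, D⁆, x ≠ 1 → ∀ y ∈ ⁅V, D⁆, y ≠ 1 → ∃ d ∈ D, d * x * d⁻¹ = y) →
  (∀ g ∈ Γ, D ≤ 𝐂(⁅V, D⁆ ^ᵍ g) → D ^ᵍ g ≤ 𝐂(⁅V, D⁆)) →
  ∃ v ∈ V, v ≠ 1 ∧ Γ ≤ (Γ ⊓ 𝐂[v]) ⊔ M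

/-- Chapter NQ. -/
def NQStmt : Prop := ∀ (X : Type u) [Group X] [Finite X] (Γ M V : Subgroup X), Loc Γ M V →
  NoQ M V ∧ (SNF M V → ¬ Q2 M V ∧ ∀ y ∈ M, y ^ 3 ∈ 𝐂(V) → 𝐂[y].relIndex V ≠ 4)

/-- Chapter N4. -/
def N4Stmt : Prop := ∀ (X : Type u) [Group X] [Finite X] (Γ M V : Subgroup X), Loc Γ M V →
  NoQ M V → N4 M V

/-- Chapter SQ. -/
def SQStmt : Prop := ∀ (X : Type u) [Group X] [Finite X] (L V : Subgroup X), Group.IsSolvable L →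
  IsElementaryAbelian 2 V → L ≤ 𝐍(V) → Red L V → NoQ L V → N4 L V → SNF L V

/-- Chapter TR (transitivity). -/
def TRStmt : Prop := ∀ (X : Type u) [Group X] [Finite X] (T V : Subgroup X), IsSyl 2 T ⊤ → V ≤ T →
  IsElementaryAbelian 2 V → P14.SCl ⊤ T V → Group.IsSolvable 𝐍(V) → ¬ Group.IsSolvable X →
  Q2 ⊤ V

/-- Chapter M1 (selection). -/
def M1Stmt : Prop := ∀ (X : Type u) [Group X] [Finite X] (R V : Subgroup X), VH R V →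
  CC V ∨ ∃ J A : Subgroup X, Sel R V J A

/-- Chapter M2 (the rank one group generated by the offenders). -/
def M2Stmt : Prop := ∀ (X : Type u) [Group X] [Finite X] (R V J A : Subgroup X), Sel R V J A →
  Q2 ⊤ V ∨ ∃ g ∈ 𝐍(J), g ∉ 𝐍(V) ∧ (V ^ᵍ g).relIndex V = 2 ∧ 𝐂(V ^ᵍ g).relIndex A = 2

/-- Chapter M3 (transvections). -/
def M3Stmt : Prop := ∀ (X : Type u) [Group X] [Finite X] (R V J A : Subgroup X), Sel R V J A →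
  ∀ g ∈ 𝐍(J), g ∉ 𝐍(V) → (V ^ᵍ g).relIndex V = 2 → 𝐂(V ^ᵍ g).relIndex A = 2 →
  ∃ y a g', P19.E2 R A y a g'

/-- The theorem in inductive form (chapter G). -/
def CoreStmt : Prop := ∀ (X : Type u) [Group X] [Finite X] (G : Subgroup X), G.Normal →
  QP ⊤ G → Group.IsSolvable G

end Cfsg.Agent.P22
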