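/-
P22: applications of INV.
-/
import Cfsg.Agent.P22.Defs
import Cfsg.Agent.P25.Fpf
import Cfsg.Agent.H5.Kegel
import Cfsg.Agent.H9.FrobAction
import Cfsg.Agent.FT.Final

set_option autoImplicit false
set_option linter.unusedSectionVars false
set_option linter.style.haveILetI false

namespace Cfsg.Agent.P22

open Subgroup Cfsg Cfsg.Agent Cfsg.Agent.FT
open SemidirectProduct (inl inr inl_injective)

universe u v

theorem invN (INV : InvStmt.{u}) : P25.InvN.{u} := fun X _ _ G _ _ =>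
  haveI := Fact.mk Nat.prime_two
  INV X G (H8.hasNPC_of_isNilpotent 2)

/-- INV for a group of operators. -/
theorem act (INV : InvStmt.{max u v}) {G : Type u} {A : Type v} [Group G] [Finite G] [Group A]
    [Finite A] (φ : A →* MulAut G) (hA : HasNormalPComplement 2 A)
    (h : ∀ t : G, t * t = 1 → (∀ a, ∃ g, φ a t = g * t * g⁻¹) → t = 1) : Group.IsSolvable G := by
  haveI := Fact.mk Nat.prime_two
  have := INV (G ⋊[φ] A) (H1.sdL φ ⊤) (H8.hasNPC_of_surjective hA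
    ((QuotientGroup.mk' _).comp inr) fun y => ?_) ?_
  · rw [isSolvable_map_iff inl_injective] at this
    exact L.isSolvable_of_mulEquiv (topEquiv (G := G))
  · obtain ⟨x, rfl⟩ := QuotientGroup.mk'_surjective _ y
    refine ⟨x.right, QuotientGroup.eq.2 ⟨φ x.right⁻¹ x.left, trivial, ?_⟩⟩
    ext <;> simp
  · rintro _ ⟨t, -, rfl⟩ h1 h2 h3
    suffices t = 1 from h2 (by rw [this, map_one])
    refine h t (inl_injective (φ := φ) (by rw [map_mul, map_one]; exact h1)) fun a => ?_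
    obtain ⟨_, ⟨g, -, rfl⟩, c, hc, e⟩ := (mem_sup_of_norm le_normalizer_of_normal).1
      (h3.ge (mem_top (inr a)))
    refine ⟨g, inl_injective (φ := φ) ?_⟩
    rw [← H1.inr_mul_inl_mul_inv, ← e, map_mul, map_mul, map_inv]
    calc _ = inl g * (c * inl t * c⁻¹) * (inl g)⁻¹ := by group
      _ = _ := by rw [mem_cent1_iff_conj.1 hc]

theorem s3945 (INV : InvStmt.{u}) {G : Type u} [Group G] [Finite G] (α : MulAut G)
    (hodd : Odd (orderOf α))
    (hsplit : ∀ x : G, (((List.range (orderOf α)).map (fun i : ℕ => (α ^ i) x)).prod = 1)) :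
    Group.IsSolvable G := by
  haveI := Fact.mk Nat.prime_two
  refine act INV (zpowers α).subtype (H8.hasNPC_of_not_dvd (by
    rw [Nat.card_zpowers, ← even_iff_two_dvd, Nat.not_even_iff_odd]; exact hodd)) fun t h1 h2 => ?_
  obtain ⟨g, e⟩ := h2 ⟨α, mem_zpowers α⟩
  have k : ∀ x : G, (inl x * inr ⟨α, mem_zpowers α⟩ : G ⋊[(zpowers α).subtype] zpowers α) ^
      orderOf α = 1 := fun x => by
    have : (⟨α, mem_zpowers α⟩ : zpowers α) ^ orderOf α = 1 := Subtype.ext (pow_orderOf_eq_one α)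
    rw [H5.semidirect_pow, hsplit, this, map_one, map_one, one_mul]
  have c : Commute (inl t) (inl g⁻¹ * inr ⟨α, mem_zpowers α⟩ :
      G ⋊[(zpowers α).subtype] zpowers α) := by
    have := H1.inr_mul_inl_mul_inv (φ := (zpowers α).subtype) ⟨α, mem_zpowers α⟩ t
    rw [e, map_mul, map_mul, mul_inv_eq_iff_eq_mul] at this
    rw [Commute, SemiconjBy, mul_assoc, this, map_inv]
    group
  have h3 := k (t * g⁻¹)
  obtain ⟨n, hn⟩ := hodd
  rw [map_mul, mul_assoc, c.mul_pow, k, mul_one, ← map_pow, hn, pow_succ, pow_mul, pow_two, h1,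
    one_pow, one_mul] at h3
  exact inl_injective (h3.trans (map_one _).symm)

theorem s4042 (INV : InvStmt.{max u v}) {G : Type u} {A : Type v} [Group G] [Finite G]
    [Group A] [Finite A] (φ : A →* MulAut G) (hfpf : ∀ g : G, (∀ a : A, φ a g = g) → g = 1)
    (hHall : ∃ H : Subgroup A, Cfsg.IsPiHall {r : ℕ | r.Prime ∧ r ∣ Nat.card G} H ∧ IsCyclic H)
    (hcomp : ∃ K : Subgroup A, K.Normal ∧ (∀ r : ℕ, r.Prime → r ∣ Nat.card K → ¬ r ∣ Nat.card G) ∧
      ∀ r : ℕ, r.Prime → r ∣ K.index → r ∣ Nat.card G) : Group.IsSolvable G := by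
  haveI := Fact.mk Nat.prime_two
  obtain ⟨H, ⟨-, h1⟩, hc⟩ := hHall
  obtain ⟨K, nK, k1, k2⟩ := hcomp
  by_cases ev : 2 ∣ Nat.card G
  swap
  · exact feit_thompson G (Nat.odd_iff.2 (by omega))
  obtain ⟨⟨h, hh⟩, hg⟩ := hc.exists_generator
  have top : K ⊔ zpowers h = ⊤ := by
    have e : H ≤ zpowers h := fun x hx => by
      obtain ⟨n, e⟩ := hg ⟨x, hx⟩
      exact ⟨n, congrArg Subtype.val e⟩
    rw [← index_eq_one]
    by_contra e'
    obtain ⟨r, hr, d⟩ := Nat.exists_prime_and_dvd e'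
    exact h1 r hr ⟨hr, k2 r hr (d.trans (index_dvd_of_le le_sup_left))⟩
      (d.trans (index_dvd_of_le (e.trans le_sup_right)))
  have cop : (Nat.card K).Coprime (Nat.card G) := Nat.coprime_of_dvd k1
  have odd : ¬ 2 ∣ Nat.card K := fun e => k1 2 Nat.prime_two e ev
  have cyc : IsCyclic (A ⧸ K) := ⟨⟨QuotientGroup.mk' K h, fun x => by
    have := congrArg (map (QuotientGroup.mk' K)) top
    rw [Subgroup.map_sup, QuotientGroup.map_mk'_self, bot_sup_eq, MonoidHom.map_zpowers,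
      map_top_of_surjective _ (QuotientGroup.mk'_surjective K)] at this
    exact this.ge (mem_top x)⟩⟩
  refine act INV φ (H8.hasNPC_of_quotient_coprime K
    ((Nat.prime_two.coprime_iff_not_dvd.2 odd).symm) (by
      haveI := L.isNilpotent_of_isMulCommutative (A ⧸ K)
      exact H8.hasNPC_of_isNilpotent 2)) fun t _ h2 => ?_
  letI : MulAction (G ⋊[φ] A) G := MulAction.compHom G
    (SemidirectProduct.lift (MulAut.conj : G →* MulAut G) φ fun a => by ext; simp)
  have s1 : ∀ (a : A) (y : G), (inr a : G ⋊[φ] A) • y = φ a y := fun a y =>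
    congrArg (fun f : MulAut G => f y) (SemidirectProduct.lift_inr _ _ _ a)
  have s2 : ∀ x y : G, (inl x : G ⋊[φ] A) • y = x * y * x⁻¹ := fun x y =>
    congrArg (fun f : MulAut G => f y) (SemidirectProduct.lift_inl _ _ _ x)
  have c1 : (𝐨(H1.sdR φ K)).Coprime 𝐨(H1.sdL φ ⊤) := by rwa [H1.card_sdR, H1.card_sdL_top]
  have sol : Group.IsSolvable (H1.sdR φ K) ∨ Group.IsSolvable (H1.sdL φ ⊤) :=
    .inl (feit_thompson _ (by rw [H1.card_sdR]; exact Nat.odd_iff.2 (by omega)))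
  obtain ⟨_, ⟨g, -, rfl⟩, e⟩ := H1.glauberman_exists_fixed (H1.sdR_le_normalizer_top K) c1 sol
    t (by
      rintro _ ⟨a, -, rfl⟩
      obtain ⟨g, e⟩ := h2 a
      exact ⟨inl g, ⟨g, trivial, rfl⟩, by rw [s1, s2, e]⟩)
  rw [s2] at e
  obtain ⟨x, e1⟩ := h2 h
  have fx : ∀ a ∈ K, φ a (g * t * g⁻¹) = g * t * g⁻¹ := fun a ha =>
    (s1 a _).symm.trans (e _ ⟨a, ha, rfl⟩)
  have e2 : φ h (g * t * g⁻¹) = (φ h g * x * g⁻¹) * (g * t * g⁻¹) * (φ h g * x * g⁻¹)⁻¹ := by
    rw [map_mul, map_mul, map_inv, e1]; group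
  have inv : ∀ y ∈ H1.fixedSub φ K, φ h y ∈ H1.fixedSub φ K := fun y hy a ha => by
    have := hy _ (nK.conj_mem a ha h⁻¹)
    simpa using congrArg (φ h) this
  suffices g * t * g⁻¹ = 1 by simpa using this
  generalize g * t * g⁻¹ = s at e fx e2
  obtain ⟨c, hc, e3⟩ := H1.glauberman_conj (H1.sdR_le_normalizer_top K) c1 sol
    s e (g := inl (φ h g * x * g⁻¹)) ⟨_, trivial, rfl⟩ (by
      rintro _ ⟨a, ha, rfl⟩
      rw [s2, ← e2, s1, inv s fx a ha])
  rw [H1.sdL_top_inf_centralizer] at hc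
  obtain ⟨c, hc, rfl⟩ := hc
  rw [s2, s2, ← e2] at e3
  have fp : ∀ y ∈ H1.fixedSub φ K, φ h y = y → y = 1 := fun y hy e => hfpf y fun a => by
    have : K ⊔ zpowers h ≤ (MulAction.stabilizer (MulAut G) y).comap φ :=
      sup_le hy (zpowers_le.2 e)
    exact this (top.ge (mem_top a))
  obtain ⟨⟨y, hy⟩, -, e4⟩ := H9.fpf_surj_on
    (α := H9.restrictAut (φ.comp (zpowers h).subtype) (H1.fixedSub φ K) (fun a y hy b hb => by
      simpa using congrArg (φ a) (hy _ (nK.conj_mem b hb (a : A)⁻¹))) ⟨h, mem_zpowers h⟩)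
    (fun n e => Subtype.ext (fp n n.2 (congrArg Subtype.val e))) (L := ⊤) (fun _ _ => trivial)
    (mem_top ⟨c, hc⟩⁻¹)
  replace e4 : y * (φ h y)⁻¹ = c⁻¹ := congrArg Subtype.val e4
  have := fp (y⁻¹ * s * y) (mul_mem (mul_mem (inv_mem hy) fx) hy) (by
    rw [map_mul, map_mul, map_inv, ← e3, ← inv_inv c, ← e4]; group)
  calc s = y * (y⁻¹ * s * y) * y⁻¹ := by group
    _ = 1 := by rw [this]; group

end Cfsg.Agent.P22
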