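/-
P22, chapter SQ, part 1: Thompson's dihedral lemma in a numerical form.
-/
import Cfsg.Agent.P19.Defs
import Mathlib.NumberTheory.ArithmeticFunction.Misc

set_option autoImplicit false
set_option linter.unusedSectionVars false

namespace Cfsg.Agent.P22.SQ

open Subgroup Cfsg Cfsg.Agent Cfsg.Agent.FT
open scoped commutatorElement

universe u

/-- Number of prime factors with multiplicity. -/
abbrev om (n : ℕ) : ℕ := ArithmeticFunction.cardFactors n

theorem om_mul {m n : ℕ} (hm : m ≠ 0) (hn : n ≠ 0) : om (m * n) = om m + om n :=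
  ArithmeticFunction.cardFactors_mul hm hn

theorem om_pos {n : ℕ} (h : 1 < n) : 0 < om n := by
  rw [ArithmeticFunction.cardFactors_pos_iff_one_lt]; exact h

theorem three_pow_le {n : ℕ} (h : Odd n) : 3 ^ om n ≤ n := by
  induction n using Nat.recOnMul with
  | zero => exact absurd h (by decide)
  | one => simp
  | prime p hp =>
    rw [show om p = 1 from ArithmeticFunction.cardFactors_apply_prime hp, pow_one]
    have := hp.two_le
    obtain ⟨k, hk⟩ := h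
    omega
  | mul a b iha ihb =>
    obtain ⟨ha, hb⟩ := Nat.odd_mul.1 h
    rw [om_mul ha.pos.ne' hb.pos.ne', pow_add]
    exact Nat.mul_le_mul (iha ha) (ihb hb)

theorem two_pow_add {k : ℕ} (h : 2 ≤ k) : 2 ^ k + 1 < 3 ^ k := by
  induction k, h using Nat.le_induction with
  | base => norm_num
  | succ k _ ih => rw [pow_succ, pow_succ]; omega

theorem num {n c : ℕ} (ho : Odd n) (h1 : 1 < n) (h : n ≤ c + 1) :
    2 ^ om n ≤ c ∧ (c ≤ 2 ^ om n → n = 3 ∧ c = 2) := by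
  have a := three_pow_le ho
  have b := om_pos h1
  rcases Nat.lt_or_ge (om n) 2 with l | l
  · have e : om n = 1 := by omega
    rw [e] at a ⊢
    constructor
    · omega
    · intro; omega
  · have := two_pow_add l
    constructor
    · omega
    · intro; omega

variable {X : Type u} [Group X] [Finite X]

theorem mem_of_sq {y : X} (ho : Odd (orderOf y)) {K : Subgroup X} (h : y * y ∈ K) : y ∈ K := by
  obtain ⟨k, hk⟩ := ho
  have e : y = (y * y) ^ (k + 1) := by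
    rw [← pow_two, ← pow_mul, show 2 * (k + 1) = orderOf y + 1 by omega, pow_succ,
      pow_orderOf_eq_one, one_mul]
  rw [e]; exact K.pow_mem h _

theorem odd_orderOf {F : Subgroup X} (ho : Odd 𝐨(F)) {y : X} (hy : y ∈ F) : Odd (orderOf y) :=
  Odd.of_dvd_nat ho (F.orderOf_dvd_natCard hy)

/-- State of the induction. -/
structure Good (F A : Subgroup X) (t : X) (B E : Subgroup X) : Prop where
  tA : t ∈ A
  BA : B ≤ A
  EF : E ≤ F
  EE : E ≤ 𝐂(E)
  BE : B ≤ 𝐂(E)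
  AE : A ≤ 𝐍(E)
  inv : ∀ e ∈ E, t * e * t⁻¹ = e⁻¹
  num : 𝐨(A) ≤ 2 ^ om 𝐨(E) * 𝐨(B)
  fa : A ⊓ 𝐂(F ⊓ 𝐂(E)) = ⊥

theorem Good.step {F A : Subgroup X} (hF : Group.IsNilpotent F) (ho : Odd 𝐨(F))
    (hA : IsElementaryAbelian 2 A) (hn : A ≤ 𝐍(F)) {t : X} {B E : Subgroup X}
    (h : Good F A t B E) (hB : B ≠ ⊥) : ∃ t' B' E', Good F A t' B' E' ∧ B' < B := by
  obtain ⟨⟨b, hb⟩, b1⟩ := (ne_bot_iff_exists_ne_one).1 hB
  have b1 : b ≠ 1 := fun e => b1 (Subtype.ext e)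
  have bA := h.BA hb
  have A2 : IsPGroup 2 A := H2.isPGroup_of_elemAb hA
  have AA : ∀ a ∈ A, ∀ c ∈ A, a * c = c * a := fun a ha c hc =>
    (H2.le_centralizer_of_comm hA.1 hc a ha)
  have aa : ∀ a ∈ A, a * a = 1 := fun a ha => by rw [← pow_two]; exact hA.2 a ha
  set F' := F ⊓ 𝐂(E) with hF'
  have n' : A ≤ 𝐍(F') := H1.le_normalizer_inf hn (H1.le_normalizer_centralizer h.AE)
  have o' : Odd 𝐨(F') := Odd.of_dvd_nat ho (Subgroup.card_dvd_of_le inf_le_left)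
  have cop : 𝐨(A).Coprime 𝐨(F') := (H1.coprime_card_of_isPGroup A2 (Nat.coprime_two_right.2 o')).symm
  obtain ⟨B', B'A, B'i, c, hc, cb⟩ : ∃ B' ≤ A, B'.relIndex A = 2 ∧ ∃ c ∈ F' ⊓ 𝐂(B'), c ∉ 𝐂[b] := by
    by_contra hcon
    push Not at hcon
    have : F' ≤ 𝐂[b] := H1.le_of_forall_hyperplane Nat.prime_two hA
      (fun e => b1 (by rw [e] at bA; exact bA)) n' cop fun B' a i => hcon B' a i
    have : b ∈ A ⊓ 𝐂(F') := ⟨bA, mem_cent_iff_cent1.2 this⟩
    rw [h.fa] at this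
    exact b1 this
  have bB' : b ∉ B' := fun e => cb (mem_cent1.2 (hc.2 b e))
  have nB := H1.le_normalizer_inf_centralizer_of_comm hA.1 B'A n'
  have hy : ⁅c, b⁆ ∈ F' ⊓ 𝐂(B') :=
    H1.commutator_le_of_le_normalizer nB (commutator_mem_commutator hc bA)
  have y1 : ⁅c, b⁆ ≠ 1 := fun e =>
    cb (mem_cent1.2 (commutatorElement_eq_one_iff_mul_comm.1 e).symm)
  have bi : b⁻¹ = b := inv_eq_of_mul_eq_one_right (aa b bA)
  have hinv : b * ⁅c, b⁆ * b⁻¹ = ⁅c, b⁆⁻¹ := by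
    rw [commutatorElement_def]
    calc _ = b * c * b * c⁻¹ * (b * b)⁻¹ := by group
      _ = b * c * b⁻¹ * c⁻¹ := by rw [aa b bA, bi]; group
      _ = _ := by group
  generalize ⁅c, b⁆ = y at hy y1 hinv
  have yo := odd_orderOf o' hy.1
  have fx : ∀ a ∈ B', a * y * a⁻¹ = y := fun a ha => by rw [hy.2 a ha]; group
  have iv : ∀ a ∈ A, a ∉ B' → a * y * a⁻¹ = y⁻¹ := fun a ha hn => by
    have h1 : b * a ∈ B' := by
      have := (Subgroup.mul_mem_iff_of_index_two (H := B'.subgroupOf A) B'i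
        (a := ⟨b, bA⟩) (b := ⟨a, ha⟩)).2 (by simp only [mem_subgroupOf]; tauto)
      exact this
    have h2 := fx _ h1
    have h3 : a * y * a⁻¹ = b⁻¹ * (b * a * y * (b * a)⁻¹) * b := by group
    rw [h3, h2, bi]
    simpa only [bi] using hinv
  have yE : y ∉ E := fun e => by
    have h1 : b * y * b⁻¹ = y := by rw [← h.BE hb y e]; group
    rw [hinv] at h1
    have : y ∈ (⊥ : Subgroup X) := mem_of_sq yo (by
      rw [mem_bot]; nth_rewrite 1 [← h1]; exact inv_mul_cancel y)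
    exact y1 this
  have yc : zpowers y ≤ 𝐂(E) := zpowers_le.2 hy.1.2
  have Ay : A ≤ 𝐍(zpowers y) := fun a ha => by
    apply mem_norm_of_conj_le
    rw [← zpowers_conj, zpowers_le]
    by_cases e : a ∈ B'
    · rw [fx a e]; exact mem_zpowers y
    · rw [iv a ha e]; exact inv_mem (mem_zpowers y)
  have cE' : ∀ {K : Subgroup X}, K ≤ 𝐂(E) → K ≤ 𝐂[y] → K ≤ 𝐂(E ⊔ zpowers y) := fun h1 h2 => by
    rw [le_centralizer_iff] at h1 ⊢
    refine sup_le h1 (zpowers_le.2 (mem_cent_iff_cent1.2 h2))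
  obtain ⟨t', t'A, t'B, t'E⟩ : ∃ t' ∈ A, t' ∉ B' ∧ ∀ e ∈ E, t' * e * t'⁻¹ = e⁻¹ := by
    by_cases e : t ∈ B'
    · refine ⟨t * b, A.mul_mem h.tA bA, fun e' => bB' ((B'.mul_mem_cancel_left e).1 e'), ?_⟩
      intro x hx
      have : t * b * x * (t * b)⁻¹ = t * (b * x * b⁻¹) * t⁻¹ := by group
      rw [this, ← h.BE hb x hx, mul_inv_cancel_right, h.inv x hx]
    · exact ⟨t, h.tA, e, h.inv⟩
  refine ⟨t', B ⊓ B', E ⊔ zpowers y, ⟨t'A, inf_le_left.trans h.BA,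
    sup_le h.EF (zpowers_le.2 hy.1.1), ?_, ?_, H1.le_normalizer_sup h.AE Ay, ?_, ?_, ?_⟩, ?_⟩
  · apply cE' (sup_le h.EE yc)
    exact sup_le (mem_cent_iff_cent1.1 hy.1.2) (zpowers_le.2 (self_mem_cent1 y))
  · exact cE' (inf_le_left.trans h.BE) (inf_le_right.trans (mem_cent_iff_cent1.1 hy.2))
  · intro x hx
    obtain ⟨e, he, _, ⟨k, rfl⟩, rfl⟩ :=
      (mem_sup_of_norm (H1.le_normalizer_of_le_centralizer yc)).1 hx
    have h1 : t' * (e * y ^ k) * t'⁻¹ = (t' * e * t'⁻¹) * (t' * y * t'⁻¹) ^ k := by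
      rw [conj_zpow]; group
    have h2 : e * y ^ k = y ^ k * e := yc (zpow_mem (mem_zpowers y) k) e he
    simp only
    rw [h1, t'E e he, iv t' t'A t'B, h2]; group
  · have l : E < E ⊔ zpowers y := left_lt_sup.2 fun e => yE (e (mem_zpowers y))
    have c1 := H1.card_mul_relIndex l.le
    have r1 : 1 < E.relIndex (E ⊔ zpowers y) := by
      have h0 : E.relIndex (E ⊔ zpowers y) ≠ 0 := FiniteIndex.index_ne_zero
      have h1 : E.relIndex (E ⊔ zpowers y) ≠ 1 := fun e => l.not_ge (relIndex_eq_one.1 e)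
      omega
    have c2 : om 𝐨(E) + 1 ≤ om 𝐨((E ⊔ zpowers y : Subgroup X)) := by
      rw [← c1, om_mul Nat.card_pos.ne' (by omega)]
      have := om_pos r1
      omega
    have c3 : 𝐨(B) ≤ 2 * 𝐨((B ⊓ B' : Subgroup X)) := by
      rw [← H1.card_mul_relIndex (inf_le_left : B ⊓ B' ≤ B), mul_comm, inf_comm B B',
        inf_relIndex_right]
      refine Nat.mul_le_mul_right _ ?_
      rw [← B'i]
      exact relIndex_le_of_le_right h.BA (by omega)
    calc 𝐨(A) ≤ 2 ^ om 𝐨(E) * 𝐨(B) := h.num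
      _ ≤ 2 ^ om 𝐨(E) * (2 * 𝐨((B ⊓ B' : Subgroup X))) := Nat.mul_le_mul_left _ c3
      _ = 2 ^ (om 𝐨(E) + 1) * 𝐨((B ⊓ B' : Subgroup X)) := by ring
      _ ≤ _ := Nat.mul_le_mul_right _ (Nat.pow_le_pow_right (by norm_num) c2)
  · rw [eq_bot_iff, ← h.fa]
    refine le_inf inf_le_left ?_
    have yF : zpowers y ≤ F' := zpowers_le.2 hy.1
    have le1 : F' ⊓ 𝐂(zpowers y) ≤ F ⊓ 𝐂(E ⊔ zpowers y) :=
      le_inf (inf_le_left.trans inf_le_left) (cE' (inf_le_left.trans inf_le_right)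
        (inf_le_right.trans (cent_le_cent1 (mem_zpowers y))))
    have le2 : F ⊓ 𝐂(E ⊔ zpowers y) ≤ 𝐂(A ⊓ 𝐂(F ⊓ 𝐂(E ⊔ zpowers y))) :=
      le_centralizer_iff.1 inf_le_right
    refine H1.pxq_lemma_of_isNilpotent (P := zpowers y) (yF.trans le_normalizer)
      (inf_le_left.trans n') ?_ ?_ (H1.coprime_of_le cop inf_le_left le_rfl) (le1.trans le2)
    · rw [sup_eq_right.2 yF]
      exact isNilpotent_of_le inf_le_left hF
    · refine le_trans (le_inf yF ?_) (le1.trans le2)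
      exact H2.le_centralizer_of_comm inferInstance
  · exact lt_of_le_of_ne inf_le_left fun e => bB' (inf_eq_left.1 e hb)

/-- Thompson's dihedral lemma, numerical form. -/
theorem dih {F A : Subgroup X} (hF : Group.IsNilpotent F) (ho : Odd 𝐨(F))
    (hA : IsElementaryAbelian 2 A) (hn : A ≤ 𝐍(F)) (fa : A ⊓ 𝐂(F) = ⊥) :
    ∃ t ∈ A, ∃ E ≤ F, E ≤ 𝐂(E) ∧ (∀ e ∈ E, t * e * t⁻¹ = e⁻¹) ∧ 𝐨(A) ≤ 2 ^ om 𝐨(E) := by
  have key : ∀ B : Subgroup X, ∀ t E, Good F A t B E → ∃ t E, Good F A t ⊥ E := by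
    intro B
    induction B using WellFoundedLT.induction with
    | ind B ih =>
    intro t E h
    by_cases e : B = ⊥
    · exact ⟨t, E, e ▸ h⟩
    · obtain ⟨t', B', E', h', l⟩ := h.step hF ho hA hn e
      exact ih B' l t' E' h'
  obtain ⟨t, E, h⟩ := key A 1 ⊥ ⟨A.one_mem, le_rfl, bot_le, bot_le, by rw [cent_bot]; exact le_top,
    H1.le_normalizer_of_le_centralizer (by rw [cent_bot]; exact le_top),
    fun e he => by rw [mem_bot.1 he]; simp, by simp, by rw [cent_bot, inf_top_eq]; exact fa⟩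
  exact ⟨t, h.tA, E, h.EF, h.EE, h.inv, by simpa using h.num⟩

end Cfsg.Agent.P22.SQ
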