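/-
P22, chapter SQ, part 2: an involution inverting an abelian group of odd order.
-/
import Cfsg.Agent.P22.SQ1

set_option autoImplicit false
set_option linter.unusedSectionVars false

namespace Cfsg.Agent.P22.SQ

open Subgroup Cfsg Cfsg.Agent Cfsg.Agent.FT
open scoped commutatorElement

universe u

variable {X : Type u} [Group X] [Finite X]

theorem el_comm {V : Subgroup X} (hV : IsElementaryAbelian 2 V) {a b : X} (ha : a ∈ V)
    (hb : b ∈ V) : a * b = b * a := H2.le_centralizer_of_comm hV.1 hb a ha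

theorem el_sq {V : Subgroup X} (hV : IsElementaryAbelian 2 V) {a : X} (ha : a ∈ V) : a * a = 1 := by
  rw [← pow_two]; exact hV.2 a ha

theorem el_mono {V W : Subgroup X} (hV : IsElementaryAbelian 2 V) (h : W ≤ V) :
    IsElementaryAbelian 2 W := H5.elemAb_mono h hV

/-- The image of `v ↦ [v, t]`. -/
theorem exists_br {V : Subgroup X} (hV : IsElementaryAbelian 2 V) {t : X} (ht : t ∈ 𝐍(V))
    (tt : t * t ∈ 𝐂(V)) : ∃ φ : V →* X, (∀ v : V, φ v = ⁅(v : X), t⁆) ∧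
      φ.ker = 𝐂[t].subgroupOf V ∧ φ.range ≤ V ⊓ 𝐂[t] := by
  have cj : ∀ v ∈ V, t * v * t⁻¹ ∈ V := fun v hv => (mem_normalizer_iff.1 ht v).1 hv
  have e : ∀ v : X, ⁅v, t⁆ = v * (t * v * t⁻¹)⁻¹ := fun v => by rw [commutatorElement_def]; group
  refine ⟨MonoidHom.mk' (fun v => ⁅(v : X), t⁆) fun a b => ?_, fun _ => rfl, ?_, ?_⟩
  · simp only [coe_mul, e]
    have h1 := el_comm hV (V.mul_mem b.2 (V.inv_mem (cj b b.2))) (V.inv_mem (cj a a.2))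
    calc _ = a * (b * (t * b * t⁻¹)⁻¹ * (t * a * t⁻¹)⁻¹) := by group
      _ = _ := by rw [h1]; group
  · ext v
    rw [MonoidHom.mem_ker, mem_subgroupOf, mem_cent1]
    exact commutatorElement_eq_one_iff_mul_comm.trans eq_comm
  · rintro _ ⟨v, rfl⟩
    have h1 : ⁅(v : X), t⁆ ∈ V := by rw [e]; exact V.mul_mem v.2 (V.inv_mem (cj v v.2))
    refine ⟨h1, mem_cent1_comm.1 (mem_cent1_iff_conj.2 ?_)⟩
    show t * ⁅(v : X), t⁆ * t⁻¹ = ⁅(v : X), t⁆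
    have h2 : t * ⁅(v : X), t⁆ * t⁻¹ = t * v * t⁻¹ * (t * t * v * (t * t)⁻¹)⁻¹ := by
      rw [commutatorElement_def]; group
    rw [h2, ← tt v v.2, mul_inv_cancel_right, ← inv_eq_of_mul_eq_one_right (el_sq hV h1), e]
    group

theorem card_inf_mul (K V : Subgroup X) : 𝐨((V ⊓ K : Subgroup X)) * K.relIndex V = 𝐨(V) := by
  rw [← inf_relIndex_left]; exact H1.card_mul_relIndex inf_le_left

theorem relIndex_le_card {V : Subgroup X} (hV : IsElementaryAbelian 2 V) {t : X} (ht : t ∈ 𝐍(V))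
    (tt : t * t ∈ 𝐂(V)) : 𝐂[t].relIndex V ≤ 𝐨((V ⊓ 𝐂[t] : Subgroup X)) := by
  obtain ⟨φ, -, k, r⟩ := exists_br hV ht tt
  have := index_ker φ
  rw [k] at this
  exact (le_of_eq this).trans (card_le_of_le r)

theorem card_mul_le {V I U : Subgroup X} (hV : IsElementaryAbelian 2 V) {t : X} (ht : t ∈ 𝐍(V))
    (tt : t * t ∈ 𝐂(V)) (hI : I ≤ V ⊓ 𝐂[t]) (hU : ∀ v ∈ V, ⁅v, t⁆ ∈ I → v ∈ U) :
    𝐨(I) * 𝐂[t].relIndex V ≤ 𝐨(U) := by
  obtain ⟨φ, e, k, r⟩ := exists_br hV ht tt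
  have h1 := index_ker φ
  rw [k] at h1
  have h1 : 𝐂[t].relIndex V = 𝐨(φ.range) := h1
  have h2 : 𝐨(I.comap φ) ≤ 𝐨(U) := by
    rw [← card_map_inj (f := V.subtype) Subtype.val_injective]
    apply card_le_of_le
    rintro _ ⟨v, hv, rfl⟩
    exact hU v v.2 (by rw [← e]; exact hv)
  have h3 := (I.comap φ).card_mul_index
  rw [index_comap] at h3
  have h4 := card_inf_mul 𝐂[t] V
  have h5 := card_inf_mul I φ.range
  have h6 := H1.card_sup_mul_card_inf (A := φ.range) (N := I)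
    (H1.le_normalizer_of_le_centralizer fun a ha b hb => el_comm hV (hI hb).1 (r ha).1)
  have h7 : 𝐨((φ.range ⊔ I : Subgroup X)) ≤ 𝐨((V ⊓ 𝐂[t] : Subgroup X)) := card_le_of_le (sup_le r hI)
  have p : 0 < I.relIndex φ.range := Nat.pos_of_ne_zero FiniteIndex.index_ne_zero
  have h8 : 𝐨(I.comap φ) = 𝐨((V ⊓ 𝐂[t] : Subgroup X)) * 𝐨((φ.range ⊓ I : Subgroup X)) := by
    apply Nat.eq_of_mul_eq_mul_right p
    rw [h3, mul_assoc, h5, ← h1, h4]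
  rw [h1, mul_comm, ← h6]
  exact (Nat.mul_le_mul_right _ h7).trans (h8 ▸ h2)

theorem norm_of_inv {E K : Subgroup X} {t : X} (inv : ∀ e ∈ E, t * e * t⁻¹ = e⁻¹) (h : K ≤ E) :
    t ∈ 𝐍(K) := by
  apply mem_norm_of_conj_le
  intro x hx
  obtain ⟨k, hk, rfl⟩ := mem_conj'.1 hx
  rw [inv k (h hk)]; exact K.inv_mem hk

/-- A semiregular section. -/
theorem semi {W E E1 : Subgroup X} (hW : IsElementaryAbelian 2 W) {t : X}
    (En : E ≤ 𝐍(W)) (ho : Odd 𝐨(E)) (inv : ∀ e ∈ E, t * e * t⁻¹ = e⁻¹) (l : E1 < E)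
    (sr : ∀ e ∈ E, e ∉ E1 → W ⊓ 𝐂[e] = ⊥) :
    𝐨((W ⊓ 𝐂[t] : Subgroup X)) ^ 2 ≤ 𝐨(W) ∧
      E1.relIndex E * (𝐨((W ⊓ 𝐂[t] : Subgroup X)) - 1) ≤ 𝐨(W) - 1 := by
  have ti : ∀ d ∈ E, ∀ c ∈ W ⊓ 𝐂[t], c ≠ 1 → d * c * d⁻¹ ∈ 𝐂[t] → d ∈ E1 := by
    intro d hd c hc c1 h
    by_contra hn
    have h1 : d * d ∉ E1 := fun e => hn (mem_of_sq (odd_orderOf ho hd) e)
    have h2 : c ∈ W ⊓ 𝐂[d * d] := by
      refine ⟨hc.1, mem_cent1_comm.1 ?_⟩
      have a : t ∈ 𝐂[c] := mem_cent1_comm.1 hc.2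
      have b : d⁻¹ * t * d ∈ 𝐂[c] := by
        have := mem_cent1_comm.1 h
        rwa [cent1_conj, mem_conj] at this
      have := (𝐂[c]).mul_mem ((𝐂[c]).inv_mem b) a
      have e : (d⁻¹ * t * d)⁻¹ * t = d⁻¹ * (t⁻¹ * d * t) := by group
      have e2 : t⁻¹ * d * t = d⁻¹ := by
        have := inv d⁻¹ (E.inv_mem hd)
        rw [inv_inv] at this
        nth_rewrite 1 [← this]; group
      rw [e, e2, ← mul_inv_rev] at this
      exact (𝐂[c]).inv_mem_iff.1 this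
    rw [sr _ (E.mul_mem hd hd) h1] at h2
    exact c1 h2
  constructor
  · obtain ⟨e, he, ne⟩ := SetLike.exists_of_lt l
    have a : (W ⊓ 𝐂[t]) ^ᵍ e ≤ W := conj_le_of_mem_norm inf_le_left (En he)
    have b : (W ⊓ 𝐂[t]) ^ᵍ e ⊓ (W ⊓ 𝐂[t]) = ⊥ := by
      rw [eq_bot_iff]
      rintro x ⟨h1, h2⟩
      obtain ⟨c, hc, rfl⟩ := mem_conj'.1 h1
      by_contra hn
      exact ne (ti e he c hc (fun e => hn (by rw [e]; simp)) h2.2)
    have c := H1.card_sup_of_inf_eq_bot (A := (W ⊓ 𝐂[t]) ^ᵍ e) (N := W ⊓ 𝐂[t])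
      (H1.le_normalizer_of_le_centralizer fun x hx y hy => el_comm hW hy.1 (a hx)) b
    rw [card_conj] at c
    rw [pow_two, ← c]
    exact card_le_of_le (sup_le a inf_le_left)
  · have cd : ∀ K : Subgroup X, Nat.card {x : X // x ∈ K ∧ x ≠ 1} = 𝐨(K) - 1 := by
      intro K
      have : ({x : X | x ∈ K ∧ x ≠ 1}) = (K : Set X) \ {1} := rfl
      show Nat.card ({x : X | x ∈ K ∧ x ≠ 1} : Set X) = _
      rw [Nat.card_coe_set_eq, this, Set.ncard_diff_singleton_of_mem K.one_mem]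
      rfl
    let f : (E ⧸ E1.subgroupOf E) × {x : X // x ∈ W ⊓ 𝐂[t] ∧ x ≠ 1} → {x : X // x ∈ W ∧ x ≠ 1} :=
      fun p => ⟨(p.1.out : X) * p.2 * (p.1.out : X)⁻¹,
        (mem_normalizer_iff.1 (En p.1.out.2) _).1 p.2.2.1.1,
        fun e => p.2.2.2 (by simpa using e)⟩
    have hf : Function.Injective f := by
      rintro ⟨q, c⟩ ⟨q', c'⟩ e
      have e : (q.out : X) * c * (q.out : X)⁻¹ = (q'.out : X) * c' * (q'.out : X)⁻¹ :=
        congrArg Subtype.val e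
      have h1 : ((q'.out⁻¹ * q.out : E) : X) ∈ E1 := by
        refine ti _ (q'.out⁻¹ * q.out).2 c c.2.1 c.2.2 ?_
        have : ((q'.out⁻¹ * q.out : E) : X) * c * ((q'.out⁻¹ * q.out : E) : X)⁻¹ =
            (q'.out : X)⁻¹ * ((q.out : X) * c * (q.out : X)⁻¹) * q'.out := by
          push_cast; group
        rw [this, e]
        simpa [mul_assoc] using c'.2.1.2
      have h2 : q' = q := by
        rw [← q.out_eq', ← q'.out_eq', QuotientGroup.eq]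
        exact h1
      subst h2
      have : (c : X) = c' := by simpa using e
      rw [Subtype.ext this]
    have := Nat.card_le_card_of_injective f hf
    rwa [Nat.card_prod, cd, cd] at this

theorem card_cent_split {W W1 W2 : Subgroup X} (hW : IsElementaryAbelian 2 W) {t : X}
    (n1 : t ∈ 𝐍(W1)) (n2 : t ∈ 𝐍(W2)) (s : W2 ⊔ W1 = W) (d : W2 ⊓ W1 = ⊥) :
    𝐨(W) = 𝐨(W2) * 𝐨(W1) ∧ 𝐨((W ⊓ 𝐂[t] : Subgroup X)) =
      𝐨((W2 ⊓ 𝐂[t] : Subgroup X)) * 𝐨((W1 ⊓ 𝐂[t] : Subgroup X)) := by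
  have l1 : W1 ≤ W := s ▸ le_sup_right
  have l2 : W2 ≤ W := s ▸ le_sup_left
  have nn : ∀ {A B : Subgroup X}, A ≤ W → B ≤ W → A ≤ 𝐍(B) := fun hA hB =>
    H1.le_normalizer_of_le_centralizer fun x hx y hy => el_comm hW (hB hy) (hA hx)
  refine ⟨by rw [← s, H1.card_sup_of_inf_eq_bot (nn l2 l1) d], ?_⟩
  rw [← H1.card_sup_of_inf_eq_bot (nn (inf_le_left.trans l2) (inf_le_left.trans l1))
    (eq_bot_iff.2 (d ▸ inf_le_inf inf_le_left inf_le_left))]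
  congr 2
  refine le_antisymm ?_ (sup_le (inf_le_inf_right _ l2) (inf_le_inf_right _ l1))
  rintro x ⟨hx, hc⟩
  rw [← s] at hx
  obtain ⟨a, ha, b, hb, rfl⟩ := (mem_sup_of_norm (nn l1 l2)).1 hx
  have hc := mem_cent1_iff_conj.1 (mem_cent1_comm.1 hc)
  have a' := (mem_normalizer_iff.1 n2 a).1 ha
  have b' := (mem_normalizer_iff.1 n1 b).1 hb
  have e : a⁻¹ * (t * a * t⁻¹) = b * (t * b * t⁻¹)⁻¹ := by
    calc a⁻¹ * (t * a * t⁻¹) = a⁻¹ * (t * (a * b) * t⁻¹) * (t * b * t⁻¹)⁻¹ := by group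
      _ = _ := by rw [hc]; group
  have m : a⁻¹ * (t * a * t⁻¹) ∈ W2 ⊓ W1 :=
    ⟨W2.mul_mem (W2.inv_mem ha) a', e ▸ W1.mul_mem hb (W1.inv_mem b')⟩
  rw [d, mem_bot] at m
  have m2 := m
  rw [e] at m2
  refine mul_mem (mem_sup_left ⟨ha, mem_cent1_comm.1 (mem_cent1_iff_conj.2 ?_)⟩)
    (mem_sup_right ⟨hb, mem_cent1_comm.1 (mem_cent1_iff_conj.2 ?_)⟩)
  · exact (inv_mul_eq_one.1 m).symm
  · exact (mul_inv_eq_one.1 m2).symm

theorem cop {W E : Subgroup X} (hW : IsElementaryAbelian 2 W) (ho : Odd 𝐨(E)) :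
    𝐨(E).Coprime 𝐨(W) :=
  H1.coprime_card_of_isPGroup (H2.isPGroup_of_elemAb hW) (Nat.coprime_two_right.2 ho)

theorem fit {W E : Subgroup X} (hW : IsElementaryAbelian 2 W) (ho : Odd 𝐨(E)) (En : E ≤ 𝐍(W)) :
    ⁅W, E⁆ ⊔ (W ⊓ 𝐂(E)) = W ∧ ⁅W, E⁆ ⊓ 𝐂(E) = ⊥ :=
  ⟨H1.commutator_sup_centralizer En (cop hW ho)
    (Or.inr (H1.isSolvable_of_isPGroup (H2.isPGroup_of_elemAb hW))),
   by rw [inf_comm]; exact H1.centralizer_inf_commutator_eq_bot hW.1 En (cop hW ho)⟩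

theorem comm_eq {W E K : Subgroup X} (hW : IsElementaryAbelian 2 W) (ho : Odd 𝐨(E))
    (En : E ≤ 𝐍(W)) (hK : K ≤ E) : ⁅W, K⁆ = ⁅⁅W, E⁆, K⁆ := by
  have l : ⁅W, E⁆ ≤ W := H1.commutator_le_of_le_normalizer En
  refine le_antisymm ?_ (commutator_mono l le_rfl)
  have l2 : ⁅⁅W, E⁆, K⁆ ≤ W :=
    (commutator_mono l le_rfl).trans (H1.commutator_le_of_le_normalizer (hK.trans En))
  have nn : ∀ {A : Subgroup X}, A ≤ W → A ≤ 𝐍(⁅K, ⁅W, E⁆⁆) := fun hA =>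
    H1.le_normalizer_of_le_centralizer fun x hx y hy =>
      el_comm hW (l2 (by rwa [commutator_comm])) (hA hx)
  rw [commutator_comm W K, commutator_comm _ K]
  nth_rewrite 1 [← (fit hW ho En).1]
  refine comm_sup_le (nn l) (nn inf_le_left) le_rfl ?_
  rw [commutator_eq_bot_iff_le_centralizer.2
    (hK.trans (le_centralizer_iff.1 (inf_le_right : W ⊓ 𝐂(E) ≤ 𝐂(E))))]
  exact bot_le

theorem faith {W E : Subgroup X} (hW : IsElementaryAbelian 2 W) (ho : Odd 𝐨(E))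
    (En : E ≤ 𝐍(W)) : E ⊓ 𝐂(⁅W, E⁆) ≤ 𝐂(W) := by
  rw [le_centralizer_iff]
  nth_rewrite 1 [← (fit hW ho En).1]
  exact sup_le (le_centralizer_iff.1 inf_le_right)
    (inf_le_right.trans (centralizer_le (SetLike.coe_subset_coe.2 inf_le_left)))

theorem dim {t : X} (tt : t * t = 1) (E : Subgroup X) : ∀ W : Subgroup X,
    IsElementaryAbelian 2 W → t ∈ 𝐍(W) → E ≤ 𝐍(W) → Odd 𝐨(E) → E ≤ 𝐂(E) →
    (∀ e ∈ E, t * e * t⁻¹ = e⁻¹) → E ⊓ 𝐂(W) = ⊥ → W ⊓ 𝐂(E) = ⊥ →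
    𝐨((W ⊓ 𝐂[t] : Subgroup X)) ^ 2 ≤ 𝐨(W) ∧ 2 ^ om 𝐨(E) ≤ 𝐨((W ⊓ 𝐂[t] : Subgroup X)) ∧
      (𝐨((W ⊓ 𝐂[t] : Subgroup X)) ≤ 2 ^ om 𝐨(E) →
        E = ⊥ ∨ ∃ y ∈ E, y ^ 3 = 1 ∧ 𝐨((⁅W, zpowers y⁆ : Subgroup X)) = 4) := by
  induction E using WellFoundedLT.induction with
  | ind E ih =>
  intro W hW tn En ho EE inv fa fp
  by_cases W0 : W = ⊥
  · subst W0
    rw [cent_bot, inf_top_eq] at fa
    subst fa
    simp
  obtain ⟨E1, ⟨l1, n1⟩, mx⟩ := Set.Finite.exists_maximal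
    (s := {K : Subgroup X | K ≤ E ∧ W ⊓ 𝐂(K) ≠ ⊥}) (Set.toFinite _)
    ⟨⊥, bot_le, by rwa [cent_bot, inf_top_eq]⟩
  have lt : E1 < E := lt_of_le_of_ne l1 fun e => n1 (e ▸ fp)
  have o1 : Odd 𝐨(E1) := Odd.of_dvd_nat ho (Subgroup.card_dvd_of_le l1)
  have t1 : zpowers t ≤ 𝐍(E1) := zpowers_le.2 (norm_of_inv inv l1)
  have tW : zpowers t ≤ 𝐍(W) := zpowers_le.2 tn
  have EE1 : E ≤ 𝐍(E1) := H1.le_normalizer_of_le_centralizer
    (EE.trans (centralizer_le (SetLike.coe_subset_coe.2 l1)))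
  have sr : ∀ e ∈ E, e ∉ E1 → (W ⊓ 𝐂(E1)) ⊓ 𝐂[e] = ⊥ := by
    intro e he ne
    by_contra hn
    refine ne (mx (y := E1 ⊔ zpowers e) ⟨sup_le l1 (zpowers_le.2 he), fun h => hn ?_⟩
      le_sup_left (mem_sup_right (mem_zpowers e)))
    rw [eq_bot_iff, ← h]
    refine le_inf (inf_le_left.trans inf_le_left) (le_centralizer_iff.1 (sup_le ?_ ?_))
    · exact le_centralizer_iff.1 (inf_le_left.trans inf_le_right)
    · exact zpowers_le.2 (mem_cent_iff_cent1.2 inf_le_right)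
  have h1 := el_mono hW (inf_le_left : W ⊓ 𝐂(E1) ≤ W)
  have tn1 : t ∈ 𝐍(W ⊓ 𝐂(E1)) :=
    zpowers_le.1 (H1.le_normalizer_inf tW (H1.le_normalizer_centralizer t1))
  have tn2 : t ∈ 𝐍(⁅W, E1⁆) := zpowers_le.1 (H1.le_normalizer_commutator tW t1)
  obtain ⟨s1, s2⟩ := semi h1 (H1.le_normalizer_inf En (H1.le_normalizer_centralizer EE1)) ho inv
    lt sr
  have s3 := relIndex_le_card h1 tn1 (by rw [tt]; exact one_mem _)
  have s4 := card_inf_mul 𝐂[t] (W ⊓ 𝐂(E1))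
  obtain ⟨f1, f2⟩ := fit hW o1 (l1.trans En)
  have l2 : ⁅W, E1⁆ ≤ W := H1.commutator_le_of_le_normalizer (l1.trans En)
  obtain ⟨i1, i2, i3⟩ := ih E1 lt ⁅W, E1⁆ (el_mono hW l2) tn2 H1.le_normalizer_commutator_self o1
    (l1.trans (EE.trans (centralizer_le (SetLike.coe_subset_coe.2 l1))))
    (fun e he => inv e (l1 he))
    (eq_bot_iff.2 (fa ▸ le_inf (inf_le_left.trans l1) (faith hW o1 (l1.trans En)))) f2
  obtain ⟨c1, c2⟩ := card_cent_split hW tn1 tn2 f1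
    (eq_bot_iff.2 (f2 ▸ inf_le_inf_left _ inf_le_right))
  have r0 := H1.card_mul_relIndex l1
  have r1 : 1 < E1.relIndex E := by
    have h0 : E1.relIndex E ≠ 0 := FiniteIndex.index_ne_zero
    have h1 : E1.relIndex E ≠ 1 := fun e => lt.not_ge (relIndex_eq_one.1 e)
    omega
  have r2 : Odd (E1.relIndex E) := Odd.of_dvd_nat ho (Dvd.intro_left _ r0)
  have w1 : 1 < 𝐨((W ⊓ 𝐂(E1) : Subgroup X)) := (one_lt_card_iff_ne_bot _).2 n1
  have om1 : om 𝐨(E) = om 𝐨(E1) + om (E1.relIndex E) := by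
    rw [← r0, om_mul Nat.card_pos.ne' (by omega)]
  generalize hc : 𝐨((W ⊓ 𝐂(E1) ⊓ 𝐂[t] : Subgroup X)) = c at s1 s2 s3 s4 c2
  have s5 : 𝐨((W ⊓ 𝐂(E1) : Subgroup X)) ≤ c * c := s4 ▸ Nat.mul_le_mul_left _ s3
  have c2' : 2 ≤ c := by
    by_contra hn
    have : c ≤ 1 := by omega
    have := Nat.mul_le_mul this this
    omega
  have nb : E1.relIndex E ≤ c + 1 := by
    obtain ⟨d, rfl⟩ : ∃ d, c = d + 1 := ⟨c - 1, by omega⟩
    have : E1.relIndex E * d ≤ (d + 1 + 1) * d := by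
      have e : (d + 1) * (d + 1) = (d + 1 + 1) * d + 1 := by ring
      simp only [Nat.add_sub_cancel] at s2
      omega
    exact Nat.le_of_mul_le_mul_right this (by omega)
  obtain ⟨m1, m2⟩ := num r2 r1 nb
  refine ⟨?_, ?_, fun h => Or.inr ?_⟩
  · rw [c1, c2, mul_pow]; exact Nat.mul_le_mul i1 s1
  · rw [c2, om1, pow_add]; exact Nat.mul_le_mul i2 m1
  rw [c2, om1, pow_add] at h
  have p1 : 0 < 2 ^ om 𝐨(E1) := by positivity
  have p2 : 0 < 2 ^ om (E1.relIndex E) := by positivity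
  have a1 : c ≤ 2 ^ om (E1.relIndex E) :=
    Nat.le_of_mul_le_mul_left ((Nat.mul_le_mul_right _ i2).trans h) p1
  have a2 : 𝐨((⁅W, E1⁆ ⊓ 𝐂[t] : Subgroup X)) ≤ 2 ^ om 𝐨(E1) :=
    Nat.le_of_mul_le_mul_right ((Nat.mul_le_mul_left _ m1).trans h) p2
  obtain ⟨m3, m4⟩ := m2 a1
  rcases i3 a2 with e | ⟨y, hy, y3, y4⟩
  · subst e
    rw [cent_bot, inf_top_eq] at s1 s5 sr
    rw [card_bot, one_mul, m3] at r0
    obtain ⟨y, hy, y1⟩ := SetLike.exists_of_lt lt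
    refine ⟨y, hy, ?_, ?_⟩
    · have := pow_card_eq_one' (G := E) (x := ⟨y, hy⟩)
      rw [← r0] at this
      exact congrArg Subtype.val this
    · have oy : Odd 𝐨(zpowers y) := by rw [Nat.card_zpowers]; exact odd_orderOf ho hy
      have := (fit hW oy (zpowers_le.2 (En hy))).1
      have b : W ⊓ 𝐂(zpowers y) = ⊥ :=
        eq_bot_iff.2 (sr y hy y1 ▸ inf_le_inf_left _ (cent_le_cent1 (mem_zpowers y)))
      rw [b, sup_bot_eq] at this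
      rw [this]
      subst m4
      omega
  · exact ⟨y, l1 hy, y3, by rw [comm_eq hW o1 (l1.trans En) (zpowers_le.2 hy), y4]⟩

end Cfsg.Agent.P22.SQ
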