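/-
P22, chapter SC: a weakly closed reduced elementary abelian subgroup without elements of order
three with commutator of order four is strongly closed.
-/
import Cfsg.Agent.P22.SQ2
import Cfsg.Agent.H1.Semidirect

set_option autoImplicit false
set_option linter.unusedSectionVars false

namespace Cfsg.Agent.P22.SQ

open Subgroup Cfsg Cfsg.Agent Cfsg.Agent.FT
open Cfsg.Agent.H7.SC (Red)
open scoped commutatorElement

universe u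

variable {X : Type u} [Group X] [Finite X]

theorem card_comm {V : Subgroup X} (hV : IsElementaryAbelian 2 V) {y : X} (hy : y ∈ 𝐍(V))
    (ho : Odd (orderOf y)) : 𝐨((⁅V, zpowers y⁆ : Subgroup X)) = 𝐂[y].relIndex V := by
  have oy : Odd 𝐨(zpowers y) := by rwa [Nat.card_zpowers]
  obtain ⟨f1, f2⟩ := fit hV oy (zpowers_le.2 hy)
  have l : ⁅V, zpowers y⁆ ≤ V := H1.commutator_le_of_le_normalizer (zpowers_le.2 hy)
  have c := H1.card_sup_of_inf_eq_bot (A := ⁅V, zpowers y⁆) (N := V ⊓ 𝐂(zpowers y))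
    (H1.le_normalizer_of_le_centralizer fun a ha b hb => el_comm hV hb.1 (l ha))
    (eq_bot_iff.2 (f2 ▸ inf_le_inf_left _ inf_le_right))
  rw [f1, cent_zpowers, ← card_inf_mul 𝐂[y] V, mul_comm] at c
  exact (Nat.eq_of_mul_eq_mul_right Nat.card_pos c).symm

theorem key0 {V L A : Subgroup X} (hV : IsElementaryAbelian 2 V) (hL : L ≤ 𝐍(V))
    (fa : L ⊓ 𝐂(V) = ⊥) (hs : Group.IsSolvable L) (o2 : pCoreOf 2 L = ⊥)
    (nq : ∀ y ∈ L, y ^ 3 = 1 → 𝐂[y].relIndex V ≠ 4) (AL : A ≤ L) (hA : IsElementaryAbelian 2 A)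
    (A1 : A ≠ ⊥) : ∃ t ∈ A, 𝐨(A) < 𝐂[t].relIndex V := by
  have ho : Odd 𝐨(fittingOf L) := by
    rw [← Nat.not_even_iff_odd, even_iff_two_dvd]
    exact not_dvd_card_fittingOf Nat.prime_two o2
  have FL := (fittingOf_normal L).1
  obtain ⟨t, tA, E, EF, EE, inv, nm⟩ := dih (H2.isNilpotent_fittingOf L) ho hA
    (AL.trans (fittingOf_normal L).2) (by
      rw [eq_bot_iff, ← inf_eq_bot_of_coprime (cop hA ho)]
      exact le_inf ((inf_le_inf_right _ AL).trans (cent_fittingOf_le hs)) inf_le_left)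
  have oE : Odd 𝐨(E) := Odd.of_dvd_nat ho (Subgroup.card_dvd_of_le EF)
  have En : E ≤ 𝐍(V) := (EF.trans FL).trans hL
  have E1 : E ≠ ⊥ := by
    rintro rfl
    exact A1 (eq_bot_of_card_le A (by simpa using nm))
  have l : ⁅V, E⁆ ≤ V := H1.commutator_le_of_le_normalizer En
  obtain ⟨d1, -, d3⟩ := dim (el_sq hA tA) E ⁅V, E⁆ (el_mono hV l)
    (zpowers_le.1 (H1.le_normalizer_commutator (zpowers_le.2 (hL (AL tA)))
      (zpowers_le.2 (norm_of_inv inv le_rfl)))) H1.le_normalizer_commutator_self oE EE inv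
    (eq_bot_iff.2 (fa ▸ le_inf (inf_le_left.trans (EF.trans FL)) (faith hV oE En)))
    (fit hV oE En).2
  refine ⟨t, tA, ?_⟩
  have h1 : 2 ^ om 𝐨(E) < 𝐨((⁅V, E⁆ ⊓ 𝐂[t] : Subgroup X)) := by
    by_contra hn
    rcases d3 (not_lt.1 hn) with e | ⟨y, hy, y3, y4⟩
    · exact E1 e
    · rw [← comm_eq hV oE En (zpowers_le.2 hy), card_comm hV (En hy) (odd_orderOf oE hy)] at y4
      exact nq y (FL (EF hy)) y3 y4
  have h2 : 𝐨((⁅V, E⁆ ⊓ 𝐂[t] : Subgroup X)) ≤ 𝐂[t].relIndex ⁅V, E⁆ := by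
    rw [← card_inf_mul 𝐂[t] ⁅V, E⁆, pow_two] at d1
    exact Nat.le_of_mul_le_mul_left d1 Nat.card_pos
  exact (nm.trans_lt h1).trans_le (h2.trans (relIndex_le_of_le_right l FiniteIndex.index_ne_zero))

/-- Some element of `A` has a commutator space larger than `A / C_A(V)`. -/
theorem key {V L A : Subgroup X} (hV : IsElementaryAbelian 2 V) (hL : L ≤ 𝐍(V))
    (hs : Group.IsSolvable L) (red : Red L V)
    (nq : ∀ y ∈ L, y ^ 3 ∈ 𝐂(V) → 𝐂[y].relIndex V ≠ 4) (AL : A ≤ L)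
    (h1 : ∀ a ∈ A, ∀ b ∈ A, ⁅a, b⁆ ∈ 𝐂(V)) (h2 : ∀ a ∈ A, a * a ∈ 𝐂(V)) (A1 : ¬ A ≤ 𝐂(V)) :
    ∃ t ∈ A, 𝐂(V).relIndex A < 𝐂[t].relIndex V := by
  let φ : L →* MulAut V := H1.conjAut hL
  let ρ : L →* φ.range := φ.rangeRestrict
  let ψ : φ.range →* MulAut V := φ.range.subtype
  have ρs : Function.Surjective ρ := φ.rangeRestrict_surjective
  have ρ1 : ∀ l : L, ρ l = 1 ↔ (l : X) ∈ 𝐂(V) := fun l => by
    rw [← H1.mem_ker_conjAut hL, MonoidHom.mem_ker, Subtype.ext_iff]; rfl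
  let f : L →* V ⋊[ψ] φ.range := (SemidirectProduct.inr).comp ρ
  have f1 : ∀ l : L, f l = 1 ↔ (l : X) ∈ 𝐂(V) := fun l => by
    rw [← ρ1]
    exact ⟨fun e => SemidirectProduct.inr_injective (e.trans (map_one _).symm), fun e => by
      show SemidirectProduct.inr (ρ l) = 1
      rw [e, map_one]⟩
  have fr : ∀ x ∈ H1.sdR ψ ⊤, ∃ l, f l = x := by
    rintro _ ⟨h, -, rfl⟩
    obtain ⟨l, rfl⟩ := ρs h
    exact ⟨l, rfl⟩
  have fm : ∀ l, f l ∈ H1.sdR ψ ⊤ := fun l => ⟨ρ l, mem_top _, rfl⟩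
  have ri : ∀ l : L, 𝐂[f l].relIndex (H1.sdL ψ ⊤) = 𝐂[(l : X)].relIndex V := fun l => by
    rw [← relIndex_comap, relIndex_top_right]
    show index _ = index _
    congr 1
    ext v
    rw [mem_comap, mem_subgroupOf, mem_cent1_comm (x := (l : X)), mem_cent1_iff_conj (x := (v : X))]
    refine (H1.inl_mem_centralizer_inr (φ := ψ) (a := ρ l) (g := v)).trans ?_
    rw [Subtype.ext_iff]
    exact Iff.of_eq (congrArg (· = (v : X)) (H1.coe_conjAut hL l v))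
  haveI := hs
  have fin : (∃ t ∈ (A.subgroupOf L).map f, 𝐨((A.subgroupOf L).map f) <
      𝐂[t].relIndex (H1.sdL ψ ⊤)) → ∃ t ∈ A, 𝐂(V).relIndex A < 𝐂[t].relIndex V := by
    rintro ⟨_, ⟨t, tA, rfl⟩, ht⟩
    refine ⟨t, tA, ?_⟩
    rw [ri, ← relIndex_ker] at ht
    have : f.ker = 𝐂(V).subgroupOf L := by ext l; exact f1 l
    rwa [this, relIndex_subgroupOf AL] at ht
  refine fin (key0 (L := H1.sdR ψ ⊤) ?_ (H1.sdR_le_normalizer_top ⊤) ?_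
    (H1.isSolvable_sdR_top (solvable_of_surjective ρs)) ?_ ?_ ?_ ?_ ?_)
  · refine (isElemAb_map_iff SemidirectProduct.inl_injective).2 ?_
    rw [← isElemAb_map_iff (f := V.subtype) Subtype.val_injective, ← MonoidHom.range_eq_map,
      range_subtype]
    exact hV
  · rw [eq_bot_iff]
    rintro x ⟨hx, hc⟩
    obtain ⟨l, rfl⟩ := fr x hx
    rw [mem_bot, f1, mem_cent_iff_cent1, ← relIndex_eq_one, ← ri, relIndex_eq_one]
    exact mem_cent_iff_cent1.1 hc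
  · have n := pCoreOf_normal 2 (H1.sdR ψ ⊤)
    have := red (((pCoreOf 2 (H1.sdR ψ ⊤)).comap f).map L.subtype) ⟨map_subtype_le _, ?_⟩ ?_
    · rw [eq_bot_iff]
      intro x hx
      obtain ⟨l, rfl⟩ := fr x (n.1 hx)
      exact (f1 l).2 (this ⟨l, hx, rfl⟩)
    · intro g hg
      apply mem_norm_of_conj_le
      intro x hx
      obtain ⟨_, ⟨k, hk, rfl⟩, rfl⟩ := mem_conj'.1 hx
      refine ⟨⟨g, hg⟩ * k * ⟨g, hg⟩⁻¹, ?_, rfl⟩
      show f _ ∈ pCoreOf 2 (H1.sdR ψ ⊤)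
      rw [map_mul, map_mul, map_inv]
      exact (mem_normalizer_iff.1 (n.2 (fm _)) _).1 hk
    · rintro _ ⟨k, hk, rfl⟩
      obtain ⟨m, hm⟩ := H2.isPGroup_pCoreOf 2 (H1.sdR ψ ⊤) ⟨f k, hk⟩
      refine ⟨m, (f1 (k ^ 2 ^ m)).1 ?_⟩
      rw [map_pow]
      exact congrArg Subtype.val hm
  · intro y hy y3
    obtain ⟨l, rfl⟩ := fr y hy
    rw [ri]
    exact nq l l.2 ((f1 (l ^ 3)).1 (by rw [map_pow, y3]))
  · rintro _ ⟨l, -, rfl⟩
    exact fm l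
  · rw [H5.elemAb_iff]
    constructor
    · rintro _ ⟨a, ha, rfl⟩ _ ⟨b, hb, rfl⟩
      rw [← commutatorElement_eq_one_iff_mul_comm, ← map_commutatorElement, f1]
      exact h1 a ha b hb
    · rintro _ ⟨a, ha, rfl⟩
      rw [← map_pow, f1, pow_two]
      exact h2 a ha
  · intro e
    exact A1 fun a ha => (f1 ⟨a, AL ha⟩).1 (by
      rw [← mem_bot, ← e]; exact mem_map_of_mem f ha)

/-- No offenders. -/
theorem nf {V L A : Subgroup X} (hV : IsElementaryAbelian 2 V) (hL : L ≤ 𝐍(V))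
    (hs : Group.IsSolvable L) (red : Red L V)
    (nq : ∀ y ∈ L, y ^ 3 ∈ 𝐂(V) → 𝐂[y].relIndex V ≠ 4) (AL : A ≤ L)
    (h1 : ∀ a ∈ A, ∀ b ∈ A, ⁅a, b⁆ ∈ 𝐂(V)) (h2 : ∀ a ∈ A, a * a ∈ 𝐂(V))
    (h : 𝐂(A).relIndex V ≤ 𝐂(V).relIndex A) : A ≤ 𝐂(V) := by
  by_contra hn
  obtain ⟨t, tA, ht⟩ := key hV hL hs red nq AL h1 h2 hn
  exact ht.not_ge ((relIndex_le_of_le_left (cent_le_cent1 tA) FiniteIndex.index_ne_zero).trans h)

theorem card_comm' {V : Subgroup X} (hV : IsElementaryAbelian 2 V) {y : X} (hy : y ∈ 𝐍(V)) :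
    𝐨((⁅V, zpowers y⁆ : Subgroup X)) = 𝐂[y].relIndex V := by
  have cj : ∀ v ∈ V, y * v * y⁻¹ ∈ V := fun v hv => (mem_normalizer_iff.1 hy v).1 hv
  have e : ∀ v : X, ⁅v, y⁆ = v * (y * v * y⁻¹)⁻¹ := fun v => by rw [commutatorElement_def]; group
  let φ : V →* X := MonoidHom.mk' (fun v => ⁅(v : X), y⁆) fun a b => by
    simp only [coe_mul, e]
    have h1 := el_comm hV (V.mul_mem b.2 (V.inv_mem (cj b b.2))) (V.inv_mem (cj a a.2))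
    calc _ = a * (b * (y * b * y⁻¹)⁻¹ * (y * a * y⁻¹)⁻¹) := by group
      _ = _ := by rw [h1]; group
  have k : φ.ker = 𝐂[y].subgroupOf V := by
    ext v
    rw [MonoidHom.mem_ker, mem_subgroupOf, mem_cent1]
    exact commutatorElement_eq_one_iff_mul_comm.trans eq_comm
  have r : ⁅V, zpowers y⁆ = φ.range := by
    refine le_antisymm (H1.commutator_zpowers_le (mem_norm_of_conj_le ?_)
      fun v hv => ⟨⟨v, hv⟩, rfl⟩) ?_
    · intro x hx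
      obtain ⟨_, ⟨v, rfl⟩, rfl⟩ := mem_conj'.1 hx
      refine ⟨⟨_, cj v v.2⟩, ?_⟩
      show ⁅y * v * y⁻¹, y⁆ = y * ⁅(v : X), y⁆ * y⁻¹
      simp only [commutatorElement_def]; group
    · rintro _ ⟨v, rfl⟩
      exact commutator_mem_commutator v.2 (mem_zpowers y)
  rw [r, ← index_ker, k]
  rfl

section
variable {T V : Subgroup X} (hT : IsSyl 2 T ⊤) (hV : IsElementaryAbelian 2 V)
  (wc : ∀ g : X, V ^ᵍ g ≤ T → V ^ᵍ g = V)
include hT hV wc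

theorem w1 {P : Subgroup X} (hP : IsPGroup 2 P) {g h : X} (hg : V ^ᵍ g ≤ P) (hh : V ^ᵍ h ≤ P) :
    V ^ᵍ g = V ^ᵍ h := by
  obtain ⟨k, -, hk⟩ := hT.exists_conj_le Nat.prime_two hP le_top
  rw [← conj_inj (g := k), conj_conj, conj_conj, wc _ (conj_conj V k g ▸ (conj_mono hg k).trans hk),
    wc _ (conj_conj V k h ▸ (conj_mono hh k).trans hk)]

theorem w2 {P D : Subgroup X} (hP : IsPGroup 2 P) (hn : P ≤ 𝐍(D)) {g : X} (hD : D ≤ V ^ᵍ g) :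
    ∃ k : X, D ≤ V ^ᵍ k ∧ P ≤ 𝐍(V ^ᵍ k) := by
  have e : IsElementaryAbelian 2 (V ^ᵍ g) := (isElemAb_map_iff (conj_injective g)).2 hV
  obtain ⟨S, hS, PS⟩ := exists_isSyl_ge Nat.prime_two hP hn
  obtain ⟨c, hc, l⟩ := hS.exists_conj_le Nat.prime_two (H2.isPGroup_of_elemAb e)
    (H1.le_normalizer_of_le_centralizer fun a ha b hb => el_comm e (hD hb) ha)
  rw [conj_conj] at l
  refine ⟨c * g, ?_, fun s hs => conj_eq_self_iff.1 ?_⟩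
  · rw [← conj_conj, ← conj_eq_of_mem_norm hc]; exact conj_mono hD c
  · rw [conj_conj]
    exact w1 hT hV wc hS.pgrp (conj_conj V s (c * g) ▸ conj_le_of_mem l (PS hs)) l

theorem w3 {g : X} : V ^ᵍ g ⊓ 𝐂(V) ≤ V := by
  rintro x ⟨hx, hc⟩
  have p := H2.isPGroup_of_elemAb hV
  obtain ⟨k, h1, h2⟩ := w2 hT hV wc p (D := zpowers x) (H1.le_normalizer_of_le_centralizer
    (le_centralizer_iff.1 (zpowers_le.2 hc))) (zpowers_le.2 hx)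
  have := w1 hT hV wc (IsPGroup.to_sup_of_normal_right' p (p.map _) h2) (g := 1) (h := k)
    (by rw [conj_one]; exact le_sup_left) le_sup_right
  rw [conj_one] at this
  rw [this]
  exact h1 (mem_zpowers x)

/-- Strong closure. -/
theorem sc (VT : V ≤ T) (hs : Group.IsSolvable 𝐍(V)) (red : Red 𝐍(V) V)
    (nq : ∀ y ∈ 𝐍(V), y ^ 3 ∈ 𝐂(V) → 𝐂[y].relIndex V ≠ 4) :
    ∀ g : X, ∀ v ∈ V, g * v * g⁻¹ ∈ T → g * v * g⁻¹ ∈ V := by
  intro g0 v hv hvT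
  by_contra hn
  have TN : T ≤ 𝐍(V) := fun s hs => conj_eq_self_iff.1 (wc s (conj_le_of_mem VT hs))
  obtain ⟨g1, b1, m1⟩ := Set.exists_max_image {g : X | ¬ V ^ᵍ g ⊓ 𝐍(V) ≤ V}
    (fun g => 𝐨((V ⊓ V ^ᵍ g : Subgroup X))) (Set.toFinite _)
    ⟨g0, fun h => hn (h ⟨conj_mem_conj hv g0, TN hvT⟩)⟩
  obtain ⟨g, ⟨bg, ig⟩, m2⟩ := Set.exists_max_image {g : X | ¬ V ^ᵍ g ⊓ 𝐍(V) ≤ V ∧
    𝐨((V ⊓ V ^ᵍ g : Subgroup X)) = 𝐨((V ⊓ V ^ᵍ g1 : Subgroup X))}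
    (fun g => 𝐨((V ^ᵍ g ⊓ 𝐍(V) : Subgroup X))) (Set.toFinite _) ⟨g1, b1, rfl⟩
  have e : IsElementaryAbelian 2 (V ^ᵍ g) := (isElemAb_map_iff (conj_injective g)).2 hV
  have VC : V ≤ 𝐂(V) := H2.le_centralizer_of_comm hV.1
  obtain ⟨t, tA, ht⟩ := key (A := V ^ᵍ g ⊓ 𝐍(V)) hV le_rfl hs red nq inf_le_right
    (fun a ha b hb => by
      rw [commutatorElement_eq_one_iff_mul_comm.2 (el_comm e ha.1 hb.1)]; exact one_mem _)
    (fun a ha => by rw [el_sq e ha.1]; exact one_mem _)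
    fun h => bg ((le_inf inf_le_left h).trans (w3 hT hV wc))
  have eI : V ^ᵍ g ⊓ 𝐍(V) ⊓ 𝐂(V) = V ⊓ V ^ᵍ g := le_antisymm
    (le_inf ((inf_le_inf_right _ inf_le_left).trans (w3 hT hV wc)) (inf_le_left.trans inf_le_left))
    (le_inf (le_inf inf_le_right (inf_le_left.trans le_normalizer)) (inf_le_left.trans VC))
  have c1 := card_inf_mul 𝐂(V) (V ^ᵍ g ⊓ 𝐍(V))
  rw [eI] at c1
  have tV : t ∉ V := fun h => by
    rw [relIndex_eq_one.2 (mem_cent_iff_cent1.1 (VC h))] at ht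
    have : 𝐂(V).relIndex (V ^ᵍ g ⊓ 𝐍(V)) ≠ 0 := FiniteIndex.index_ne_zero
    omega
  have c2 := card_mul_le (I := V ⊓ V ^ᵍ g) (U := V ⊓ 𝐍(V ⊓ V ^ᵍ g ⊔ zpowers t)) hV tA.2
    (by rw [el_sq e tA.1]; exact one_mem _)
    (le_inf inf_le_left fun x hx => mem_cent1.2 (el_comm e tA.1 hx.2)) fun x hx hI => by
      refine ⟨hx, mem_norm_of_conj_le ?_⟩
      rw [conj_sup, ← zpowers_conj]
      refine sup_le ?_ (zpowers_le.2 ?_)
      · rw [conj_eq_of_mem_norm (H1.le_normalizer_of_le_centralizer (H := V ⊓ V ^ᵍ g)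
          (VC.trans (centralizer_le (SetLike.coe_subset_coe.2 inf_le_left))) hx)]
        exact le_sup_left
      · have : x * t * x⁻¹ = ⁅x, t⁆ * t := by rw [commutatorElement_def]; group
        rw [this]
        exact mul_mem (mem_sup_left hI) (mem_sup_right (mem_zpowers t))
  obtain ⟨k, k1, k2⟩ := w2 hT hV wc (P := V ⊓ 𝐍(V ⊓ V ^ᵍ g ⊔ zpowers t))
    ((H2.isPGroup_of_elemAb hV).to_le inf_le_left) inf_le_right
    (sup_le inf_le_right (zpowers_le.2 tA.1))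
  have lt : 𝐨((V ^ᵍ g ⊓ 𝐍(V) : Subgroup X)) <
      𝐨((V ⊓ 𝐍(V ⊓ V ^ᵍ g ⊔ zpowers t) : Subgroup X)) :=
    c1 ▸ (Nat.mul_lt_mul_of_pos_left ht Nat.card_pos).trans_le c2
  have bk : ¬ V ^ᵍ k ⊓ 𝐍(V) ≤ V := fun h => tV (h ⟨k1 (mem_sup_right (mem_zpowers t)), tA.2⟩)
  have l1 : V ⊓ V ^ᵍ g ≤ V ⊓ V ^ᵍ k := le_inf inf_le_left (le_sup_left.trans k1)
  have ik : 𝐨((V ⊓ V ^ᵍ k : Subgroup X)) = 𝐨((V ⊓ V ^ᵍ g1 : Subgroup X)) :=
    le_antisymm (m1 k bk) (ig ▸ card_le_of_le l1)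
  have e1 : (V ^ᵍ k⁻¹ ⊓ 𝐍(V)) ^ᵍ k = V ⊓ 𝐍(V ^ᵍ k) := by
    rw [conj_inf, conj_inv_conj, norm_conj]
  have l2 : 𝐨((V ⊓ 𝐍(V ⊓ V ^ᵍ g ⊔ zpowers t) : Subgroup X)) ≤
      𝐨((V ^ᵍ k⁻¹ ⊓ 𝐍(V) : Subgroup X)) := by
    rw [← card_conj (V ^ᵍ k⁻¹ ⊓ 𝐍(V)) k, e1]
    exact card_le_of_le (le_inf inf_le_left k2)
  have e2 : 𝐨((V ⊓ V ^ᵍ k⁻¹ : Subgroup X)) = 𝐨((V ⊓ V ^ᵍ g1 : Subgroup X)) := by
    rw [← card_conj _ k, conj_inf, conj_inv_conj, inf_comm, ik]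
  refine (lt.trans_le l2).not_ge (m2 k⁻¹ ⟨fun h => ?_, e2⟩)
  have l3 : 𝐨((V ^ᵍ k⁻¹ ⊓ 𝐍(V) : Subgroup X)) ≤ 𝐨((V ⊓ V ^ᵍ k⁻¹ : Subgroup X)) :=
    card_le_of_le (le_inf h inf_le_left)
  have l4 : 𝐨((V ⊓ V ^ᵍ g : Subgroup X)) ≤ 𝐨((V ^ᵍ g ⊓ 𝐍(V) : Subgroup X)) :=
    eI ▸ card_le_of_le inf_le_left
  omega

end

end Cfsg.Agent.P22.SQ
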