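/-
P22: weak closure in `C_T(V)` implies weak closure in `T` when there are no offenders.
-/
import Cfsg.Agent.P22.SC

set_option autoImplicit false
set_option linter.unusedSectionVars false

namespace Cfsg.Agent.P22.SQ

open Subgroup Cfsg Cfsg.Agent Cfsg.Agent.FT
open Cfsg.Agent.H7.SC (Red)
open scoped commutatorElement

universe u

variable {X : Type u} [Group X] [Finite X]

theorem wc_up {T V : Subgroup X} (hT : IsSyl 2 T ⊤) (hV : IsElementaryAbelian 2 V) (VT : V ≤ T)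
    (TN : T ≤ 𝐍(V))
    (nf : ∀ A ≤ 𝐍(V), IsElementaryAbelian 2 A → 𝐂(A).relIndex V ≤ 𝐂(V).relIndex A → A ≤ 𝐂(V))
    (wc0 : ∀ g : X, V ^ᵍ g ≤ T ⊓ 𝐂(V) → V ^ᵍ g = V) : ∀ g : X, V ^ᵍ g ≤ T → V ^ᵍ g = V := by
  have el : ∀ g : X, IsElementaryAbelian 2 (V ^ᵍ g) := fun g =>
    (isElemAb_map_iff (conj_injective g)).2 hV
  have s1 : ∀ g : X, V ^ᵍ g ≤ 𝐂(V) → V ^ᵍ g = V := fun g h => by
    have sy : IsSyl 2 (T ⊓ 𝐂(V)) 𝐂(V) := (hT.of_le TN le_top).inf_normal Nat.prime_two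
      ⟨H1.le_normalizer_of_le_centralizer le_rfl, H1.normalizer_le_normalizer_centralizer V⟩
    obtain ⟨c, hc, l⟩ := sy.exists_conj_le Nat.prime_two (H2.isPGroup_of_elemAb (el g)) h
    rw [conj_conj] at l
    have := wc0 _ l
    rw [← conj_conj, conj_eq_iff] at this
    rw [this]
    exact conj_eq_of_mem_norm (inv_mem (H1.le_normalizer_of_le_centralizer le_rfl hc))
  have s2 : ∀ g : X, V ^ᵍ g ≤ 𝐍(V) → V ≤ 𝐍(V ^ᵍ g) → V ^ᵍ g = V := fun g h1 h2 => by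
    rcases le_total (𝐂(V ^ᵍ g).relIndex V) (𝐂(V).relIndex (V ^ᵍ g)) with l | l
    · exact s1 g (nf _ h1 (el g) l)
    · have a : V ^ᵍ g⁻¹ ≤ 𝐍(V) := by rw [← le_conj_iff, ← norm_conj]; exact h2
      have b := s1 g⁻¹ (nf _ a (el _) (by
        rw [← relIndex_conj _ _ g, ← relIndex_conj 𝐂(V) _ g, ← cent_conj, ← cent_conj,
          conj_inv_conj]
        exact l))
      nth_rewrite 1 [← b]
      exact conj_inv_conj V g
  have s3 : ∀ g h : X, V ^ᵍ g ≤ 𝐍(V ^ᵍ h) → V ^ᵍ h ≤ 𝐍(V ^ᵍ g) → V ^ᵍ g = V ^ᵍ h := by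
    intro g h h1 h2
    have := s2 (h⁻¹ * g) (by rw [← conj_conj, ← le_conj_iff, ← norm_conj]; exact h1)
      (by rw [← conj_conj, norm_conj, ← conj_le_iff]; exact h2)
    rw [← conj_conj, conj_eq_iff, inv_inv] at this
    exact this
  intro g hg
  refine s2 g (hg.trans TN) (VT.trans ?_)
  by_contra hn
  have lt : T ⊓ 𝐍(V ^ᵍ g) < T := inf_lt_left.2 hn
  obtain ⟨n, hn1, hn2⟩ := SetLike.exists_of_lt (lt_inf_norm_of_isNilpotent hT.pgrp.isNilpotent lt)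
  have l : V ^ᵍ g ≤ T ⊓ 𝐍(V ^ᵍ g) := le_inf hg le_normalizer
  refine hn2 ⟨hn1.1, conj_eq_self_iff.1 ?_⟩
  rw [conj_conj]
  refine s3 _ _ ?_ ?_
  · rw [← conj_conj]; exact (conj_le_of_mem_norm l hn1.2).trans inf_le_right
  · rw [← conj_conj, norm_conj]
    exact l.trans ((conj_eq_of_mem_norm hn1.2).ge.trans (conj_mono inf_le_right n))

/-- Strong closure from weak closure in `C_T(V)`. -/
theorem sc' {T V : Subgroup X} (hT : IsSyl 2 T ⊤) (hV : IsElementaryAbelian 2 V) (VT : V ≤ T)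
    (TN : T ≤ 𝐍(V)) (hs : Group.IsSolvable 𝐍(V)) (red : Red 𝐍(V) V)
    (nq : ∀ y ∈ 𝐍(V), y ^ 3 ∈ 𝐂(V) → 𝐂[y].relIndex V ≠ 4)
    (wc0 : ∀ g : X, V ^ᵍ g ≤ T ⊓ 𝐂(V) → V ^ᵍ g = V) :
    (∀ g : X, V ^ᵍ g ≤ T → V ^ᵍ g = V) ∧
      ∀ g : X, ∀ v ∈ V, g * v * g⁻¹ ∈ T → g * v * g⁻¹ ∈ V := by
  have wc := wc_up hT hV VT TN (fun A hA e h => nf hV le_rfl hs red nq hA
    (fun a ha b hb => by
      rw [commutatorElement_eq_one_iff_mul_comm.2 (el_comm e ha hb)]; exact one_mem _)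
    (fun a ha => by rw [el_sq e ha]; exact one_mem _) h) wc0
  exact ⟨wc, sc hT hV wc VT hs red nq⟩

end Cfsg.Agent.P22.SQ
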