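/-
P22, chapter G: the induction.
-/
import Cfsg.Agent.P22.Defs
import Cfsg.Agent.P22.WCup
import Cfsg.Agent.P19.G1
import Cfsg.Agent.P19.EA
import Cfsg.Agent.P19.EB

set_option autoImplicit false
set_option linter.unusedSectionVars false
set_option linter.style.haveILetI false

namespace Cfsg.Agent.P22

open Subgroup Cfsg Cfsg.Agent Cfsg.Agent.FT
open Cfsg.Agent.H7.SC (oz jj Red oz_le le_cent_oz elemAb_oz norm_le_norm_oz oz_ne_bot le_sup_syl)
open scoped commutatorElement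

universe u

variable {X : Type u} [Group X] [Finite X]

namespace GG

theorem loc (TR : TRStmt.{u}) (M1 : M1Stmt.{u}) (M2 : M2Stmt.{u}) (M3 : M3Stmt.{u})
    {T V : Subgroup X} (hT : IsSyl 2 T ⊤) (hV : IsElementaryAbelian 2 V) (VT : V ≤ T)
    (TN : T ≤ 𝐍(V)) (JC : jj T ≤ 𝐂(V)) (NJ : 𝐍(jj T) ≤ 𝐍(V)) (hs : Group.IsSolvable 𝐍(V))
    (red : Red 𝐍(V) V) (nq : ∀ y ∈ 𝐍(V), y ^ 3 ∈ 𝐂(V) → 𝐂[y].relIndex V ≠ 4) (sq : SNF 𝐍(V) V)
    (ns : ¬ Group.IsSolvable X) : Q2 ⊤ V ∨ ∃ A y a g, P19.E2 (T ⊓ 𝐂(V)) A y a g := by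
  have vh : VH (T ⊓ 𝐂(V)) V := ⟨hV, (hT.of_le TN le_top).inf_normal Nat.prime_two
    ⟨cent_le_norm _, H1.le_normalizer_centralizer le_rfl⟩, by
      rwa [jj, H5.thompsonSubgroupOf_eq_of_le inf_le_left (le_inf (P19.jj_le T) JC)],
    fun A a b c d => SQ.nf hV le_rfl hs red nq a b c d, sq⟩
  rcases M1 X _ V vh with h | ⟨J, A, s⟩
  · exact .inl (TR X T V hT VT hV (fun b hb g _ => (SQ.sc' hT hV VT TN hs red nq
      fun g e => h g (e.trans inf_le_right)).2 g b hb) hs ns)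
  rcases M2 X _ V J A s with h | ⟨g, a, b, c, d⟩
  · exact .inl h
  · exact .inr ⟨A, M3 X _ V J A s g a b c d⟩

section map

variable {Y : Type u} [Group Y] [Finite Y] {f : Y →* X} (hf : Function.Injective f)
include hf

theorem mc {V : Subgroup Y} {y : Y} : f y ∈ 𝐂(V.map f) ↔ y ∈ 𝐂(V) := by
  rw [← zpowers_le, ← zpowers_le, ← MonoidHom.map_zpowers, map_le_cent_iff hf]

theorem mc1 {x y : Y} : f y ∈ 𝐂[f x] ↔ y ∈ 𝐂[x] := by
  rw [← cent_zpowers, ← cent_zpowers, ← MonoidHom.map_zpowers, mc hf]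

theorem ri (A V : Subgroup Y) : 𝐂(A.map f).relIndex (V.map f) = 𝐂(A).relIndex V := by
  rw [← relIndex_comap]
  congr 1
  exact Subgroup.ext fun _ => mc hf

theorem qp {Γ M : Subgroup Y} (h : QP (Γ.map f) (M.map f)) : QP Γ M :=
  fun S P0 P a b c d e g => h (S.map f) (P0.map f) (P.map f) (map_mono a)
    (by rw [← Subgroup.map_sup]; exact map_mono b) (map_mono c)
    (by rwa [relIndex_map_map_of_injective _ _ hf]) ((map_le_norm_iff hf).2 e)
    ((map_le_norm_iff hf).2 g)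

theorem red {L V : Subgroup Y} (h : Red (L.map f) (V.map f)) : Red L V := fun K hK hk =>
  (map_le_cent_iff hf).1 (h _ ⟨map_mono hK.1, (map_le_norm_iff hf).2 hK.2⟩ (by
    rintro _ ⟨k, hk', rfl⟩
    obtain ⟨n, e⟩ := hk k hk'
    exact ⟨n, by rwa [← map_pow, mc hf]⟩))

theorem snf {L V : Subgroup Y} (h : SNF (L.map f) (V.map f)) : SNF L V := fun A a b c => by
  have := h (A.map f) (map_mono a) (by rwa [← map_commutator, map_le_cent_iff hf])
    (by rwa [map_le_cent_iff hf])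
  rwa [ri hf, ri hf] at this

theorem q2 {V : Subgroup Y} (h : Q2 ⊤ V) : Q2 (𝐍(V).map f) (V.map f) := by
  obtain ⟨V0, D, a, b, c, d⟩ := h
  have c1 : D ≤ 𝐍(V) := c.trans (inf_le_left.trans inf_le_right)
  refine ⟨V0.map f, D.map f, map_mono a, by rwa [relIndex_map_map_of_injective _ _ hf],
    le_inf (le_inf (map_mono c1) ((map_le_norm_iff hf).2 c1))
      ((map_le_cent_iff hf).2 (c.trans inf_le_right)), ?_⟩
  rintro _ ⟨x, hx, rfl⟩ x0 _ ⟨y, hy, rfl⟩ y0
  obtain ⟨e, he, k⟩ := d x hx (fun r => x0 (mem_map_of_mem f r)) y hy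
    fun r => y0 (mem_map_of_mem f r)
  exact ⟨f e, mem_map_of_mem f he, by simpa using mem_map_of_mem f k⟩

theorem e2 {T A : Subgroup Y} {y a g : Y} (s : P19.E2 T A y a g) :
    P19.E2 (T.map f) (A.map f) (f y) (f a) (f g) := by
  have h1 := (map_inf_cent1 hf T y).symm
  have h2 : T.map f ⊓ 𝐍(jj (T.map f ⊓ 𝐂[f y])) = (T ⊓ 𝐍(jj (T ⊓ 𝐂[y]))).map f := by
    rw [h1, jj, H5.thompsonSubgroupOf_map_of_injective f hf, map_inf_norm hf]
  refine ⟨s.two.map f, mem_map_of_mem f s.yT, by rw [← map_mul, s.yy, map_one], ?_, ?_,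
    mem_map_of_mem f s.ha, mt (mc1 hf).1 s.ay, ?_, ?_⟩
  · rw [h2, h1, relIndex_map_map_of_injective _ _ hf, s.idx]
  · rw [h2]
    exact H5.map_mem_elemMax f (by rw [(MonoidHom.ker_eq_bot_iff f).2 hf, bot_inf_eq]) s.hA
  · rw [h1]
    exact (map_le_norm_iff hf).2 le_rfl (mem_map_of_mem f s.gn)
  · rw [← map_commutatorElement, ← map_inv, ← map_mul, ← map_mul, mc1 hf]
    exact s.gz

end map

end GG

open GG in
theorem core_of (NQ : NQStmt.{u}) (N4 : N4Stmt.{u}) (SQ : SQStmt.{u}) (TR : TRStmt.{u})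
    (M1 : M1Stmt.{u}) (M2 : M2Stmt.{u}) (M3 : M3Stmt.{u}) : CoreStmt.{u} := by
  intro X _ _
  induction hn : Nat.card X using Nat.strong_induction_on generalizing X with
  | _ n ih =>
  intro G hG h
  by_contra ns
  have hf := G.subtype_injective
  have mt : (⊤ : Subgroup G).map G.subtype = G := by rw [← MonoidHom.range_eq_map, range_subtype]
  obtain ⟨T', hT'⟩ := exists_isSyl Nat.prime_two (⊤ : Subgroup G)
  have hT : IsSyl 2 (T'.map G.subtype) G := by
    have := (isSyl_map_iff hf).2 hT'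
    rwa [mt] at this
  have jm : jj (T'.map G.subtype) = (jj T').map G.subtype :=
    H5.thompsonSubgroupOf_map_of_injective _ hf T'
  generalize eT : T'.map G.subtype = T at hT jm
  have T0 : T ≠ ⊥ := hT.ne_bot Nat.prime_two (even_iff_two_dvd.1
    (Nat.not_odd_iff_even.1 fun e => ns (feit_thompson G e)))
  have NJ : 𝐍(T) ≤ 𝐍(jj T) := H5.normalizer_le_normalizer_thompsonSubgroupOf T
  have TE : T ≤ G ⊓ 𝐍(jj T) := le_inf hT.le ((le_norm_self T).trans NJ)
  have ZC : oz T ≤ 𝐂(jj T) := (cent_comm.1 (le_cent_oz T)).trans (cent_anti (P19.jj_le T))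
  have v1 : H2.nclIn (G ⊓ 𝐍(jj T)) (oz T) ≤ oz (jj T) := H2.nclIn_le_of_normal
    (le_omegaOne_of_elemAb (le_inf (P19.le_jj (elemAb_oz T) (oz_le T) ZC) ZC) (elemAb_oz T))
    (inf_le_right.trans (norm_le_norm_oz _))
  have v3 := H2.le_normalizer_nclIn (G ⊓ 𝐍(jj T)) (oz T)
  have v4 : Red (G ⊓ 𝐍(jj T)) (H2.nclIn (G ⊓ 𝐍(jj T)) (oz T)) := fun K hK hk => by
    have h7 : K ≤ 𝐂(oz T) := (le_sup_syl (hK.1.trans (H1.le_normalizer_centralizer v3))
      ((hT.of_le TE inf_le_left).inf_normal Nat.prime_two hK) hk).trans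
      (sup_le (inf_le_left.trans (le_cent_oz T)) (cent_anti (H2.le_nclIn _ _)))
    rw [cent_comm]
    exact H2.nclIn_le_of_normal (cent_comm.1 h7) (H1.le_normalizer_centralizer hK.2)
  have v5 : 𝐍(T) ≤ 𝐍(H2.nclIn (G ⊓ 𝐍(jj T)) (oz T)) := fun x hx => by
    rw [H2.mem_normalizer_iff_conj_smul, H2.conj_smul_nclIn,
      H2.mem_normalizer_iff_conj_smul.1 (norm_le_norm_oz T hx),
      H2.mem_normalizer_iff_conj_smul.1 (H1.le_normalizer_inf
        (le_normalizer_of_normal (K := 𝐍(T))) (NJ.trans (le_norm_self _)) hx)]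
  have v6 : H2.nclIn (G ⊓ 𝐍(jj T)) (oz T) ≠ ⊥ := fun e =>
    oz_ne_bot hT.pgrp T0 (eq_bot_iff.2 (e ▸ H2.le_nclIn _ _))
  generalize H2.nclIn (G ⊓ 𝐍(jj T)) (oz T) = V at v1 v3 v4 v5 v6
  have v2 := elemAb_of_le v1 (elemAb_oz _)
  have VT : V ≤ T := v1.trans ((oz_le _).trans (P19.jj_le T))
  have fr : G ⊔ 𝐍(T) = ⊤ := by
    simpa using hT.frattini Nat.prime_two (M := ⊤) ⟨le_top, le_normalizer_of_normal⟩
  by_cases e : 𝐍(V) = ⊤
  · have := normalizer_eq_top_iff.1 e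
    have := P19.solv_two (hT.pgrp.to_le VT)
    have hπ := QuotientGroup.mk'_surjective V
    have cm : (G.map (QuotientGroup.mk' V)).comap (QuotientGroup.mk' V) = G := by
      rw [comap_map_eq, QuotientGroup.ker_mk', sup_eq_left.2 (VT.trans hT.le)]
    refine ns (L.isSolvable_of_map_mk' V G (ih _ (by
      rw [← hn, ← V.card_mul_index]
      exact lt_mul_of_one_lt_left (Nat.pos_of_ne_zero index_ne_zero_of_finite)
        ((one_lt_card_iff_ne_bot V).2 v6)) (X ⧸ V) rfl _ (hG.map _ hπ)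
      fun S P0 P a b c d e g => h (S.comap _) (P0.comap _) (P.comap (QuotientGroup.mk' V)) le_top
        (by rw [← cm, comap_sup_eq _ _ _ hπ]; exact comap_mono b) (cm ▸ comap_mono c)
        (by rwa [relIndex_comap, map_comap_eq_self_of_surjective hπ])
        ((comap_mono e).trans (le_normalizer_comap _)) ((comap_mono g).trans (le_normalizer_comap _))))
  have q1 : QP 𝐍(V) (G ⊓ 𝐍(V)) := fun S P0 P a b c => h S P0 P le_top
    (fr ▸ sup_le le_sup_right (v5.trans (b.trans (sup_le_sup_left inf_le_left S))))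
    (c.trans inf_le_left)
  have sol : Group.IsSolvable (G ⊓ 𝐍(V) : Subgroup X) := by
    have := ih _ (hn ▸ L.card_lt_of_ne_top e) 𝐍(V) rfl (G.subgroupOf 𝐍(V)) inferInstance
      (qp 𝐍(V).subtype_injective (by
        rwa [← MonoidHom.range_eq_map, range_subtype, subgroupOf_map_subtype]))
    rw [← subgroupOf_map_subtype]
    exact L.isSolvable_map _ _
  have TM : T ≤ G ⊓ 𝐍(V) := le_inf hT.le ((le_norm_self T).trans v5)
  have rd : Red (G ⊓ 𝐍(V)) V := v4.up (hT.of_le TM inf_le_left) TE (le_inf inf_le_left v3)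
    inf_le_right
  have l : Loc 𝐍(V) (G ⊓ 𝐍(V)) V := ⟨⟨inf_le_right, H1.le_normalizer_inf le_normalizer_of_normal
    (le_norm_self _)⟩, v2, VT.trans TM, le_rfl, sol, rd, q1⟩
  obtain ⟨a1, a2⟩ := NQ X _ _ _ l
  have sq := SQ X _ _ sol v2 inf_le_right rd a1 (N4 X _ _ _ l a1)
  obtain ⟨a3, a4⟩ := a2 sq
  obtain ⟨V', rfl⟩ : ∃ V' : Subgroup G, V'.map G.subtype = V :=
    ⟨V.subgroupOf G, by rw [subgroupOf_map_subtype, inf_eq_left.2 (VT.trans hT.le)]⟩
  have eM : G ⊓ 𝐍(V'.map G.subtype) = 𝐍(V').map G.subtype := by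
    have := map_inf_norm hf ⊤ V'
    rwa [mt, top_inf_eq, eq_comm] at this
  rw [eM] at sol rd sq a3 a4
  subst eT
  rcases loc TR M1 M2 M3 hT' ((isElemAb_map_iff hf).1 v2) ((map_le_map_iff_of_injective hf).1 VT)
    ((map_le_norm_iff hf).1 (TM.trans inf_le_right))
    ((map_le_cent_iff hf).1 (jm ▸ cent_comm.1 (v1.trans (cent_comm.1 (le_cent_oz _)))))
    ((map_le_norm_iff hf).1 (le_trans (le_inf (map_subtype_le _)
      (jm ▸ (map_le_norm_iff hf).2 le_rfl)) v3)) ((isSolvable_map_iff hf).1 sol) (red hf rd)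
    (fun y hy k => by
      have := a4 _ (mem_map_of_mem _ hy) (by rwa [← map_pow, mc hf])
      rwa [← cent_zpowers, ← MonoidHom.map_zpowers, ri hf, cent_zpowers] at this)
    (snf hf sq) ns with k | ⟨A, y, a, g, s⟩
  · exact a3 (q2 hf k)
  have s := e2 hf s
  rw [map_inf_cent hf] at s
  have nR : 𝐍(T'.map G.subtype) ≤ 𝐍(T'.map G.subtype ⊓ 𝐂(V'.map G.subtype)) :=
    H1.le_normalizer_inf le_rfl (H1.le_normalizer_centralizer v5)
  obtain ⟨t, t1, t2, t3⟩ := P19.exists_inv_mem (P19.two_dvd_card (s.two.to_le inf_le_left)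
    ((em _).elim (fun k => P19.ebStmt P19.kcStmt P19.orbStmt X _ _ _ _ _ s k _ nR)
      fun k => P19.eaStmt P19.kcStmt P19.orbStmt X _ _ _ _ _ s k _ nR))
  have : Fact (Nat.Prime 2) := ⟨Nat.prime_two⟩
  exact h _ ⊥ (zpowers t) le_top (by rw [sup_comm, fr]) (zpowers_le.2 (hT.le t1.1.1))
    (by rw [relIndex_bot_left, Nat.card_zpowers, orderOf_eq_prime t2 t3])
    ((cent_comm.1 (zpowers_le.2 t1.2)).trans (cent_le_norm _)) le_normalizer_of_normal

end Cfsg.Agent.P22
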