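/-
P22: offenders and transvections on the conjugates of `V`; basic facts on `Sel`.
-/
import Cfsg.Agent.P22.Defs

set_option autoImplicit false
set_option linter.unusedSectionVars false
set_option linter.style.haveILetI false

namespace Cfsg.Agent.P22

open Subgroup Cfsg Cfsg.Agent Cfsg.Agent.FT
open Cfsg.Agent.H7.SC (oz jj oz_le le_cent_oz elemAb_oz)
open Cfsg.Agent.H5 (elemMax)
open Cfsg.Agent.P19 (jj_conj em_conj elemAb_conj two_conj le_cent_self offender)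
open scoped commutatorElement

universe u

variable {X : Type u} [Group X] [Finite X]

namespace VH

variable {R V : Subgroup X} (v : VH R V)
include v

theorem vc : V ≤ 𝐂(V) := le_cent_self v.el

theorem rc : R ≤ 𝐂(V) := v.syl.le

theorem two : IsPGroup 2 R := v.syl.pgrp

theorem off0 {P A : Subgroup X} (hA : A ∈ elemMax 2 P) (h1 : V ≤ P) (h2 : A ≤ 𝐍(V)) :
    A ≤ 𝐂(V) := by
  refine v.nf A h2 (fun a ha b hb => ?_) (fun a ha => ?_)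
    ((relIndex_le_of_le_left (le_cent_self hA.2.1) (H2.relIndex_pos _ _).ne').trans
      (offender hA v.el h1))
  · rw [commutatorElement_eq_one_iff_mul_comm.2 (le_cent_self hA.2.1 hb a ha)]
    exact one_mem _
  · rw [← pow_two, hA.2.1.2 a ha]
    exact one_mem _

/-- (o) -/
theorem off {P A : Subgroup X} (hA : A ∈ elemMax 2 P) {k : X} (h1 : V ^ᵍ k ≤ P)
    (h2 : A ≤ 𝐍(V ^ᵍ k)) : A ≤ 𝐂(V ^ᵍ k) := by
  rw [norm_conj, le_conj_iff] at h2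
  rw [cent_conj, le_conj_iff]
  exact v.off0 (em_conj hA k⁻¹) (conj_le_iff.1 h1) h2

theorem tv0 {t : X} (ht : t ∈ 𝐍(V)) (h : 𝐂[t].relIndex V ≤ 2) : t ∈ 𝐂(V) := by
  by_contra e
  have h1 := H2.relIndex_pos 𝐂[t] V
  have h2 : 𝐂[t].relIndex V ≠ 1 := fun e' => e (mem_cent_iff_cent1.2 (relIndex_eq_one.1 e'))
  have h3 : 𝐂[t].relIndex V = 2 := by omega
  have h4 := v.sq (zpowers t) (zpowers_le.2 ht) (commutator_le.2 fun w hw s hs => by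
    have n1 : s ∈ 𝐍(V) := zpowers_le.2 ht hs
    have n2 : s ∈ 𝐂[t] := zpowers_le.2 (self_mem_cent1 t) hs
    have w1 : s * w⁻¹ * s⁻¹ ∈ V := (mem_normalizer_iff.1 n1 _).1 (inv_mem hw)
    rw [cent_zpowers, show ⁅w, s⁆ = w * (s * w⁻¹ * s⁻¹) by group]
    exact (mul_mem_iff_of_index_two (H := 𝐂[t].subgroupOf V) h3 (a := ⟨w, hw⟩) (b := ⟨_, w1⟩)).2 (by
      change w ∈ 𝐂[t] ↔ s * w⁻¹ * s⁻¹ ∈ 𝐂[t]
      rw [mul_mem_cancel_right (inv_mem n2), mul_mem_cancel_left n2, inv_mem_iff]))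
    fun e' => e (e' (mem_zpowers t))
  have h5 := H2.relIndex_pos 𝐂(V) (zpowers t)
  have h6 : 𝐂(V).relIndex (zpowers t) ≠ 1 := fun e' => e (relIndex_eq_one.1 e' (mem_zpowers t))
  rw [cent_zpowers, h3] at h4
  have h7 : 2 ^ 2 ≤ 𝐂(V).relIndex (zpowers t) ^ 2 := Nat.pow_le_pow_left (by omega) 2
  omega

/-- (tv) -/
theorem tv {t g : X} (ht : t ∈ 𝐍(V ^ᵍ g)) (h : 𝐂[t].relIndex (V ^ᵍ g) ≤ 2) : t ∈ 𝐂(V ^ᵍ g) := by
  rw [norm_conj, mem_conj] at ht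
  rw [cent_conj, mem_conj]
  refine v.tv0 ht ?_
  rwa [← relIndex_conj _ V g, ← cent1_conj, show g * (g⁻¹ * t * g) * g⁻¹ = t by group]

end VH

namespace Sel

variable {R V J A : Subgroup X} (s : Sel R V J A)
include s

theorem le_R : J ≤ R ⊓ 𝐍(J) := le_inf s.le (le_norm_self J)

theorem el : IsElementaryAbelian 2 A := s.hA.2.1

theorem A_le : A ≤ 𝐍(J) := s.hA.1.trans inf_le_right

theorem z_le {h : X} (hh : h ∈ 𝐍(J)) : V ^ᵍ h ≤ J := conj_le_of_mem_norm s.zle hh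

theorem le_cz {h : X} (hh : h ∈ 𝐍(J)) : J ≤ 𝐂(V ^ᵍ h) := by
  rw [← conj_eq_of_mem_norm hh]
  exact conj_le_cent_iff.2 (s.le.trans s.vh.rc)

theorem A_cz : A ≤ 𝐂(V) := (s.hA.1.trans inf_le_left).trans s.vh.rc

theorem off {h k : X} (hh : h ∈ 𝐍(J)) (hk : k ∈ 𝐍(J)) (e : A ^ᵍ h ≤ 𝐍(V ^ᵍ k)) :
    A ^ᵍ h ≤ 𝐂(V ^ᵍ k) :=
  s.vh.off (em_conj s.hA h) ((s.z_le hk).trans
    ((conj_eq_of_mem_norm hh).ge.trans (conj_mono s.le_R h))) e

/-- (m5) -/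
theorem fix {h k : X} (hh : h ∈ 𝐍(J)) (hk : k ∈ 𝐍(J)) (e : A ^ᵍ h ≤ 𝐍(V ^ᵍ k)) :
    V ^ᵍ k = V ^ᵍ h := by
  by_contra hne
  have h1 : IsPGroup 2 (A ^ᵍ h) := two_conj (elemAb_isPGroup s.el) h
  have h2 := s.uniq (A ^ᵍ h ⊔ J) (isPGroup_sup h1 (s.vh.two.to_le s.le)
    (conj_le_of_mem s.A_le hh)) le_sup_right k hk h hh
    (sup_le (s.off hh hk e) (s.le_cz hk))
    (sup_le (conj_le_cent_iff.2 s.A_cz) (s.le_cz hh)) hne
  have h3 : A ^ᵍ h ⊔ J = (A ⊔ J) ^ᵍ h := by rw [conj_sup, conj_eq_of_mem_norm hh]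
  rw [h3, jj_conj, conj_eq_iff, conj_eq_of_mem_norm (inv_mem hh)] at h2
  exact s.nA (h2 ▸ H5.le_thompsonSubgroupOf
    (H5.mem_elemMax_of_le (sup_le s.hA.1 s.le_R) s.hA le_sup_left))

theorem ncl_le {L : Subgroup X} (hL : L ≤ 𝐍(J)) : H2.nclIn L V ≤ J ⊓ 𝐂(J) :=
  H2.nclIn_le_iff.2 fun _ hh => le_inf (s.z_le (hL hh)) (cent_comm.1 (s.le_cz (hL hh)))

theorem ncl_el {L : Subgroup X} (hL : L ≤ 𝐍(J)) : IsElementaryAbelian 2 (H2.nclIn L V) := by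
  have h1 := s.ncl_le hL
  refine elemAb_of_le (B := oz J) (H2.nclIn_le_iff.2 fun h hh => ?_) (elemAb_oz J)
  exact le_omegaOne_of_elemAb ((H2.conj_le_nclIn _ hh).trans h1) (elemAb_conj s.vh.el h)

end Sel

end Cfsg.Agent.P22
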