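/-
P22, chapter M1: selection of `J` and of a quadratic offender.
-/
import Cfsg.Agent.P22.Defs
import Cfsg.Agent.P19.M1

set_option autoImplicit false
set_option linter.unusedSectionVars false
set_option linter.style.haveILetI false

namespace Cfsg.Agent.P22

open Subgroup Cfsg Cfsg.Agent Cfsg.Agent.FT
open Cfsg.Agent.H7.SC (oz jj oz_le le_cent_oz elemAb_oz)
open Cfsg.Agent.H5 (elemMax)
open Cfsg.Agent.P19 (jj_conj elemAb_conj two_conj le_cent_self jj_le jj_jj le_jj offender exists_quad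
  lv lv_jj jj_eq_of_lv jj_weak)
open scoped commutatorElement

universe u

variable {X : Type u} [Group X] [Finite X]

namespace M1

/-- Two different conjugates of `V` are central in the 2-group `P`. -/
def PP (V P : Subgroup X) : Prop := IsPGroup 2 P ∧ ∃ x y : X, V ^ᵍ x ≠ V ^ᵍ y ∧
  V ^ᵍ x ≤ P ⊓ 𝐂(P) ∧ V ^ᵍ y ≤ P ⊓ 𝐂(P)

theorem PP.conj {V P : Subgroup X} (h : PP V P) (g : X) : PP V (P ^ᵍ g) := by
  obtain ⟨h1, x, y, h2, h3, h4⟩ := h
  refine ⟨two_conj h1 g, g * x, g * y, ?_, ?_, ?_⟩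
  · rw [← conj_conj, ← conj_conj]
    exact fun e => h2 (conj_inj.1 e)
  all_goals rw [← conj_conj, cent_conj, ← conj_inf]
  exacts [conj_mono h3 g, conj_mono h4 g]

theorem PP.jj {V P : Subgroup X} (el : IsElementaryAbelian 2 V) (h : PP V P) : PP V (jj P) := by
  obtain ⟨h1, x, y, h2, h3, h4⟩ := h
  have k : ∀ x : X, V ^ᵍ x ≤ P ⊓ 𝐂(P) → V ^ᵍ x ≤ H7.SC.jj P ⊓ 𝐂(H7.SC.jj P) := fun x h =>
    have e := (h.trans inf_le_right).trans (cent_anti (jj_le P))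
    le_inf (le_jj (elemAb_conj el x) (h.trans inf_le_left) e) e
  exact ⟨h1.to_le (jj_le P), x, y, h2, k x h3, k y h4⟩

/-- Maximal level. -/
def Mx (V J : Subgroup X) : Prop := PP V J ∧ ∀ Q, PP V Q → J ≤ Q → jj Q = J

theorem exists_mx {V P : Subgroup X} (el : IsElementaryAbelian 2 V) (h : PP V P) : ∃ J, Mx V J := by
  obtain ⟨P, h1, h2⟩ := Set.exists_max_image {P | PP V P} lv (Set.toFinite _) ⟨P, h⟩
  exact ⟨jj P, PP.jj el h1, fun Q hQ e => by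
    rw [jj_eq_of_lv e (by rw [lv_jj]; exact h2 Q hQ), jj_jj]⟩

namespace Mx

variable {R V J : Subgroup X} (m : Mx V J)
include m

theorem conj (g : X) : Mx V (J ^ᵍ g) := ⟨m.1.conj g, fun Q hQ e => by
  have := m.2 _ (hQ.conj g⁻¹) (conj_le_iff.1 e)
  rwa [jj_conj, conj_eq_iff, inv_inv] at this⟩

theorem other (x : X) : ∃ c : X, V ^ᵍ c ≠ V ^ᵍ x ∧ V ^ᵍ c ≤ J ⊓ 𝐂(J) := by
  obtain ⟨-, a, b, h1, h2, h3⟩ := m.1
  by_cases e : V ^ᵍ a = V ^ᵍ x
  · exact ⟨b, fun e' => h1 (e.trans e'.symm), h3⟩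
  · exact ⟨a, e, h2⟩

theorem mem (el : IsElementaryAbelian 2 V) {x : X} (h : V ^ᵍ x ≤ 𝐂(J)) : V ^ᵍ x ≤ J := by
  obtain ⟨c, c1, c2⟩ := m.other x
  have e := elemAb_conj el x
  have h1 := m.2 (V ^ᵍ x ⊔ J) ⟨isPGroup_sup (elemAb_isPGroup e) m.1.1
    (h.trans (cent_le_norm J)), c, x, c1, le_inf ((c2.trans inf_le_left).trans le_sup_right) ?_,
    le_inf le_sup_left ?_⟩ le_sup_right
  · exact h1 ▸ le_jj e le_sup_left (h1.symm ▸ h)
  · rw [cent_sup]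
    exact le_inf ((c2.trans inf_le_left).trans (cent_comm.1 h)) (c2.trans inf_le_right)
  · rw [cent_sup]
    exact le_inf (le_cent_self e) h

theorem uniq (el : IsElementaryAbelian 2 V) {Q : Subgroup X} (hQ : IsPGroup 2 Q) (hJ : J ≤ Q)
    {h k : X} (h1 : Q ≤ 𝐂(V ^ᵍ h)) (h2 : Q ≤ 𝐂(V ^ᵍ k)) (hne : V ^ᵍ h ≠ V ^ᵍ k) : jj Q = J :=
  m.2 Q ⟨hQ, h, k, hne, le_inf ((m.mem el (cent_comm.1 (hJ.trans h1))).trans hJ) (cent_comm.1 h1),
    le_inf ((m.mem el (cent_comm.1 (hJ.trans h2))).trans hJ) (cent_comm.1 h2)⟩ hJ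

omit m in
theorem syl_cent (v : VH R V) (x : X) : IsSyl 2 (R ^ᵍ x) 𝐂(V ^ᵍ x) := by
  rw [cent_conj]; exact v.syl.conj x

theorem ne_jj (v : VH R V) (w : X) : jj R ^ᵍ w ≠ J := by
  intro e
  have k : ∀ y : X, V ^ᵍ y ≤ J ⊓ 𝐂(J) → V ^ᵍ y = V ^ᵍ w := fun y hy => by
    obtain ⟨d, hd, e'⟩ := (syl_cent v y).exists_le_conj Nat.prime_two m.1.1
      (cent_comm.1 (hy.trans inf_le_right))
    rw [← e, conj_conj, le_conj_iff, conj_conj] at e'
    have h1 := conj_eq_of_mem_norm (v.nj (jj_weak e'))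
    rw [← conj_conj, conj_eq_iff, inv_inv, ← conj_conj,
      conj_eq_of_mem_norm (cent_le_norm _ hd)] at h1
    exact h1.symm
  obtain ⟨c, c1, c2⟩ := m.other w
  exact c1 (k c c2)

theorem m3 (v : VH R V) {x : X} {T1 : Subgroup X}
    (h1 : IsSyl 2 T1 (𝐂(V ^ᵍ x) ⊓ 𝐍(J))) : jj T1 ≠ J := by
  intro e
  obtain ⟨c, hc, e'⟩ := (syl_cent v x).exists_le_conj Nat.prime_two h1.pgrp
    (h1.le.trans inf_le_left)
  have hS := (syl_cent v x).conj_of_mem_norm (le_norm_self _ hc)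
  have h2 : T1 = (R ^ᵍ x) ^ᵍ c := by
    by_contra hne
    have h3 := lt_inf_norm_of_isNilpotent (isNilpotent_of_isPGroup Nat.prime_two hS.pgrp)
      (lt_of_le_of_ne e' hne)
    exact h3.ne' (h1.eq_of_le Nat.prime_two h3.le (inf_le_inf hS.le
      (e ▸ H5.normalizer_le_normalizer_thompsonSubgroupOf T1)) (hS.pgrp.to_le inf_le_left))
  rw [h2, conj_conj, jj_conj] at e
  exact m.ne_jj v _ e

end Mx

/-- Offenders centralize `V`. -/
theorem jj_cent {R V T : Subgroup X} (v : VH R V) (h1 : V ≤ T) (h2 : T ≤ 𝐍(V)) : jj T ≤ 𝐂(V) := by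
  rw [jj, H5.thompsonSubgroupOf_eq_sSup]
  refine sSup_le fun B hB => v.nf B (hB.1.trans h2) (fun a ha b hb => ?_) (fun a ha => ?_)
    ((relIndex_le_of_le_left (le_cent_self hB.2.1) (H2.relIndex_pos _ _).ne').trans
      (offender hB v.el h1))
  · rw [commutatorElement_eq_one_iff_mul_comm.2 (le_cent_self hB.2.1 hb a ha)]
    exact one_mem _
  · rw [← pow_two, hB.2.1.2 a ha]
    exact one_mem _

end M1

open M1 in
theorem m1Stmt : M1Stmt.{u} := by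
  intro X _ _ R V v
  by_cases hw : CC V
  · exact Or.inl hw
  right
  have el := v.el
  obtain ⟨g, g1, g2⟩ : ∃ g : X, V ^ᵍ g ≤ 𝐂(V) ∧ V ^ᵍ g ≠ V := by
    by_contra h
    exact hw fun g hg => by_contra fun e => h ⟨g, hg, e⟩
  have e1 : IsElementaryAbelian 2 (V ⊔ V ^ᵍ g) := elemAb_sup el (elemAb_conj el g) g1
  obtain ⟨J0, m0⟩ := exists_mx el (V := V) ⟨elemAb_isPGroup e1, g, 1, by rwa [conj_one],
    le_inf le_sup_right (le_sup_right.trans (le_cent_self e1)),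
    by rw [conj_one]; exact le_inf le_sup_left (le_sup_left.trans (le_cent_self e1))⟩
  obtain ⟨x, -, hx⟩ := m0.other 1
  have m1 := m0.conj x⁻¹
  have z0 : J0 ^ᵍ x⁻¹ ≤ 𝐂(V) := by
    rw [← le_conj_iff, ← cent_conj]; exact cent_comm.1 (hx.trans inf_le_right)
  generalize J0 ^ᵍ x⁻¹ = J1 at m1 z0
  obtain ⟨T0, t1, t2⟩ := exists_isSyl_ge Nat.prime_two (M := 𝐂(V) ⊓ 𝐍(J1)) m1.1.1
    (le_inf z0 (le_norm_self J1))
  obtain ⟨w, hw, w0⟩ := v.syl.exists_conj_le Nat.prime_two t1.pgrp (t1.le.trans inf_le_left)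
  have w1 : J1 ^ᵍ w ≤ R := (conj_mono t2 w).trans w0
  have w3 := t1.conj w
  rw [conj_inf, conj_eq_of_mem hw, ← norm_conj] at w3
  have w2 : IsSyl 2 (R ⊓ 𝐍(J1 ^ᵍ w)) (𝐂(V) ⊓ 𝐍(J1 ^ᵍ w)) := by
    rwa [w3.eq_of_le Nat.prime_two (le_inf w0 (w3.le.trans inf_le_right))
      (inf_le_inf_right _ v.syl.le) (v.syl.pgrp.to_le inf_le_left)]
  have m := m1.conj w
  generalize J1 ^ᵍ w = J at w1 w2 m
  have z1 : V ≤ 𝐂(J) := cent_comm.1 (w1.trans v.syl.le)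
  have z2 : V ≤ J := by simpa only [conj_one] using m.mem el (x := 1) (by rwa [conj_one])
  have hR : J ≤ R ⊓ 𝐍(J) := le_inf w1 (le_norm_self J)
  have mv : ¬ 𝐍(J) ≤ 𝐍(V) := fun e => by
    obtain ⟨c, c1, c2⟩ := m.other 1
    obtain ⟨T1, t1, t2⟩ := exists_isSyl_ge Nat.prime_two (M := 𝐂(V ^ᵍ c) ⊓ 𝐍(J)) m.1.1
      (le_inf (cent_comm.1 (c2.trans inf_le_right)) (le_norm_self J))
    have q1 : jj T1 ⊔ J ≤ T1 := sup_le (jj_le _) t2
    have h1 := m.uniq el (t1.pgrp.to_le q1) le_sup_right (h := c) (k := 1)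
      ((q1.trans t1.le).trans inf_le_left) (by
        rw [conj_one]
        exact sup_le (jj_cent v (z2.trans t2) ((t1.le.trans inf_le_right).trans e))
          (cent_comm.1 z1)) c1
    exact m.m3 v t1 ((H5.thompsonSubgroupOf_eq_of_le q1 le_sup_left).symm.trans h1)
  have r1 : jj (R ⊓ 𝐍(J)) ≠ J := m.m3 v (x := 1) (by rwa [conj_one])
  have v1 : H2.nclIn 𝐍(J) V ≤ J ⊓ 𝐂(J) := H2.nclIn_le_iff.2 fun h hh =>
    conj_le_of_mem_norm (le_inf z2 z1) (norm_le_norm_center J hh)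
  have v2 : IsElementaryAbelian 2 (H2.nclIn 𝐍(J) V) :=
    elemAb_of_le (B := oz J) (H2.nclIn_le_iff.2 fun h hh => le_omegaOne_of_elemAb
      ((H2.conj_le_nclIn _ hh).trans v1) (elemAb_conj el h)) (elemAb_oz J)
  obtain ⟨A, a1, a2, a3⟩ := exists_quad w2.pgrp v2 ⟨(v1.trans inf_le_left).trans hR,
    inf_le_right.trans (H2.le_normalizer_nclIn _ _)⟩ fun e => by
      obtain ⟨h, hh, h1⟩ := SetLike.not_le_iff_exists.1 mv
      have q1 : jj (R ⊓ 𝐍(J)) ⊔ J ≤ R ⊓ 𝐍(J) := sup_le (jj_le _) hR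
      have q2 : jj (R ⊓ 𝐍(J)) ⊔ J ≤ 𝐂(H2.nclIn 𝐍(J) V) :=
        sup_le e (cent_comm.1 (v1.trans inf_le_right))
      have q3 := m.uniq el (w2.pgrp.to_le q1) le_sup_right (h := h) (k := 1)
        (q2.trans (cent_anti (H2.conj_le_nclIn _ hh)))
        (q2.trans (cent_anti (H2.conj_le_nclIn _ (one_mem _))))
        fun e' => h1 (conj_eq_self_iff.1 (by rwa [conj_one] at e'))
      exact r1 ((H5.thompsonSubgroupOf_eq_of_le q1 le_sup_left).symm.trans q3)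
  exact ⟨J, A, v, w1, z2, w2, mv, fun Q q1 q2 h _ k _ q3 q4 q5 => m.uniq el q1 q2 q3 q4 q5, a1,
    fun e => a2 (e.trans (cent_comm.1 (v1.trans inf_le_right))), a3⟩

end Cfsg.Agent.P22
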