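/-
P22: duality for a quadratic action.
-/
import Cfsg.Agent.P22.Defs

set_option autoImplicit false
set_option linter.unusedSectionVars false
set_option linter.style.haveILetI false

namespace Cfsg.Agent.P22

open Subgroup Cfsg Cfsg.Agent Cfsg.Agent.FT
open scoped commutatorElement

universe u

theorem card_hom_le (Q : Type*) [Group Q] [Finite Q] : Nat.card (Q →* ℂˣ) ≤ Nat.card Q := by
  haveI : Finite (Abelianization Q) := Finite.of_surjective _ (QuotientGroup.mk_surjective)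
  rw [Nat.card_congr (Abelianization.lift (G := Q) (A := ℂˣ)),
    CommGroup.card_monoidHom_of_hasEnoughRootsOfUnity]
  exact Nat.card_le_card_of_surjective _ QuotientGroup.mk_surjective

theorem index_ker_le {E Q : Type*} [Group E] [Group Q] [Finite Q] (β : E →* (Q →* ℂˣ)) :
    β.ker.index ≤ β.flip.ker.index := by
  haveI : Finite (Abelianization (Q ⧸ β.flip.ker)) :=
    Finite.of_surjective _ (QuotientGroup.mk_surjective)
  haveI : Finite (Q ⧸ β.flip.ker →* ℂˣ) := Nat.finite_of_card_ne_zero (by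
    rw [Nat.card_congr (Abelianization.lift (G := Q ⧸ β.flip.ker) (A := ℂˣ)),
      CommGroup.card_monoidHom_of_hasEnoughRootsOfUnity]
    exact Nat.card_pos.ne')
  rw [index_ker]
  refine le_trans (Nat.card_le_card_of_injective (fun f : β.range => QuotientGroup.lift β.flip.ker f.1
    (fun x hx => by
      obtain ⟨_, e, rfl⟩ := f
      exact DFunLike.congr_fun (MonoidHom.mem_ker.1 hx) e)) fun f g e => Subtype.ext
        (MonoidHom.ext fun x => DFunLike.congr_fun e (x : Q ⧸ β.flip.ker))) (card_hom_le _)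

variable {X : Type u} [Group X] [Finite X]

/-- A subgroup `U0` cut out by a character of `[U, N]`. -/
theorem pair {U N V : Subgroup X} (hU : U ≤ 𝐂(U)) (hn : N ≤ 𝐍(U)) (hq : ⁅N, U⁆ ≤ 𝐂(N))
    (hV : V ≤ U) (h : ¬ N ≤ 𝐂(V)) : ∃ U0 ≤ U, ¬ V ≤ U0 ∧ U ⊓ 𝐂(N) ≤ U0 ∧
      𝐍(U) ⊓ 𝐍(N) ⊓ 𝐂(⁅N, U⁆) ≤ 𝐍(U0) ∧ ∀ W ≤ U, U0.relIndex W ≤ 𝐂(W).relIndex N := by
  haveI := isMulComm_iff_le_cent.2 hU
  letI : CommGroup U := ⟨fun a b => Subtype.ext (hU b.2 a a.2)⟩
  obtain ⟨x0, hx0, e⟩ := SetLike.not_le_iff_exists.1 h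
  obtain ⟨v0, hv0, e⟩ : ∃ v ∈ V, ⁅x0, v⁆ ≠ 1 := by
    by_contra! k
    exact e fun v hv => (commutatorElement_eq_one_iff_mul_comm.1 (k v hv)).symm
  have m : ∀ x ∈ N, ∀ u ∈ U, ⁅x, u⁆ ∈ U := fun x hx u hu =>
    mul_mem ((mem_normalizer_iff.1 (hn hx) u).1 hu) (inv_mem hu)
  obtain ⟨θ, hθ⟩ := CommGroup.exists_apply_ne_one_of_hasEnoughRootsOfUnity U ℂ
    (a := ⟨_, m x0 hx0 v0 (hV hv0)⟩) fun e' => e (congrArg Subtype.val e')
  let β : U →* (N →* ℂˣ) := MonoidHom.mk' (fun u => MonoidHom.mk'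
    (fun x => θ ⟨_, m x x.2 u u.2⟩) fun x y => by
      rw [← map_mul, mul_comm]
      congr 1
      apply Subtype.ext
      have h1 := hq (commutator_mem_commutator y.2 u.2) _ x.2
      calc ⁅((x * y : N) : X), (u : X)⁆ = x * ⁅(y : X), (u : X)⁆ * (x : X)⁻¹ * ⁅(x : X), (u : X)⁆ := by
            rw [coe_mul]; group
        _ = _ := by rw [h1, mul_inv_cancel_right]; rfl) fun u w => MonoidHom.ext fun x => by
      change θ _ = θ _ * θ _
      rw [← map_mul]
      congr 1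
      apply Subtype.ext
      have h1 := hU (m x x.2 w w.2) _ u.2
      calc ⁅(x : X), ((u * w : U) : X)⁆ = ⁅(x : X), (u : X)⁆ * (u * ⁅(x : X), (w : X)⁆) * (u : X)⁻¹ := by
            rw [coe_mul]; group
        _ = _ := by rw [h1, ← mul_assoc, mul_inv_cancel_right]; rfl
  have mem : ∀ u (hu : u ∈ U), u ∈ β.ker.map U.subtype ↔ ∀ x : N, θ ⟨_, m x x.2 u hu⟩ = 1 :=
    fun u hu => (mem_map_iff_mem (x := ⟨u, hu⟩) U.subtype_injective).trans MonoidHom.ext_iff
  refine ⟨β.ker.map U.subtype, map_subtype_le _, fun k => hθ ((mem _ (hV hv0)).1 (k hv0) ⟨x0, hx0⟩),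
    fun u hu => (mem u hu.1).2 fun x => ?_, fun l hl => mem_norm_of_conj_le fun _ hw => ?_,
    fun W hW => ?_⟩
  · rw [← map_one θ]
    congr 1
    exact Subtype.ext (commutatorElement_eq_one_iff_mul_comm.2 (hu.2 x x.2))
  · obtain ⟨u, hu, rfl⟩ := mem_conj'.1 hw
    have uU := map_subtype_le _ hu
    refine (mem _ ((mem_normalizer_iff.1 hl.1.1 u).1 uU)).2 fun x => ?_
    have x' := (mem_normalizer_iff.1 (inv_mem hl.1.2) _).1 x.2
    rw [← (mem u uU).1 hu ⟨_, x'⟩]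
    congr 1
    apply Subtype.ext
    have h1 := hl.2 _ (commutator_mem_commutator x' uU)
    calc ⁅(x : X), l * u * l⁻¹⁆ = l * ⁅l⁻¹ * x * l⁻¹⁻¹, u⁆ * l⁻¹ := by group
      _ = _ := by rw [← h1, mul_inv_cancel_right]
  · have h1 := index_ker_le (β.comp (inclusion hW))
    have h2 : (β.comp (inclusion hW)).ker = (β.ker.map U.subtype).subgroupOf W := by
      ext w
      rw [mem_subgroupOf, mem _ (hW w.2), MonoidHom.mem_ker, MonoidHom.ext_iff]
      rfl
    rw [h2] at h1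
    refine h1.trans (index_antitone fun x hx => MonoidHom.ext fun w => ?_)
    change θ _ = 1
    rw [← map_one θ]
    congr 1
    exact Subtype.ext (commutatorElement_eq_one_iff_mul_comm.2 (hx w w.2).symm)

end Cfsg.Agent.P22
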