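/-
P22, chapter M2: the rank one group generated by two offenders.
-/
import Cfsg.Agent.P22.Pair
import Cfsg.Agent.P19.G1

set_option autoImplicit false
set_option linter.unusedSectionVars false
set_option linter.style.haveILetI false

namespace Cfsg.Agent.P22

open Subgroup Cfsg Cfsg.Agent Cfsg.Agent.FT
open Cfsg.Agent.H7.SC (jj)
open Cfsg.Agent.P19 (jj_conj elemAb_conj two_conj em_conj le_cent_self offender cstab)
open Cfsg.Agent.H5 (elemMax)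
open scoped commutatorElement

universe u

variable {X : Type u} [Group X] [Finite X]

/-- `L` is minimal above `A` and outside `N(Z)`. -/
structure Ml (R V J A L : Subgroup X) : Prop extends Sel R V J A where
  al : A ≤ L
  lh : L ≤ 𝐍(J)
  nl : ¬ L ≤ 𝐍(V)
  mn : ∀ K, A ≤ K → K ≤ L → ¬ K ≤ 𝐍(V) → K = L

theorem Sel.exists_ml {R V J A : Subgroup X} (s : Sel R V J A) : ∃ L, Ml R V J A L := by
  obtain ⟨L, h1, h2⟩ := Set.exists_min_image {L : Subgroup X | A ≤ L ∧ L ≤ 𝐍(J) ∧ ¬ L ≤ 𝐍(V)}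
    (fun L => 𝐨(L)) (Set.toFinite _) ⟨_, s.hA.1.trans inf_le_right, le_rfl, s.mv⟩
  exact ⟨L, s, h1.1, h1.2.1, h1.2.2, fun K k1 k2 k3 =>
    H1.eq_of_le_of_card_le k2 (h2 K ⟨k1, k2.trans h1.2.1, k3⟩)⟩

namespace Ml

variable {R V J A L : Subgroup X} (s : Ml R V J A L)
include s

local notation "U" => H2.nclIn L V

theorem le_R : J ≤ R ⊓ 𝐍(J) := le_inf s.le (le_norm_self J)

theorem el : IsElementaryAbelian 2 A := s.hA.2.1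

theorem z_le {h : X} (hh : h ∈ 𝐍(J)) : V ^ᵍ h ≤ J := conj_le_of_mem_norm s.zle hh

theorem le_cz {h : X} (hh : h ∈ 𝐍(J)) : J ≤ 𝐂(V ^ᵍ h) := by
  rw [← conj_eq_of_mem_norm hh]
  exact conj_le_cent_iff.2 (s.le.trans s.vh.syl.le)

theorem A_cz : A ≤ 𝐂(V) := (s.hA.1.trans inf_le_left).trans s.vh.syl.le

theorem off {g : X} (hg : g ∈ L) : 𝐂(A).relIndex (V ^ᵍ g) ≤ 𝐂(V ^ᵍ g).relIndex A :=
  (relIndex_le_of_le_left (le_cent_self s.el) (H2.relIndex_pos _ _).ne').trans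
    (offender s.hA (elemAb_conj s.vh.el g) ((s.z_le (s.lh hg)).trans s.le_R))

theorem fix {g : X} (hg : g ∈ L) (e : A ≤ 𝐍(V ^ᵍ g)) : g ∈ 𝐍(V) := by
  by_contra hne
  have h0 := elemAb_conj s.el g⁻¹
  have h1 := s.vh.nf (A ^ᵍ g⁻¹) (by rwa [← le_conj_iff, ← norm_conj])
    (fun a ha b hb => by
      rw [commutatorElement_eq_one_iff_mul_comm.2 (le_cent_self h0 hb a ha)]; exact one_mem _)
    (fun a ha => by rw [← pow_two, h0.2 a ha]; exact one_mem _) (by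
      rw [← relIndex_conj _ _ g, ← relIndex_conj 𝐂(V) _ g, ← cent_conj, ← cent_conj, conj_inv_conj]
      exact s.off hg)
  rw [← le_conj_iff, ← cent_conj] at h1
  have h2 := s.uniq (A ⊔ J) (s.syl.pgrp.to_le (sup_le s.hA.1 s.le_R)) le_sup_right g (s.lh hg) 1
    (one_mem _) (sup_le h1 (s.le_cz (s.lh hg)))
    (by rw [conj_one]; exact sup_le s.A_cz (s.le.trans s.vh.syl.le))
    (by rw [conj_one]; exact mt conj_eq_self_iff.1 hne)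
  exact s.nA (h2 ▸ H5.le_thompsonSubgroupOf
    (H5.mem_elemMax_of_le (sup_le s.hA.1 s.le_R) s.hA le_sup_left))

theorem ncl_le : U ≤ J ⊓ 𝐂(J) :=
  H2.nclIn_le_iff.2 fun _ hh => le_inf (s.z_le (s.lh hh)) (cent_comm.1 (s.le_cz (s.lh hh)))

theorem uel : IsElementaryAbelian 2 U :=
  elemAb_of_le (B := H7.SC.oz J) (H2.nclIn_le_iff.2 fun h hh => le_omegaOne_of_elemAb
    ((H2.conj_le_nclIn _ hh).trans s.ncl_le) (elemAb_conj s.vh.el h)) (H7.SC.elemAb_oz J)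

theorem uc : U ≤ 𝐂(U) := le_cent_self s.uel

theorem nu : L ≤ 𝐍(U) := H2.le_normalizer_nclIn _ _

theorem zc : V ≤ U ⊓ 𝐂(A) := le_inf (H2.le_nclIn _ _) (cent_comm.1 s.A_cz)

theorem cconj {g : X} (hg : g ∈ L) : (U ⊓ 𝐂(A)) ^ᵍ g = U ⊓ 𝐂(A ^ᵍ g) := by
  rw [conj_inf, cent_conj, conj_eq_of_mem_norm (s.nu hg)]

theorem cle {g : X} (hg : g ∈ L) : (U ⊓ 𝐂(A)) ^ᵍ g ≤ U := (s.cconj hg).le.trans inf_le_left

theorem n0 : L ≤ 𝐍(U ⊓ 𝐂(L)) := (cent_comm.1 inf_le_right).trans (cent_le_norm _)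

theorem c0le {g : X} (hg : g ∈ L) : U ⊓ 𝐂(L) ≤ (U ⊓ 𝐂(A)) ^ᵍ g := by
  rw [s.cconj hg]
  exact inf_le_inf_left _ (cent_anti (conj_le_of_mem s.al hg))

theorem qd {a v : X} (ha : a ∈ A) (hv : v ∈ U) : ⁅a, v⁆ ∈ U ⊓ 𝐂(A) :=
  mem_inf.2 ⟨mul_mem ((mem_normalizer_iff.1 (s.nu (s.al ha)) v).1 hv) (inv_mem hv),
    le_cent_self s.el (s.quad a ha v (H2.nclIn_mono s.lh le_rfl hv))⟩

theorem qd' : ⁅U, A⁆ ≤ U ⊓ 𝐂(A) := by
  rw [Subgroup.commutator_comm]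
  exact commutator_le.2 fun _ ha _ hv => s.qd ha hv

theorem gen {g a : X} (hg : g ∈ L) (ha : a ∈ L) (h : a ∉ 𝐍(V ^ᵍ g)) :
    L ≤ zpowers a ⊔ A ^ᵍ g := by
  have := s.mn ((zpowers a ⊔ A ^ᵍ g) ^ᵍ g⁻¹) (conj_le_iff.1 le_sup_right)
    (conj_le_of_mem (sup_le (zpowers_le.2 ha) (conj_le_of_mem s.al hg)) (inv_mem hg))
    fun e => h (by
      rw [conj_le_iff, inv_inv, ← norm_conj] at e
      exact e (mem_sup_left (mem_zpowers a)))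
  rw [conj_eq_iff, inv_inv, conj_eq_of_mem hg] at this
  exact this.ge

theorem ex {g : X} (hg : g ∈ L) (h : g ∉ 𝐍(V)) : ∃ a ∈ A, a ∉ 𝐍(V ^ᵍ g) :=
  SetLike.not_le_iff_exists.1 fun e => h (s.fix hg e)

theorem c1 {g a : X} (hg : g ∈ L) (ha : a ∈ A) (h : a ∉ 𝐍(V ^ᵍ g)) :
    U ≤ (U ⊓ 𝐂(A)) ^ᵍ g ⊔ (U ⊓ 𝐂(A)) := by
  have h1 : (U ⊓ 𝐂(A)) ^ᵍ g ⊔ (U ⊓ 𝐂(A)) ≤ U := sup_le (s.cle hg) inf_le_left
  have h2 : L ≤ 𝐍((U ⊓ 𝐂(A)) ^ᵍ g ⊔ (U ⊓ 𝐂(A))) := (s.gen hg (s.al ha) h).trans (sup_le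
    (comm_le_left_iff.1 (((commutator_mono h1 (zpowers_le.2 ha)).trans s.qd').trans le_sup_right))
    (comm_le_left_iff.1 ((commutator_mono h1 le_rfl).trans (le_trans (by
      have := conj_mono s.qd' g
      rwa [conj_comm, conj_eq_of_mem_norm (s.nu hg)] at this) le_sup_left))))
  refine H2.nclIn_le_iff.2 fun l hl => ?_
  have := conj_le_of_mem_norm ((conj_mono s.zc g).trans le_sup_left) (h2 (mul_mem hl (inv_mem hg)))
  rwa [conj_conj, inv_mul_cancel_right] at this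

theorem c2 {g : X} (hg : g ∈ L) (h : g ∉ 𝐍(V)) :
    (U ⊓ 𝐂(A)) ^ᵍ g ⊓ (U ⊓ 𝐂(A)) = U ⊓ 𝐂(L) := by
  obtain ⟨a, ha, h1⟩ := s.ex hg h
  refine le_antisymm (le_inf (inf_le_right.trans inf_le_left) (le_trans ?_
    (cent_anti (s.gen hg (s.al ha) h1)))) (le_inf (s.c0le hg) (inf_le_inf_left _ (cent_anti s.al)))
  rw [cent_sup, s.cconj hg]
  exact le_inf ((inf_le_right.trans inf_le_right).trans (cent_anti (zpowers_le.2 ha)))
    (inf_le_left.trans inf_le_right)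

theorem c4a {g a v : X} (hg : g ∈ L) (ha : a ∈ A) (h : a ∉ 𝐍(V ^ᵍ g)) (hv : v ∈ U)
    (e : ⁅a, v⁆ ∈ U ⊓ 𝐂(L)) : v ∈ U ⊓ 𝐂(A) := by
  obtain ⟨c', hc', c, hc, rfl⟩ := (mem_sup_of_norm ((inf_le_left.trans s.uc).trans
    ((cent_anti (s.cle hg)).trans (cent_le_norm _)))).1 (s.c1 hg ha h hv)
  have e1 : ⁅a, c' * c⁆ = ⁅a, c'⁆ := by
    calc ⁅a, c' * c⁆ = a * c' * (c * a⁻¹) * c⁻¹ * c'⁻¹ := by group
      _ = _ := by rw [← hc.2 _ (inv_mem ha)]; group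
  rw [e1] at e
  have k1 : (U ⊓ 𝐂(L)) ⊔ zpowers c' ≤ (U ⊓ 𝐂(A)) ^ᵍ g := sup_le (s.c0le hg) (zpowers_le.2 hc')
  have k2 : L ≤ 𝐍((U ⊓ 𝐂(L)) ⊔ zpowers c') := (s.gen hg (s.al ha) h).trans (sup_le
    (zpowers_le.2 (mem_norm_of_conj_le (by
      rw [conj_sup, conj_eq_of_mem_norm (s.n0 (s.al ha)), ← zpowers_conj]
      refine sup_le le_sup_left (zpowers_le.2 ?_)
      rw [show a * c' * a⁻¹ = ⁅a, c'⁆ * c' by group]
      exact mul_mem (mem_sup_left e) (mem_sup_right (mem_zpowers _)))))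
    ((cent_comm.1 (k1.trans ((s.cconj hg).le.trans inf_le_right))).trans (cent_le_norm _)))
  rw [← conj_eq_of_mem_norm (k2 hg), conj_le_conj_iff] at k1
  exact mul_mem (k1 (mem_sup_right (mem_zpowers _))) hc

theorem card_c {g : X} (hg : g ∈ L) (h : g ∉ 𝐍(V)) :
    (U ⊓ 𝐂(L)).relIndex (U ⊓ 𝐂(A)) = 𝐂(A).relIndex U := by
  obtain ⟨a, ha, h1⟩ := s.ex hg h
  have h2 := relIndex_sup_of_norm (A := (U ⊓ 𝐂(A)) ^ᵍ g) (B := U ⊓ 𝐂(A))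
    ((inf_le_left.trans s.uc).trans ((cent_anti (s.cle hg)).trans (cent_le_norm _)))
  rw [le_antisymm (sup_le (s.cle hg) inf_le_left) (s.c1 hg ha h1)] at h2
  rw [← s.c2 hg h, inf_relIndex_right, ← h2, ← inf_relIndex_left _ 𝐂(A),
    ← relIndex_conj (U ⊓ 𝐂(A)) U g, conj_eq_of_mem_norm (s.nu hg)]

theorem nz : ¬ V ≤ U ⊓ 𝐂(L) := fun e =>
  s.nl ((cent_comm.1 (e.trans inf_le_right)).trans (cent_le_norm _))

end Ml

end Cfsg.Agent.P22
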