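/-
P22, chapter M2: an element of `A` which normalizes a second conjugate of `V` centralizes `U`.
-/
import Cfsg.Agent.P22.M2a
import Cfsg.Agent.P22.SQ2

set_option autoImplicit false
set_option linter.unusedSectionVars false
set_option linter.style.haveILetI false

namespace Cfsg.Agent.P22

open Subgroup Cfsg Cfsg.Agent Cfsg.Agent.FT
open Cfsg.Agent.P19 (cstab le_cent_self)
open scoped commutatorElement

universe u

theorem card_ne {α : Type*} [Finite α] (a : α) : Nat.card {b // b ≠ a} + 1 = Nat.card α := by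
  classical
  rw [← Nat.card_congr (Equiv.optionSubtypeNe a), Finite.card_option]

variable {X : Type u} [Group X] [Finite X]

namespace Ml

variable {R V J A L : Subgroup X} (s : Ml R V J A L)
include s

local notation "U" => H2.nclIn L V

theorem img {W : Subgroup X} (h0 : U ⊓ 𝐂(L) ≤ W) (hW : ⁅L, U⁆ ≤ W) : V ≤ W := by
  obtain ⟨g, hg, h⟩ := SetLike.not_le_iff_exists.1 s.nl
  obtain ⟨b, hb, hn⟩ := s.ex hg h
  obtain ⟨φ, e, k, -⟩ := SQ.exists_br s.uel (s.nu (s.al hb)) (by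
    rw [← pow_two, s.el.2 b hb]; exact one_mem _)
  have h1 : φ.range ≤ U ⊓ 𝐂(A) := by
    rintro _ ⟨u, rfl⟩
    rw [e, ← commutatorElement_inv]
    exact inv_mem (s.qd hb u.2)
  have h2 : φ.range ⊓ (U ⊓ 𝐂(L)) = ⊥ := eq_bot_iff.2 (by
    rintro _ ⟨⟨u, rfl⟩, e'⟩
    rw [e] at e' ⊢
    exact commutatorElement_eq_one_iff_mul_comm.2 ((s.c4a hg hb hn u.2
      (by rw [← commutatorElement_inv]; exact inv_mem e')).2 b hb).symm)
  have h3 : 𝐂[b].subgroupOf U = 𝐂(A).subgroupOf U := Subgroup.ext fun u =>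
    ⟨fun e' => (s.c4a hg hb hn u.2 (by
      rw [commutatorElement_eq_one_iff_mul_comm.2 (mem_cent1.1 (mem_subgroupOf.1 e'))]
      exact one_mem _)).2,
      fun e' => cent_le_cent1 hb e'⟩
  have h4 : 𝐨(φ.range) = 𝐂(A).relIndex U := by rw [← index_ker, k, h3]; rfl
  have h5 := card_sup_mul_card_inf (A := φ.range) (B := U ⊓ 𝐂(L))
    ((inf_le_left.trans s.uc).trans ((cent_anti (h1.trans inf_le_left)).trans (cent_le_norm _)))
  rw [h2, card_bot, mul_one, h4] at h5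
  have h7 : U ⊓ 𝐂(L) ≤ U ⊓ 𝐂(A) := inf_le_inf_left _ (cent_anti s.al)
  have h6 := H1.card_mul_relIndex h7
  rw [s.card_c hg h] at h6
  refine s.zc.trans ((H1.eq_of_le_of_card_le (sup_le h1 h7) (by
    rw [h5, ← h6, mul_comm])).ge.trans (sup_le ?_ h0))
  rintro _ ⟨u, rfl⟩
  rw [e, ← commutatorElement_inv]
  exact inv_mem (hW (commutator_mem_commutator (s.al hb) u.2))

theorem cm0 {g a v : X} (hg : g ∈ L) (ha : a ∈ A) (e : a ∈ 𝐍(V ^ᵍ g)) (hv : v ∈ V ^ᵍ g) :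
    ⁅a, v⁆ ∈ U ⊓ 𝐂(L) := by
  by_cases h : g ∈ 𝐍(V)
  · rw [conj_eq_of_mem_norm h] at hv
    rw [commutatorElement_eq_one_iff_mul_comm.2 (s.A_cz ha v hv).symm]
    exact one_mem _
  · exact (s.c2 hg h).le ⟨conj_mono s.zc g (mul_mem ((mem_normalizer_iff.1 e v).1 hv) (inv_mem hv)),
      s.qd ha (H2.conj_le_nclIn _ hg hv)⟩

theorem ind {g l a : X} (hg : g ∈ L) (h : g ∉ 𝐍(V)) (hl : l ∈ L) (ha : a ∈ A)
    (e : a ∈ 𝐍(V ^ᵍ g)) : a ∈ 𝐍(V ^ᵍ l) := by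
  by_contra hn
  obtain ⟨v, hv, hv0⟩ := SetLike.not_le_iff_exists.1 fun e : V ^ᵍ g ≤ U ⊓ 𝐂(L) =>
    s.nz (by rwa [conj_le_iff, conj_eq_of_mem_norm (s.n0 (inv_mem hg))] at e)
  exact hv0 ((s.c2 hg h).le ⟨conj_mono s.zc g hv,
    s.c4a hl ha hn (H2.conj_le_nclIn _ hg hv) (s.cm0 hg ha e hv)⟩)

/-- A maximal submodule which does not contain `V`. -/
structure Mw (_ : Ml R V J A L) (W : Subgroup X) : Prop where
  c0 : U ⊓ 𝐂(L) ≤ W
  le : W ≤ U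
  nr : L ≤ 𝐍(W)
  nv : ¬ V ≤ W
  mx : ∀ W', W ≤ W' → W' ≤ U → L ≤ 𝐍(W') → ¬ V ≤ W' → W' = W

variable {s} {W : Subgroup X} (m : s.Mw W)
include m

theorem Mw.un {u : X} (hu : u ∈ U) : u ∈ 𝐍(W) := cent_le_norm _ (cent_anti m.le (s.uc hu))

theorem Mw.yy {g w u : X} (hg : g ∈ L) (hw : w ∈ L) (h : w ∉ 𝐍(V ^ᵍ g)) (hu : u ∈ U)
    (h1 : u ∈ 𝐂(A ^ᵍ g)) (h2 : u⁻¹ * (w * u * w⁻¹) ∈ W) : u ∈ W := by
  have h3 : L ≤ cstab W u := (s.gen hg hw h).trans (sup_le (zpowers_le.2 ⟨m.nr hw, h2⟩)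
    fun a ha => ⟨m.nr (conj_le_of_mem s.al hg ha), by
      rw [h1 a ha, mul_inv_cancel_right, inv_mul_cancel]; exact one_mem _⟩)
  have h4 : L ≤ 𝐍(W ⊔ zpowers u) := fun l hl => mem_norm_of_conj_le (by
    rw [conj_sup, conj_eq_of_mem_norm (m.nr hl), ← zpowers_conj]
    refine sup_le le_sup_left (zpowers_le.2 ?_)
    have := mul_mem (mem_sup_right (mem_zpowers u) : u ∈ W ⊔ zpowers u) (mem_sup_left (h3 hl).2)
    rwa [mul_inv_cancel_left] at this)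
  by_contra hn
  have h5 : V ≤ W ⊔ zpowers u := by_contra fun e => hn ((m.mx _ le_sup_left
    (sup_le m.le (zpowers_le.2 hu)) h4 e).le (mem_sup_right (mem_zpowers u)))
  refine m.nv (s.img m.c0 (H1.le_commStab_iff.1 ((H2.nclIn_le_of_normal h5 h4).trans (sup_le
    (H1.le_commStab_iff.2 ⟨le_norm_self _, comm_le_right_iff.2 m.nr⟩)
    (zpowers_le.2 ⟨m.un hu, fun l hl => ?_⟩)))).2)
  have := (mem_normalizer_iff.1 (m.un hu) _).1 (h3 hl).2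
  convert this using 1
  group

variable {v : X} (hv : v ∈ V) (hW : v ∉ W)
include hv hW

theorem Mw.st : L ⊓ cstab W v ≤ 𝐍(V) := fun w hw => by_contra fun e => hW
  (m.yy (one_mem _) hw.1 (by rwa [conj_one]) (s.zc hv).1 (by rw [conj_one]; exact (s.zc hv).2)
    hw.2.2)

omit hv hW in
theorem Mw.eqv {a b : X} (ha : a ∈ L) (hb : b ∈ L) :
    a⁻¹ * b ∈ L ⊓ cstab W v ↔ (a * v * a⁻¹)⁻¹ * (b * v * b⁻¹) ∈ W := by
  have h1 := mul_mem (inv_mem ha) hb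
  rw [mem_inf, and_iff_right h1]
  refine (and_iff_right (m.nr h1)).trans ((mem_normalizer_iff.1 (m.nr ha) _).trans ?_)
  rw [show a * (v⁻¹ * (a⁻¹ * b * v * (a⁻¹ * b)⁻¹)) * a⁻¹ = (a * v * a⁻¹)⁻¹ * (b * v * b⁻¹) by group]

theorem Mw.cnt1 : (L ⊓ cstab W v).relIndex (L ⊓ 𝐍(V)) < W.relIndex V := by
  rw [relIndex, relIndex, index, index, ← card_ne ((1 : V) : V ⧸ W.subgroupOf V), Nat.lt_succ_iff]
  refine Nat.card_le_card_of_injective (fun q => ⟨((⟨_,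
    (mem_normalizer_iff.1 q.out.2.2 v).1 hv⟩ : V) : V ⧸ W.subgroupOf V), fun e => hW ?_⟩)
    fun q q' e => ?_
  · have := QuotientGroup.eq.1 e
    rw [mul_one, inv_mem_iff] at this
    exact (mem_normalizer_iff.1 (m.nr q.out.2.1) v).2 this
  · rw [← q.out_eq', ← q'.out_eq', QuotientGroup.eq]
    exact (m.eqv q.out.2.1 q'.out.2.1).2 (mem_subgroupOf.1
      (QuotientGroup.eq.1 (congrArg Subtype.val e)))

omit m hv hW in
theorem nn {g l a : X} (hg : g ∈ L) (hl : l ∈ L) (l0 : l ∉ 𝐍(V)) (ha : a ∈ A)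
    (a0 : a ∉ 𝐍(V ^ᵍ g)) : l * a * l⁻¹ ∉ 𝐍(V) := fun e =>
  a0 (s.ind (inv_mem hl) (mt inv_mem_iff.1 l0) hg ha (by
    rw [norm_conj, mem_conj, inv_inv]; exact e))

theorem Mw.same {g l a k b : X} (hg : g ∈ L) (hl : l ∈ L) (l0 : l ∉ 𝐍(V)) (ha : a ∈ A)
    (a0 : a ∉ 𝐍(V ^ᵍ g)) (hk : k ∈ L) (hb : b ∈ A) (b0 : b ∉ 𝐍(V ^ᵍ g))
    (e : (l * a * l⁻¹)⁻¹ * (k * b * k⁻¹) ∈ L ⊓ cstab W v) : l⁻¹ * k ∈ 𝐍(V) := by
  by_contra hn
  have vU := (s.zc hv).1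
  have k0 : ∀ {l a : X}, l ∈ L → a ∈ A → l * a * l⁻¹ ∈ L ∧ ⁅l * a * l⁻¹, v⁆ ∈ U ⊓ 𝐂(A ^ᵍ l) :=
    fun {l a} hl ha => ⟨mul_mem (mul_mem hl (s.al ha)) (inv_mem hl), by
      rw [← s.cconj hl, mem_conj]
      convert s.qd ha ((mem_normalizer_iff.1 (s.nu (inv_mem hl)) v).1 vU) using 1
      group⟩
  obtain ⟨w1, u1⟩ := k0 hl ha
  obtain ⟨w2, u2⟩ := k0 hk hb
  have h1 := (m.eqv w1 w2).1 e
  have h2 : k * b * k⁻¹ ∉ 𝐍(V ^ᵍ l) := fun e' => s.nn hg (mul_mem (inv_mem hl) hk) hn hb b0 (by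
    rw [norm_conj, mem_conj] at e'
    convert e' using 1
    group)
  have h3 := u2.2 _ (conj_mem_conj hb k)
  have h4 := s.nn hg hl l0 ha a0
  generalize l * a * l⁻¹ = x at *
  generalize k * b * k⁻¹ = y at *
  have h5 : ⁅x, v⁆⁻¹ * ⁅y, v⁆ ∈ W := by
    have := (mem_normalizer_iff.1 (m.un vU) _).1 h1
    convert this using 1
    group
  have h6 := m.yy hl w2 h2 u1.1 u1.2 (by
    have := mul_mem h5 ((mem_normalizer_iff.1 (m.nr w2) _).1 (inv_mem h5))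
    convert this using 1
    calc ⁅x, v⁆⁻¹ * (y * ⁅x, v⁆ * y⁻¹) =
        ⁅x, v⁆⁻¹ * ⁅y, v⁆ * ((⁅y, v⁆⁻¹ * y * ⁅y, v⁆) * (⁅x, v⁆⁻¹ * ⁅y, v⁆)⁻¹ * y⁻¹) := by group
      _ = _ := by rw [mul_assoc ⁅y, v⁆⁻¹, h3, inv_mul_cancel_left])
  refine h4 (m.st hv hW ⟨w1, m.nr w1, ?_⟩)
  have := (mem_normalizer_iff.1 (m.un (inv_mem vU)) _).1 h6
  convert this using 1
  group

theorem Mw.cnt2 {g : X} (hg : g ∈ L) (h : g ∉ 𝐍(V)) :
    𝐍(V ^ᵍ g).relIndex A ≤ (L ⊓ cstab W v).relIndex (L ⊓ 𝐍(V)) + 1 := by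
  have st := m.st hv hW
  have o1 : ∀ q : {q : L ⧸ 𝐍(V).subgroupOf L // q ≠ (1 : L)}, (q.1.out : X) ∉ 𝐍(V) :=
    fun q e => q.2 (by
      rw [← q.1.out_eq', QuotientGroup.eq, mul_one, inv_mem_iff]; exact e)
  have o2 : ∀ q : {q : A ⧸ 𝐍(V ^ᵍ g).subgroupOf A // q ≠ (1 : A)}, (q.1.out : X) ∉ 𝐍(V ^ᵍ g) :=
    fun q e => q.2 (by
      rw [← q.1.out_eq', QuotientGroup.eq, mul_one, inv_mem_iff]; exact e)
  let F : ({q : L ⧸ 𝐍(V).subgroupOf L // q ≠ (1 : L)} ×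
      {q : A ⧸ 𝐍(V ^ᵍ g).subgroupOf A // q ≠ (1 : A)} × (L ⊓ cstab W v : Subgroup X)) ⊕
      (L ⊓ 𝐍(V) : Subgroup X) → L := Sum.elim
    (fun p => p.1.1.out * ⟨_, s.al p.2.1.1.out.2⟩ * p.1.1.out⁻¹ * ⟨_, p.2.2.2.1⟩) fun x => ⟨x, x.2.1⟩
  have k : ∀ p x, F (Sum.inl p) ≠ F (Sum.inr x) := fun p x e =>
    s.nn hg p.1.1.out.2 (o1 p.1) p.2.1.1.out.2 (o2 p.2.1) ((mul_mem_cancel_right (st p.2.2.2)).1
      (by have := x.2.2; rwa [show (x : X) = _ from (congrArg Subtype.val e).symm] at this))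
  have hF : Function.Injective F := by
    rintro (⟨q, r, x⟩ | x) (⟨q', r', x'⟩ | x') e
    · have e1 : (q.1.out : X) * r.1.out * (q.1.out : X)⁻¹ * x =
          (q'.1.out : X) * r'.1.out * (q'.1.out : X)⁻¹ * x' := congrArg Subtype.val e
      have e2 : ((q.1.out : X) * r.1.out * (q.1.out : X)⁻¹)⁻¹ *
          ((q'.1.out : X) * r'.1.out * (q'.1.out : X)⁻¹) ∈ L ⊓ cstab W v := by
        rw [eq_mul_inv_of_mul_eq e1.symm, mul_assoc _ (x : X), inv_mul_cancel_left]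
        exact mul_mem x.2 (inv_mem x'.2)
      obtain rfl : q = q' := Subtype.ext (by
        rw [← q.1.out_eq', ← q'.1.out_eq', QuotientGroup.eq]
        exact m.same hv hW hg q.1.out.2 (o1 q) r.1.out.2 (o2 r) q'.1.out.2 r'.1.out.2 (o2 r') e2)
      obtain rfl : r = r' := Subtype.ext (by
        rw [← r.1.out_eq', ← r'.1.out_eq', QuotientGroup.eq]
        refine by_contra fun e' => s.nn hg q.1.out.2 (o1 q) (r.1.out⁻¹ * r'.1.out).2 e' ?_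
        convert st e2 using 1
        push_cast
        group)
      obtain rfl : x = x' := Subtype.ext (mul_left_cancel e1)
      rfl
    · exact absurd e (k _ _)
    · exact absurd e.symm (k _ _)
    · exact congrArg _ (Subtype.ext (congrArg (fun y : L => (y : X)) e))
  have h1 := Nat.card_le_card_of_injective F hF
  rw [Nat.card_sum, Nat.card_prod, Nat.card_prod] at h1
  have h2 := card_ne ((1 : L) : L ⧸ 𝐍(V).subgroupOf L)
  have h3 := card_ne ((1 : A) : A ⧸ 𝐍(V ^ᵍ g).subgroupOf A)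
  have h4 := H1.card_inf_mul_relIndex 𝐍(V) L
  have h5 := H1.card_mul_relIndex (le_inf inf_le_left st)
  have h6 : 𝐍(V).relIndex L ≠ 1 := mt relIndex_eq_one.1 s.nl
  have h7 : 0 < 𝐨((L ⊓ cstab W v : Subgroup X)) := Nat.card_pos
  change _ = 𝐍(V).relIndex L at h2
  change _ = 𝐍(V ^ᵍ g).relIndex A at h3
  rw [inf_comm] at h4
  rw [← h4, ← h5, ← h2] at h1
  rw [← h3, Nat.add_le_add_iff_right]
  rw [← h2] at h6
  generalize Nat.card {q : L ⧸ 𝐍(V).subgroupOf L // q ≠ (1 : L)} = d at *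
  generalize Nat.card {q : A ⧸ 𝐍(V ^ᵍ g).subgroupOf A // q ≠ (1 : A)} = n at *
  generalize 𝐨((L ⊓ cstab W v : Subgroup X)) = c at *
  generalize (L ⊓ cstab W v).relIndex (L ⊓ 𝐍(V)) = o at *
  exact Nat.le_of_mul_le_mul_left (c := d * c) (by nlinarith) (Nat.mul_pos (by omega) h7)

omit m hv hW
include s

theorem c3 {g a : X} (hg : g ∈ L) (h : g ∉ 𝐍(V)) (ha : a ∈ A) (hn : a ∉ 𝐂(U)) :
    a ∉ 𝐍(V ^ᵍ g) := by
  intro e
  obtain ⟨N, hN⟩ : ∃ N, N = H2.nclIn L (A ⊓ 𝐍(V ^ᵍ g)) := ⟨_, rfl⟩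
  have n1 : L ≤ 𝐍(N) := hN ▸ H2.le_normalizer_nclIn _ _
  have n2 : N ≤ L := hN ▸ H2.nclIn_le (inf_le_left.trans s.al)
  have n3 : A ⊓ 𝐍(V ^ᵍ g) ≤ N := hN ▸ H2.le_nclIn _ _
  have n4 : N ≤ 𝐍(V) := hN ▸ H2.nclIn_le_iff.2 fun l hl => by
    change _ ^ᵍ l ≤ _
    rw [conj_le_iff, ← norm_conj]
    exact fun x hx => s.ind hg h (inv_mem hl) hx.1 hx.2
  have n5 : ⁅A ⊓ 𝐍(V ^ᵍ g), U⁆ ≤ U ⊓ 𝐂(L) := (H1.le_commStab_iff.1 (H2.nclIn_le_iff.2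
    fun l hl v hv => ⟨cent_le_norm _ (cent_anti inf_le_left (s.uc (H2.conj_le_nclIn _ hl hv))),
      fun x (hx : x ∈ A ⊓ 𝐍(V ^ᵍ g)) => s.cm0 hl hx.1 (s.ind hg h hl hx.1 hx.2) hv⟩)).2
  have n6 : ⁅U, N⁆ ≤ U ⊓ 𝐂(L) := (H1.le_commStab_iff.1 (hN ▸ H2.nclIn_le_iff.2 fun l hl =>
    H1.le_commStab_iff.2 ⟨(conj_le_of_mem (inf_le_left.trans s.al) hl).trans s.n0, by
      have := conj_mono n5 l
      rwa [conj_comm, conj_eq_of_mem_norm (s.nu hl), conj_eq_of_mem_norm (s.n0 hl),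
        commutator_comm] at this⟩)).2
  have vu : V ≤ U := H2.le_nclIn _ _
  have n7 : ¬ N ≤ 𝐂(V) := fun k => hn (cent_comm.1 (H2.nclIn_le_iff.2 fun l hl => cent_comm.1 (by
    have := conj_le_cent_iff (g := l).2 k
    rwa [conj_eq_of_mem_norm (n1 hl)] at this)) (n3 ⟨ha, e⟩))
  have q1 := s.vh.sq N n4 (((commutator_mono vu le_rfl).trans n6).trans
    (inf_le_right.trans (cent_anti n2))) n7
  rw [commutator_comm] at n6
  obtain ⟨U0, a1, a2, a3, a4, a5⟩ := pair s.uc (n2.trans s.nu)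
    (n6.trans (inf_le_right.trans (cent_anti n2))) vu n7
  obtain ⟨W, w1, w2⟩ := Set.exists_max_image {W : Subgroup X | U0 ≤ W ∧ W ≤ U ∧ L ≤ 𝐍(W) ∧ ¬ V ≤ W}
    (fun W => 𝐨(W)) (Set.toFinite _) ⟨U0, le_rfl, a1, (le_inf (le_inf s.nu n1)
      (cent_comm.1 (n6.trans inf_le_right))).trans a4, a2⟩
  have m : s.Mw W := ⟨((inf_le_inf_left _ (cent_anti n2)).trans a3).trans w1.1, w1.2.1, w1.2.2.1,
    w1.2.2.2, fun W' b1 b2 b3 b4 =>
      (H1.eq_of_le_of_card_le b1 (w2 W' ⟨w1.1.trans b1, b2, b3, b4⟩)).symm⟩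
  obtain ⟨v, hv, hW⟩ := SetLike.not_le_iff_exists.1 m.nv
  have q2 := m.cnt1 hv hW
  have q3 := m.cnt2 hv hW hg h
  have q4 : W.relIndex V ≤ 𝐂(V).relIndex N :=
    (relIndex_le_of_le_left w1.1 (H2.relIndex_pos _ _).ne').trans (a5 V vu)
  have q5 : 𝐂(N).relIndex V ≤ 𝐂(A).relIndex (V ^ᵍ g) := by
    rw [← relIndex_conj _ _ g, ← cent_conj, conj_eq_of_mem_norm (n1 hg),
      ← inf_relIndex_right 𝐂(A)]
    exact relIndex_le_of_le_left ((le_inf (inf_le_right.trans (conj_mono s.zc g)) (le_inf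
      (inf_le_right.trans (H2.conj_le_nclIn _ hg)) inf_le_left)).trans ((s.c2 hg h).le.trans
        (inf_le_right.trans (cent_anti n2)))) (H2.relIndex_pos _ _).ne'
  have q6 := s.off hg
  have q7 := relIndex_mul_relIndex (𝐂(V ^ᵍ g) ⊓ A) (A ⊓ 𝐍(V ^ᵍ g)) A
    (le_inf inf_le_right (inf_le_left.trans (cent_le_norm _))) inf_le_left
  have q8 : (𝐂(V ^ᵍ g) ⊓ A).relIndex (A ⊓ 𝐍(V ^ᵍ g)) ≤ 𝐂(V).relIndex N := by
    rw [← relIndex_conj _ N g, ← cent_conj, conj_eq_of_mem_norm (n1 hg),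
      ← inf_relIndex_right, inf_assoc, ← inf_assoc A, inf_idem, inf_relIndex_right]
    exact relIndex_le_of_le_right n3 (H2.relIndex_pos _ _).ne'
  rw [inf_relIndex_right, inf_relIndex_left] at q7
  have q9 := Nat.mul_le_mul q8 (q3.trans (q2.trans_le q4))
  rw [q7, ← pow_two] at q9
  omega

end Ml

end Cfsg.Agent.P22
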