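/-
P22, chapter M2: the rank one group generated by two offenders.
-/
import Cfsg.Agent.P22.M2b

set_option autoImplicit false
set_option linter.unusedSectionVars false
set_option linter.style.haveILetI false

namespace Cfsg.Agent.P22

open Subgroup Cfsg Cfsg.Agent Cfsg.Agent.FT
open Cfsg.Agent.P19 (offender le_cent_self)
open scoped commutatorElement

universe u

variable {X : Type u} [Group X] [Finite X]

namespace Ml

variable {R V J A L : Subgroup X} (s : Ml R V J A L)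
include s

local notation "U" => H2.nclIn L V

/-- `a ↦ [a, v]`. -/
def cm {v : X} (hv : v ∈ U) : A →* X := MonoidHom.mk' (fun a => ⁅(a : X), v⁆) fun a b => by
  have h1 := (s.qd b.2 hv).2 _ a.2
  have h2 := s.uc (s.qd b.2 hv).1 _ (s.qd a.2 hv).1
  calc ⁅((a * b : A) : X), v⁆ = a * ⁅(b : X), v⁆ * (a : X)⁻¹ * ⁅(a : X), v⁆ := by
        rw [coe_mul]; group
    _ = _ := by rw [h1, mul_inv_cancel_right, h2]

theorem c4b {g v : X} (hg : g ∈ L) (h : g ∉ 𝐍(V)) (hv : v ∈ U) (hn : v ∉ U ⊓ 𝐂(A)) :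
    (s.cm hv).range ⊔ (U ⊓ 𝐂(L)) = U ⊓ 𝐂(A) ∧ 𝐂(U).relIndex A = 𝐂(A).relIndex U := by
  have k : ∀ a ∈ A, ⁅a, v⁆ ∈ U ⊓ 𝐂(L) → a ∈ 𝐂(U) := fun a ha e =>
    by_contra fun e' => hn (s.c4a hg ha (s.c3 hg h ha e') hv e)
  have k' : ∀ a ∈ 𝐂(U), ⁅a, v⁆ = 1 := fun a ha =>
    commutatorElement_eq_one_iff_mul_comm.2 (ha v hv).symm
  have h1 : (s.cm hv).range ≤ U ⊓ 𝐂(A) := by
    rintro _ ⟨a, rfl⟩
    exact s.qd a.2 hv
  have h2 : (s.cm hv).range ⊓ (U ⊓ 𝐂(L)) = ⊥ := eq_bot_iff.2 (by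
    rintro _ ⟨⟨a, rfl⟩, e⟩
    exact k' _ (k _ a.2 e))
  have h3 : (s.cm hv).ker = 𝐂(U).subgroupOf A := Subgroup.ext fun a =>
    ⟨fun e => k _ a.2 ((show ⁅(a : X), v⁆ = 1 from e).symm ▸ one_mem _), fun e => k' _ e⟩
  have h4 : 𝐨((s.cm hv).range) = 𝐂(U).relIndex A := by rw [← index_ker, h3]; rfl
  have h5 := card_sup_mul_card_inf (A := (s.cm hv).range) (B := U ⊓ 𝐂(L))
    ((inf_le_left.trans s.uc).trans ((cent_anti (h1.trans inf_le_left)).trans (cent_le_norm _)))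
  rw [h2, card_bot, mul_one, h4] at h5
  have h0 : U ⊓ 𝐂(L) ≤ U ⊓ 𝐂(A) := inf_le_inf_left _ (cent_anti s.al)
  have h6 := H1.card_mul_relIndex h0
  rw [s.card_c hg h] at h6
  have h7 : 𝐂(A).relIndex U ≤ 𝐂(U).relIndex A :=
    (relIndex_le_of_le_left (le_cent_self s.el) (H2.relIndex_pos _ _).ne').trans
      (offender s.hA s.uel ((s.ncl_le.trans inf_le_left).trans s.le_R))
  have h8 := H1.eq_of_le_of_card_le (sup_le h1 h0) (by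
    rw [h5, ← h6, mul_comm]; exact Nat.mul_le_mul_right _ h7)
  refine ⟨h8, ?_⟩
  rw [h8, ← h6, mul_comm] at h5
  exact (Nat.eq_of_mul_eq_mul_right Nat.card_pos h5).symm

/-- Conjugacy modulo `C_U(L)`. -/
def Rl (_ : Ml R V J A L) (x y : X) : Prop := ∃ l ∈ L, (l * x * l⁻¹)⁻¹ * y ∈ U ⊓ 𝐂(L)

theorem Rl.trans {x y w : X} (h1 : s.Rl x y) (h2 : s.Rl y w) : s.Rl x w := by
  obtain ⟨l, hl, e1⟩ := h1
  obtain ⟨k, hk, e2⟩ := h2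
  refine ⟨k * l, mul_mem hk hl, ?_⟩
  have := mul_mem ((mem_normalizer_iff.1 (s.n0 hk) _).1 e1) e2
  convert this using 1
  group

theorem t1 {g v w : X} (hg : g ∈ L) (h : g ∉ 𝐍(V)) (hv : v ∈ U) (hn : v ∉ U ⊓ 𝐂(A))
    (hw : v⁻¹ * w ∈ U ⊓ 𝐂(A)) : s.Rl v w := by
  rw [← (s.c4b hg h hv hn).1] at hw
  obtain ⟨_, ⟨a, rfl⟩, z, hz, e⟩ := (mem_sup_of_norm ((inf_le_left.trans s.uc).trans ((cent_anti (by
    rintro _ ⟨a, rfl⟩
    exact (s.qd a.2 hv).1)).trans (cent_le_norm _)))).1 hw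
  refine ⟨a, s.al a.2, ?_⟩
  have h1 := s.uc (s.qd a.2 hv).1 _ hv
  change ⁅(a : X), v⁆ * z = _ at e
  convert hz using 1
  calc ((a : X) * v * (a : X)⁻¹)⁻¹ * w = (⁅(a : X), v⁆ * v)⁻¹ * v * (v⁻¹ * w) := by group
    _ = z := by rw [← h1, ← e]; group

theorem t2 {g v w : X} (hg : g ∈ L) (h : g ∉ 𝐍(V)) (hv : v ∈ U) (hn : v ∉ (U ⊓ 𝐂(A)) ^ᵍ g)
    (hw : v⁻¹ * w ∈ (U ⊓ 𝐂(A)) ^ᵍ g) : s.Rl v w := by
  obtain ⟨l, hl, e⟩ := s.t1 hg h (v := g⁻¹ * v * g) (w := g⁻¹ * w * g)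
    (by rw [← mem_conj, conj_eq_of_mem_norm (s.nu hg)]; exact hv) (fun e => hn (mem_conj.2 e))
    (by convert mem_conj.1 hw using 1; group)
  refine ⟨g * l * g⁻¹, mul_mem (mul_mem hg hl) (inv_mem hg), ?_⟩
  convert (mem_normalizer_iff.1 (s.n0 hg) _).1 e using 1
  group

theorem c5 {g x y : X} (hg : g ∈ L) (h : g ∉ 𝐍(V)) (hx : x ∈ U ⊓ 𝐂(A)) (hx0 : x ∉ U ⊓ 𝐂(L))
    (hy : y ∈ U ⊓ 𝐂(A)) (hy0 : y ∉ U ⊓ 𝐂(L)) :
    ∃ l ∈ L ⊓ 𝐍(V), (l * x * l⁻¹)⁻¹ * y ∈ U ⊓ 𝐂(L) := by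
  obtain ⟨c, hc, hc0⟩ := SetLike.not_le_iff_exists.1 fun e : V ^ᵍ g ≤ U ⊓ 𝐂(L) =>
    s.nz (by rwa [conj_le_iff, conj_eq_of_mem_norm (s.n0 (inv_mem hg))] at e)
  replace hc := conj_mono s.zc g hc
  have k : ∀ w, w ∈ (U ⊓ 𝐂(A)) ^ᵍ g → w ∈ U ⊓ 𝐂(A) → w ∈ U ⊓ 𝐂(L) :=
    fun w h1 h2 => (s.c2 hg h).le ⟨h1, h2⟩
  have hcU := s.cle hg hc
  have r1 : s.Rl x (x * c) := s.t2 hg h hx.1 (fun e => hx0 (k x e hx)) (by simpa using hc)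
  have r2 : s.Rl (x * c) (y * c) := s.t1 hg h (mul_mem hx.1 hcU)
    (fun e => hc0 (k c hc ((mul_mem_cancel_left hx).1 e))) (by
      have h1 := mul_mem (inv_mem hx) hy
      rwa [show (x * c)⁻¹ * (y * c) = c⁻¹ * (x⁻¹ * y * c) by group, s.uc hcU _ h1.1,
        inv_mul_cancel_left])
  have r3 : s.Rl (y * c) y := s.t2 hg h (mul_mem hy.1 hcU)
    (fun e => hy0 (k y ((mul_mem_cancel_right hc).1 e) hy)) (by simpa using hc)
  obtain ⟨l, hl, e⟩ := Rl.trans s (Rl.trans s r1 r2) r3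
  refine ⟨l, ⟨hl, by_contra fun hn => hx0 ?_⟩, e⟩
  have h1 := (mul_mem_cancel_right hy).1 (inf_le_inf_left _ (cent_anti s.al) e)
  exact (mem_normalizer_iff.1 (s.n0 hl) _).2 ((s.c2 hl hn).le
    (mem_inf.2 ⟨conj_mem_conj hx l, inv_mem_iff.1 h1⟩))

theorem c7 {g : X} (hg : g ∈ L) (h : g ∉ 𝐍(V)) :
    (U ⊓ 𝐂(L)).relIndex V = 𝐂(A).relIndex U := by
  obtain ⟨z, hz, hz0⟩ := SetLike.not_le_iff_exists.1 s.nz
  have h1 : (U ⊓ 𝐂(L)) ⊔ V = U ⊓ 𝐂(A) := le_antisymm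
    (sup_le (inf_le_inf_left _ (cent_anti s.al)) s.zc) fun c hc => by
      by_cases e : c ∈ U ⊓ 𝐂(L)
      · exact mem_sup_left e
      obtain ⟨l, hl, e'⟩ := s.c5 hg h (s.zc hz) hz0 hc e
      exact (mul_mem_cancel_left (inv_mem (mem_sup_right
        ((mem_normalizer_iff.1 hl.2 z).1 hz)))).1 (mem_sup_left e')
  rw [← s.card_c hg h, ← h1, relIndex_sup_of_norm (((s.zc.trans inf_le_left).trans s.uc).trans
    ((cent_anti inf_le_left).trans (cent_le_norm _)))]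

end Ml

theorem m2Stmt : M2Stmt.{u} := by
  intro X _ _ R V J A s0
  obtain ⟨L, s⟩ := s0.exists_ml
  obtain ⟨g, hg, h⟩ := SetLike.not_le_iff_exists.1 s.nl
  have q1 := s.c7 hg h
  have q2 := H2.relIndex_pos (H2.nclIn L V ⊓ 𝐂(L)) V
  have q3 : (H2.nclIn L V ⊓ 𝐂(L)).relIndex V ≠ 1 := fun e => s.nz (relIndex_eq_one.1 e)
  by_cases e : (H2.nclIn L V ⊓ 𝐂(L)).relIndex V = 2
  · refine Or.inr ⟨g, s.lh hg, h, ?_, ?_⟩
    · rw [← e, ← inf_relIndex_right, ← inf_relIndex_right (_ ⊓ 𝐂(L))]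
      congr 1
      refine le_antisymm (le_inf ((inf_le_inf (conj_mono s.zc g) s.zc).trans (s.c2 hg h).le)
        inf_le_right) (le_inf (fun x hx => ?_) inf_le_right)
      rw [← mem_cent1_iff_conj.1 (mem_cent1.2 (hx.1.2 g hg).symm)]
      exact conj_mem_conj hx.2 g
    · obtain ⟨a, ha, h1⟩ := s.ex hg h
      obtain ⟨v, hv, h2⟩ := SetLike.not_le_iff_exists.1
        fun e : V ^ᵍ g ≤ H2.nclIn L V ⊓ 𝐂(A) =>
          h1 (cent_le_norm _ (cent_comm.1 (e.trans inf_le_right) ha))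
      rw [← e, q1, ← (s.c4b hg h (H2.conj_le_nclIn _ hg hv) h2).2, ← inf_relIndex_right,
        ← inf_relIndex_right 𝐂(H2.nclIn L V)]
      congr 1
      exact le_antisymm (fun a ha => ⟨by_contra fun e => s.c3 hg h ha.2 e (cent_le_norm _ ha.1),
        ha.2⟩) (inf_le_inf_right _ (cent_anti (H2.conj_le_nclIn _ hg)))
  · refine Or.inl ⟨H2.nclIn L V ⊓ 𝐂(L) ⊓ V, L ⊓ 𝐍(V), inf_le_right, ?_,
      le_inf (le_inf le_top inf_le_right)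
        (inf_le_left.trans (cent_comm.1 (inf_le_left.trans inf_le_right))),
      fun x hx x0 y hy y0 => ?_⟩
    · rw [inf_relIndex_right]
      omega
    · obtain ⟨l, hl, e'⟩ := s.c5 hg h (s.zc hx) (fun e => x0 ⟨e, hx⟩) (s.zc hy) fun e => y0 ⟨e, hy⟩
      exact ⟨l, hl, mem_inf.2 ⟨e', mul_mem (inv_mem ((mem_normalizer_iff.1 hl.2 x).1 hx)) hy⟩⟩

end Cfsg.Agent.P22
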