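/-
P22, chapter Q0: from invariant sections of order 2 to invariant classes of involutions.
-/
import Cfsg.Agent.P22.Defs

set_option autoImplicit false
set_option linter.unusedSectionVars false
set_option linter.style.haveILetI false

namespace Cfsg.Agent.P22

open Subgroup Cfsg Cfsg.Agent Cfsg.Agent.FT
open scoped commutatorElement

universe u

variable {X : Type u} [Group X] [Finite X]

theorem comm_le_of_two {P0 P O : Subgroup X} (h : P0.relIndex P = 2) (h1 : O ≤ 𝐍(P))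
    (h2 : O ≤ 𝐍((P0 ⊓ P : Subgroup X))) : ⁅P, O⁆ ≤ P0 := commutator_le.2 fun q hq o ho => by
  have k : o * q⁻¹ * o⁻¹ ∈ P := (mem_normalizer_iff.1 (h1 ho) _).1 (inv_mem hq)
  rw [show ⁅q, o⁆ = q * (o * q⁻¹ * o⁻¹) by group]
  refine (mul_mem_iff_of_index_two h (a := ⟨q, hq⟩) (b := ⟨_, k⟩)).2 ?_
  have e := mem_normalizer_iff.1 (h2 ho) q⁻¹
  exact ⟨fun e1 => (e.1 (mem_inf.2 ⟨P0.inv_mem e1, inv_mem hq⟩)).1,
    fun e1 => P0.inv_mem_iff.1 (e.2 (mem_inf.2 ⟨e1, k⟩)).1⟩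

theorem norm_of_two {P0 P : Subgroup X} (h : P0.relIndex P = 2) :
    P ≤ 𝐍((P0 ⊓ P : Subgroup X)) :=
  normal_subgroupOf_iff_le_normalizer_inf.1 (normal_of_index_eq_two h)

theorem exists_inv_of_pgroup {Q : Subgroup X} (hQ : IsPGroup 2 Q) (h : Q ≠ ⊥) :
    ∃ t ∈ Q, t * t = 1 ∧ t ≠ 1 := by
  obtain ⟨t, ht⟩ := exists_prime_orderOf_dvd_card' (G := Q) 2
    (hQ.card_eq_or_dvd.resolve_left fun e => h (card_eq_one.1 e))
  rw [← orderOf_coe] at ht
  refine ⟨t, t.2, by rw [← sq, ← ht, pow_orderOf_eq_one], fun e => ?_⟩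
  rw [e, orderOf_one] at ht
  omega

theorem q0Stmt : Q0Stmt.{u} := by
  intro X _ _ G _ hq hi S P0 P _ hS hP h2 n n0
  obtain ⟨N, hN, N1, k, N2⟩ := H8.hasNPC_iff_exists.1 hq
  have sup : ∀ A B B' : Subgroup X, A ≤ G → B ≤ A ⊔ B' → ⊤ ≤ B ⊔ G → ⊤ ≤ B' ⊔ G :=
    fun A B B' a b c => c.trans (sup_le (b.trans (sup_le (a.trans le_sup_right) le_sup_left))
      le_sup_right)
  have nG : ∀ A : Subgroup X, A ≤ 𝐍(G) := fun A => le_normalizer_of_normal
  have n1 : S ⊔ P ≤ 𝐍(P) := sup_le n (le_norm_self P)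
  have n2 : S ⊔ P ≤ 𝐍((P0 ⊓ P : Subgroup X)) := sup_le (H1.le_normalizer_inf n0 n) (norm_of_two h2)
  obtain ⟨R, hR⟩ := exists_isSyl Nat.prime_two (G ⊓ (S ⊔ P))
  have f1 := hR.frattini Nat.prime_two (M := S ⊔ P)
    ⟨inf_le_right, H1.le_normalizer_inf (nG _) (le_norm_self _)⟩
  have s2 := sup _ _ _ inf_le_left (le_sup_left.trans f1.ge) hS
  set S2 := (S ⊔ P) ⊓ 𝐍(R) with hS2
  set K := N.comap (QuotientGroup.mk' G) ⊓ S2 with hK
  have rG : R ≤ G := hR.le.trans inf_le_left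
  have rS : R ≤ S2 := le_inf (hR.le.trans inf_le_right) (le_norm_self R)
  have gK : G ≤ N.comap (QuotientGroup.mk' G) := (QuotientGroup.ker_mk' G).ge.trans (ker_le_comap _ _)
  have rK : IsSyl 2 R K := (hR.of_le (K := G ⊓ K) (le_inf rG (le_inf (rG.trans gK) rS))
    (inf_le_inf_left _ (inf_le_right.trans inf_le_left))).trans Nat.prime_two inf_le_right (by
      rw [inf_relIndex_right, ← QuotientGroup.ker_mk' G, relIndex_ker]
      exact fun e => Nat.prime_two.coprime_iff_not_dvd.1 N1.symm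
        (e.trans (Subgroup.card_dvd_of_le (map_le_iff_le_comap.2 inf_le_left))))
  obtain ⟨m, hm⟩ := IsPGroup.iff_card.1 hR.pgrp
  obtain ⟨O, o1, o2, o3, o4⟩ := H1.exists_complement_of_coprime rK.le
    (inf_le_right.trans inf_le_right)
    (hm ▸ (Nat.prime_two.coprime_iff_not_dvd.2 rK.ndvd).pow_left m)
  have oc : 𝐨(O).Coprime 2 := o4 ▸ (Nat.prime_two.coprime_iff_not_dvd.2 rK.ndvd).symm
  have oS : O ≤ S2 := o1.trans inf_le_right
  have nK : S2 ≤ 𝐍(K) := H1.le_normalizer_inf le_normalizer_of_normal (le_norm_self _)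
  have s3 := sup R S2 (S2 ⊓ 𝐍(O)) rG (fun g hg => by
    obtain ⟨r, hr, e⟩ := H1.exists_conj_eq_of_le_sup (oS.trans inf_le_right)
      (hm ▸ oc.pow_right m) (Or.inr (H1.isSolvable_of_isPGroup hR.pgrp))
      (o2.symm ▸ conj_le_of_mem_norm o1 (nK hg)) (card_conj O g)
    rw [conj_conj, conj_eq_self_iff] at e
    exact (mul_mem_cancel_left (mem_sup_left hr)).1 (mem_sup_right ⟨mul_mem (rS hr) hg, e⟩)) s2
  obtain ⟨T, hT⟩ := exists_isSyl Nat.prime_two (S2 ⊓ 𝐍(O))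
  have s4 : S2 ⊓ 𝐍(O) ≤ T ⊔ O := H7.SC.le_sup_syl inf_le_right hT fun x hx => by
    have h3 : x ^ 2 ^ k ∈ O ⊔ R := by
      rw [o2]
      refine ⟨?_, pow_mem hx.1 _⟩
      rw [← N2]
      exact mem_comap.2 (by rw [map_pow]; exact N.pow_index_mem _)
    obtain ⟨o, ho, r, hr, e⟩ := (H1.mem_sup_iff_of_le_normalizer (oS.trans inf_le_right)).1 h3
    have h4 : r ∈ 𝐍(O) := (mul_mem_cancel_left (le_norm_self O ho)).1 (e ▸ pow_mem hx.2 _)
    have h5 : Commute o r := commutatorElement_eq_one_iff_commute.1 (mem_bot.1 (o3.le (mem_inf.2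
      ⟨by simpa only [commutatorElement_def, mul_assoc] using
        mul_mem ho ((mem_normalizer_iff.1 h4 _).1 (inv_mem ho)),
      mul_mem ((mem_normalizer_iff.1 (oS ho).2 _).1 hr) (inv_mem hr)⟩)))
    refine ⟨k + m, ?_⟩
    rw [pow_add, pow_mul, ← e, h5.mul_pow, ← hm, orderOf_dvd_iff_pow_eq_one.1
      (orderOf_dvd_natCard R hr), mul_one]
    exact pow_mem ho _
  have hQ := hR.inf_normal Nat.prime_two (K := P) ⟨le_inf hP le_sup_right, inf_le_right.trans n1⟩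
  have nQ : S2 ≤ 𝐍((R ⊓ P : Subgroup X)) :=
    H1.le_normalizer_inf inf_le_right (inf_le_left.trans n1)
  obtain ⟨j, hj⟩ := IsPGroup.iff_card.1 hQ.pgrp
  have c1 : R ⊓ P ⊓ 𝐂(O) ≠ ⊥ := fun e => hQ.ndvd (by
    have h3 := H1.commutator_sup_centralizer (oS.trans nQ) (hj ▸ oc.pow_right j)
      (Or.inr (H1.isSolvable_of_isPGroup hQ.pgrp))
    rw [e, sup_bot_eq] at h3
    rw [← h2]
    exact relIndex_dvd_of_le_left _ (h3.ge.trans ((commutator_mono inf_le_right le_rfl).trans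
      (comm_le_of_two h2 ((oS.trans inf_le_left).trans n1) ((oS.trans inf_le_left).trans n2)))))
  obtain ⟨W, w1, w2, w3⟩ := H2.inf_centralizer_ne_bot_of_isPGroup hT.pgrp
    (H1.le_normalizer_inf ((hT.le.trans inf_le_left).trans nQ)
      (H1.le_normalizer_centralizer (hT.le.trans inf_le_right)))
    ((hQ.pgrp.to_le inf_le_left).card_eq_or_dvd.resolve_left fun e => c1 (card_eq_one.1 e))
  obtain ⟨t, ht, t1, t2⟩ := exists_inv_of_pgroup w3 w2
  refine hi t (rG (w1 ht).1.1.1) t1 t2 (top_le_iff.1 (s3.trans (sup_le (s4.trans (le_trans ?_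
    le_sup_right)) le_sup_left)))
  exact sup_le (mem_cent_iff_cent1.1 (w1 ht).2) (mem_cent_iff_cent1.1 (w1 ht).1.2)

end Cfsg.Agent.P22
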