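/-
P22, lemma QL: a subgroup transitive on the nonidentity elements of its commutator space
produces an invariant orbit.
-/
import Cfsg.Agent.P22.WCup
import Cfsg.Agent.P22.Defs

set_option autoImplicit false
set_option linter.unusedSectionVars false

namespace Cfsg.Agent.P22
namespace SQ

open Subgroup Cfsg Cfsg.Agent Cfsg.Agent.FT
open scoped commutatorElement

universe u

variable {X : Type u} [Group X] [Finite X]

/-- `D` is transitive on the nonidentity elements of the direct factor `[V, D]`. -/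
structure QD (V D : Subgroup X) : Prop where
  n : D ≤ 𝐍(V)
  sup : ⁅V, D⁆ ⊔ (V ⊓ 𝐂(D)) = V
  inf : ⁅V, D⁆ ⊓ 𝐂(D) = ⊥
  four : 4 ≤ 𝐨((⁅V, D⁆ : Subgroup X))
  tr : ∀ u ∈ ⁅V, D⁆, u ≠ 1 → ∀ w ∈ ⁅V, D⁆, w ≠ 1 → ∃ d ∈ D, d * u * d⁻¹ = w

theorem comm_conj {V D : Subgroup X} {γ : X} (hγ : γ ∈ 𝐍(V)) : ⁅V, D ^ᵍ γ⁆ = ⁅V, D⁆ ^ᵍ γ := by
  rw [conj_comm, conj_eq_of_mem_norm hγ]

namespace QD

variable {V D D' : Subgroup X}

theorem conj (h : QD V D) {γ : X} (hγ : γ ∈ 𝐍(V)) : QD V (D ^ᵍ γ) where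
  n := conj_le_of_mem h.n hγ
  sup := by
    rw [comm_conj hγ, cent_conj]
    nth_rewrite 2 [← conj_eq_of_mem_norm hγ]
    rw [← conj_inf, ← conj_sup, h.sup, conj_eq_of_mem_norm hγ]
  inf := by rw [comm_conj hγ, cent_conj, ← conj_inf, h.inf, conj_bot]
  four := by rw [comm_conj hγ, card_conj]; exact h.four
  tr := by
    rw [comm_conj hγ]
    intro u hu u1 w hw w1
    obtain ⟨u, hu', rfl⟩ := mem_conj'.1 hu
    obtain ⟨w, hw', rfl⟩ := mem_conj'.1 hw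
    obtain ⟨d, hd, rfl⟩ := h.tr u hu' (fun e => u1 (by rw [e]; group)) w hw'
      (fun e => w1 (by rw [e]; group))
    exact ⟨_, conj_mem_conj hd γ, by group⟩

theorem le (h : QD V D) : ⁅V, D⁆ ≤ V := H1.commutator_le_of_le_normalizer h.n

theorem one (h : QD V D) {u : X} (hu : u ∈ ⁅V, D⁆) (hc : u ∈ 𝐂(D)) : u = 1 :=
  mem_bot.1 (h.inf ▸ ⟨hu, hc⟩)

theorem move (hV : IsElementaryAbelian 2 V) (h : QD V D) {u v : X} (hu : u ∈ ⁅V, D⁆) (hv : v ∈ V)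
    (h1 : v ∉ 𝐂(D)) (h2 : u * v ∉ 𝐂(D)) : ∃ d ∈ D, d * v * d⁻¹ = u * v := by
  rw [← h.sup] at hv
  obtain ⟨a, ha, c, hc, rfl⟩ := (mem_sup_of_norm (A := ⁅V, D⁆) (B := V ⊓ 𝐂(D))
    (H1.le_normalizer_of_le_centralizer
    fun x hx y hy => el_comm hV (h.le hy) hx.1)).1 hv
  obtain ⟨d, hd, e⟩ := h.tr a ha (fun e => h1 (by rw [e, one_mul]; exact hc.2)) (u * a)
    (mul_mem hu ha) (fun e => h2 (by rw [← mul_assoc, e, one_mul]; exact hc.2))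
  refine ⟨d, hd, ?_⟩
  calc d * (a * c) * d⁻¹ = d * a * d⁻¹ * (d * c) * d⁻¹ := by group
    _ = _ := by rw [e, hc.2 d hd]; group

theorem sub (h : QD V D) (v : X) : {u : X | u ∈ ⁅V, D⁆ ∧ u * v ∈ 𝐂(D)}.ncard ≤ 1 := by
  rw [Set.ncard_le_one (Set.toFinite _)]
  intro a ha b hb
  have := h.one (mul_mem ha.1 (inv_mem hb.1)) (by
    have := mul_mem ha.2 (inv_mem hb.2)
    rwa [show a * v * (b * v)⁻¹ = a * b⁻¹ by group] at this)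
  exact mul_inv_eq_one.1 this

theorem link (hV : IsElementaryAbelian 2 V) (h : QD V D) (h' : QD V D')
    (n1 : ¬ ⁅V, D'⁆ ≤ 𝐂(D)) (n2 : ¬ ⁅V, D⁆ ≤ 𝐂(D')) :
    ∃ u ∈ ⁅V, D⁆, u ≠ 1 ∧ ∃ v ∈ ⁅V, D'⁆, v ≠ 1 ∧ ∃ d ∈ D, ∃ e ∈ D', d * v * d⁻¹ = e * u * e⁻¹ := by
  suffices H : ∃ u ∈ ⁅V, D⁆, u ∉ 𝐂(D') ∧ ∃ v ∈ ⁅V, D'⁆, v ∉ 𝐂(D) ∧ u * v ∉ 𝐂(D) ∧ v * u ∉ 𝐂(D') by
    obtain ⟨u, hu, uc, v, hv, vc, a, b⟩ := H
    obtain ⟨d, hd, e1⟩ := h.move hV hu (h'.le hv) vc a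
    obtain ⟨e, he, e2⟩ := h'.move hV hv (h.le hu) uc b
    exact ⟨u, hu, fun e => uc (e ▸ one_mem _), v, hv, fun e => vc (e ▸ one_mem _), d, hd, e, he,
      by rw [e1, e2, el_comm hV (h.le hu) (h'.le hv)]⟩
  by_cases hB : ⁅V, D'⁆ ⊓ 𝐂(D) = ⊥
  · obtain ⟨u, hu, uc⟩ := SetLike.not_le_iff_exists.1 n2
    have s2 : {v : X | v ∈ ⁅V, D'⁆ ∧ u * v ∈ 𝐂(D)}.ncard ≤ 1 := by
      rw [Set.ncard_le_one (Set.toFinite _)]
      intro a ha b hb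
      have : a⁻¹ * b ∈ ⁅V, D'⁆ ⊓ 𝐂(D) := ⟨(⁅V, D'⁆).mul_mem ((⁅V, D'⁆).inv_mem ha.1) hb.1, by
        have := (𝐂(D)).mul_mem ((𝐂(D)).inv_mem ha.2) hb.2
        rwa [show (u * a)⁻¹ * (u * b) = a⁻¹ * b by group] at this⟩
      rw [hB] at this
      exact inv_mul_eq_one.1 this
    have s1 := h'.sub u
    obtain ⟨v, hv, nv⟩ := Set.exists_mem_notMem_of_ncard_lt_ncard
      (s := insert 1 ({v : X | v ∈ ⁅V, D'⁆ ∧ v * u ∈ 𝐂(D')} ∪ {v : X | v ∈ ⁅V, D'⁆ ∧ u * v ∈ 𝐂(D)}))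
      (t := (⁅V, D'⁆ : Subgroup X)) (by
        refine lt_of_lt_of_le ?_ h'.four
        refine (Set.ncard_insert_le _ _).trans_lt ?_
        have := Set.ncard_union_le {v : X | v ∈ ⁅V, D'⁆ ∧ v * u ∈ 𝐂(D')}
          {v : X | v ∈ ⁅V, D'⁆ ∧ u * v ∈ 𝐂(D)}
        omega)
    refine ⟨u, hu, uc, v, hv, fun e => nv (Or.inl ?_), fun e => nv (Or.inr (Or.inr ⟨hv, e⟩)),
      fun e => nv (Or.inr (Or.inl ⟨hv, e⟩))⟩
    exact mem_bot.1 (hB ▸ ⟨hv, e⟩)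
  · obtain ⟨v, hv, vc⟩ := SetLike.not_le_iff_exists.1 n1
    obtain ⟨⟨b, hb⟩, b1⟩ := ne_bot_iff_exists_ne_one.1 hB
    have b1 : b ≠ 1 := fun e => b1 (Subtype.ext e)
    have s1 := h.sub v
    have s2 : 𝐨((⁅V, D⁆ ⊓ 𝐂(D') : Subgroup X)) * 2 ≤ 𝐨((⁅V, D⁆ : Subgroup X)) := by
      rw [← card_inf_mul 𝐂(D') ⁅V, D⁆]
      refine Nat.mul_le_mul_left _ ?_
      have h0 : 𝐂(D').relIndex ⁅V, D⁆ ≠ 0 := FiniteIndex.index_ne_zero
      have h1 : 𝐂(D').relIndex ⁅V, D⁆ ≠ 1 := fun e => n2 (relIndex_eq_one.1 e)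
      omega
    obtain ⟨u, hu, nu⟩ := Set.exists_mem_notMem_of_ncard_lt_ncard
      (s := ((⁅V, D⁆ ⊓ 𝐂(D') : Subgroup X) : Set X) ∪ {u : X | u ∈ ⁅V, D⁆ ∧ u * v ∈ 𝐂(D)})
      (t := (⁅V, D⁆ : Subgroup X)) (by
        refine (Set.ncard_union_le _ _).trans_lt ?_
        have := h.four
        show 𝐨((⁅V, D⁆ ⊓ 𝐂(D') : Subgroup X)) + _ < 𝐨((⁅V, D⁆ : Subgroup X))
        omega)
    have uc : u ∉ 𝐂(D') := fun e => nu (Or.inl ⟨hu, e⟩)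
    have uv : u * v ∉ 𝐂(D) := fun e => nu (Or.inr ⟨hu, e⟩)
    by_cases c : v * u ∈ 𝐂(D')
    · refine ⟨u, hu, uc, v * b, mul_mem hv hb.1, fun e => vc (((𝐂(D)).mul_mem_cancel_right hb.2).1 e),
        fun e => uv (((𝐂(D)).mul_mem_cancel_right hb.2).1 (by rwa [mul_assoc])), fun e => b1 ?_⟩
      refine h'.one hb.1 ((mul_mem_cancel_right c).1 ?_)
      rwa [← mul_assoc, el_comm hV (h'.le hb.1) (h'.le hv)]
    · exact ⟨u, hu, uc, v, hv, vc, uv, c⟩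

end QD

theorem ql {V M Γ D : Subgroup X} (hV : IsElementaryAbelian 2 V) (h : QD V D) (DM : D ≤ M)
    (ΓM : Γ ≤ 𝐍(M)) (ΓV : Γ ≤ 𝐍(V))
    (sym : ∀ γ ∈ Γ, ∀ δ ∈ Γ, ⁅V, D ^ᵍ γ⁆ ≤ 𝐂(D ^ᵍ δ) → ⁅V, D ^ᵍ δ⁆ ≤ 𝐂(D ^ᵍ γ)) (DΓ : D ≤ Γ) :
    ∃ v ∈ V, v ≠ 1 ∧ ∀ β ∈ Γ, ∃ m ∈ M, β * v * β⁻¹ = m * v * m⁻¹ := by
  classical
  let N : Subgroup X := ⨆ γ : Γ, D ^ᵍ (γ : X)
  have DN : ∀ γ : Γ, D ^ᵍ (γ : X) ≤ N := fun γ => le_iSup (fun γ : Γ => D ^ᵍ (γ : X)) γ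
  have NM : N ≤ M := iSup_le fun γ => conj_le_of_mem_norm DM (ΓM γ.2)
  have NΓ : N ≤ Γ := iSup_le fun γ => conj_le_of_mem DΓ γ.2
  have ΓN : ∀ β ∈ Γ, ∀ n ∈ N, β * n * β⁻¹ ∈ N := fun β hβ n hn => by
    have : N ≤ N ^ᵍ β⁻¹ := iSup_le fun γ => by
      rw [← conj_le_iff, conj_conj]; exact DN ⟨β * γ, Γ.mul_mem hβ γ.2⟩
    exact conj_le_iff.2 this (conj_mem_conj hn β)
  have q : ∀ γ : Γ, QD V (D ^ᵍ (γ : X)) := fun γ => h.conj (ΓV γ.2)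
  let O : Γ → Set X := fun γ => {x | ∃ n ∈ N, ∃ u ∈ ⁅V, D ^ᵍ (γ : X)⁆, u ≠ 1 ∧ x = n * u * n⁻¹}
  have orb : ∀ γ : Γ, ∀ a ∈ O γ, ∀ b, b ∈ O γ ↔ ∃ n ∈ N, b = n * a * n⁻¹ := by
    rintro γ _ ⟨n, hn, u, hu, u1, rfl⟩ b
    constructor
    · rintro ⟨n', hn', u', hu', u1', rfl⟩
      obtain ⟨d, hd, rfl⟩ := (q γ).tr u hu u1 u' hu' u1'
      exact ⟨n' * d * n⁻¹, mul_mem (mul_mem hn' (DN γ hd)) (inv_mem hn), by group⟩
    · rintro ⟨n', hn', rfl⟩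
      exact ⟨n' * n, mul_mem hn' hn, u, hu, u1, by group⟩
  have self : ∀ γ : Γ, ∀ u ∈ ⁅V, D ^ᵍ (γ : X)⁆, u ≠ 1 → u ∈ O γ := fun γ u hu u1 =>
    ⟨1, one_mem _, u, hu, u1, by group⟩
  have m1 : ∀ γ δ : Γ, O γ ≠ O δ → ⁅V, D ^ᵍ (γ : X)⁆ ≤ 𝐂(D ^ᵍ (δ : X)) := by
    intro γ δ ne
    by_contra n2
    obtain ⟨u, hu, u1, v, hv, v1, d, hd, e, he, e1⟩ := QD.link hV (q γ) (q δ)
      (fun a => n2 (sym δ δ.2 γ γ.2 a)) n2
    have a : e * u * e⁻¹ ∈ O γ := (orb γ u (self γ u hu u1) _).2 ⟨e, DN δ he, rfl⟩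
    have b : e * u * e⁻¹ ∈ O δ := (orb δ v (self δ v hv v1) _).2 ⟨d, DN γ hd, e1.symm⟩
    exact ne (Set.ext fun x => (orb γ _ a x).trans (orb δ _ b x).symm)
  let W : Set X → Subgroup X := fun c => ⨆ γ : {γ : Γ // O γ = c}, ⁅V, D ^ᵍ (γ.1 : X)⁆
  let K : Set X → Subgroup X := fun c => ⨆ γ : {γ : Γ // O γ = c}, D ^ᵍ (γ.1 : X)
  have WV : ∀ c, W c ≤ V := fun c => iSup_le fun γ => (q γ.1).le
  have lW : ∀ γ : Γ, ⁅V, D ^ᵍ (γ : X)⁆ ≤ W (O γ) := fun γ =>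
    le_iSup (fun δ : {δ : Γ // O δ = O γ} => ⁅V, D ^ᵍ (δ.1 : X)⁆) ⟨γ, rfl⟩
  have cW : ∀ (c : Set X) (δ : Γ), O δ ≠ c → D ^ᵍ (δ : X) ≤ 𝐂(W c) := fun c δ ne =>
    le_centralizer_iff.1 (iSup_le fun γ => m1 γ.1 δ (by rw [γ.2]; exact ne.symm))
  have nW : ∀ (c : Set X) (δ : Γ), D ^ᵍ (δ : X) ≤ 𝐍(W c) := fun c δ => by
    by_cases e : O δ = c
    · intro d hd
      apply mem_norm_of_conj_le
      intro x hx
      obtain ⟨w, hw, rfl⟩ := mem_conj'.1 hx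
      have : d * w * d⁻¹ = w * ⁅w⁻¹, d⁆ := by rw [commutatorElement_def]; group
      rw [this]
      exact mul_mem hw (e ▸ lW δ (commutator_mem_commutator (inv_mem (WV c hw)) hd))
    · exact H1.le_normalizer_of_le_centralizer (cW c δ e)
  have NW : ∀ c, N ≤ 𝐍(W c) := fun c => iSup_le (nW c)
  have KN : ∀ c, K c ≤ N := fun c => iSup_le fun γ => DN γ.1
  have OW : ∀ γ : Γ, ∀ x ∈ O γ, x ∈ W (O γ) := by
    rintro γ _ ⟨n, hn, u, hu, -, rfl⟩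
    exact (mem_normalizer_iff.1 (NW _ hn) u).1 (lW γ hu)
  have tr : ∀ γ : Γ, ∀ a ∈ O γ, ∀ b ∈ O γ, ∃ n ∈ N, b = n * a * n⁻¹ ∧
      ∀ δ : Γ, O δ ≠ O γ → ∀ x ∈ O δ, n * x * n⁻¹ = x := by
    intro γ a ha b hb
    obtain ⟨n, hn, rfl⟩ := (orb γ a ha b).1 hb
    have l : N ≤ 𝐂(W (O γ)) ⊔ K (O γ) := iSup_le fun δ => by
      by_cases e : O δ = O γ
      · exact le_sup_of_le_right
          (le_iSup (fun δ : {δ : Γ // O δ = O γ} => D ^ᵍ (δ.1 : X)) ⟨δ, e⟩)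
      · exact le_sup_of_le_left (cW _ δ e)
    obtain ⟨k, hk, c, hc, rfl⟩ := (mem_sup_of_norm'
      (H1.le_normalizer_centralizer ((KN _).trans (NW _)))).1 (l hn)
    refine ⟨k, KN _ hk, ?_, fun δ ne x hx => ?_⟩
    · rw [mul_assoc k c a, ← hc a (OW γ a ha)]; group
    · have : K (O γ) ≤ 𝐂(W (O δ)) := iSup_le fun ε => cW _ ε.1 (by rw [ε.2]; exact ne.symm)
      rw [← this hk x (OW δ x hx)]; group
  have OV : ∀ γ : Γ, ∀ x ∈ O γ, x ∈ V := fun γ x hx => WV _ (OW γ x hx)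
  have two : ∀ γ : Γ, ∀ a : X, ∃ b ∈ O γ, b ≠ a := fun γ a => by
    obtain ⟨b, hb, nb⟩ := Set.exists_mem_notMem_of_ncard_lt_ncard (s := {1, a})
      (t := (⁅V, D ^ᵍ (γ : X)⁆ : Subgroup X)) (by
        refine lt_of_lt_of_le ?_ (q γ).four
        refine (Set.ncard_insert_le _ _).trans_lt ?_
        rw [Set.ncard_singleton]; norm_num)
    exact ⟨b, self γ b hb fun e => nb (Or.inl e), fun e => nb (Or.inr e)⟩
  letI : CommGroup V := { (inferInstance : Group V) with mul_comm := hV.1.is_comm.comm }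
  let φ : Γ →* MulAut V := H1.conjAut ΓV
  have φe : ∀ (β : Γ) (v : V), (φ β v : X) = β * v * (β : X)⁻¹ := H1.coe_conjAut ΓV
  let C : Finset (Set X) := (Set.toFinite (Set.range O)).toFinset
  have mC : ∀ c, c ∈ C ↔ ∃ γ, O γ = c := fun c => Set.Finite.mem_toFinset _
  have eqv : ∀ o o' : Set X → V, (∀ γ, (o (O γ) : X) ∈ O γ) → (∀ γ, (o' (O γ) : X) ∈ O γ) →
      ∃ n : Γ, (n : X) ∈ N ∧ φ n (∏ c ∈ C, o c) = ∏ c ∈ C, o' c := by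
    intro o o' ho ho'
    have : ∀ s : Finset (Set X), s ⊆ C → ∃ n : Γ, (n : X) ∈ N ∧ ∀ c ∈ s, φ n (o c) = o' c := by
      intro s
      induction s using Finset.induction_on with
      | empty => exact fun _ => ⟨1, one_mem _, by simp⟩
      | insert c s cs ih =>
        intro hs
        obtain ⟨n, hn, e⟩ := ih ((Finset.subset_insert c s).trans hs)
        obtain ⟨γ, rfl⟩ := (mC c).1 (hs (Finset.mem_insert_self c s))
        obtain ⟨k, hk, e1, e2⟩ := tr γ _ ((orb γ _ (ho γ) _).2 ⟨n, hn, rfl⟩) _ (ho' γ)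
        refine ⟨⟨k, NΓ hk⟩ * n, mul_mem hk hn, fun c hc => Subtype.ext ?_⟩
        rw [map_mul, MulAut.mul_apply, φe]
        rcases Finset.mem_insert.1 hc with rfl | hc
        · rw [φe, e1]
        · obtain ⟨δ, rfl⟩ := (mC c).1 (hs (Finset.mem_insert_of_mem hc))
          rw [e _ hc]
          exact e2 δ (fun e => cs (e ▸ hc)) _ (ho' δ)
    obtain ⟨n, hn, e⟩ := this C le_rfl
    exact ⟨n, hn, by rw [map_prod]; exact Finset.prod_congr rfl e⟩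
  obtain ⟨o, ho⟩ : ∃ o : Set X → V, ∀ γ, (o (O γ) : X) ∈ O γ := by
    have : ∀ c : Set X, ∃ v : V, ∀ γ, O γ = c → (v : X) ∈ c := fun c => by
      by_cases e : ∃ γ, O γ = c
      · obtain ⟨γ, rfl⟩ := e
        obtain ⟨b, hb, -⟩ := two γ 1
        exact ⟨⟨b, OV γ b hb⟩, fun _ _ => hb⟩
      · exact ⟨1, fun γ e' => absurd ⟨γ, e'⟩ e⟩
    choose o ho using this
    exact ⟨o, fun γ => ho _ γ rfl⟩
  refine ⟨(∏ c ∈ C, o c : V), Subtype.property _, fun e => ?_, fun β hβ => ?_⟩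
  · have e : ∏ c ∈ C, o c = 1 := Subtype.ext e
    obtain ⟨b, hb, nb⟩ := two 1 (o (O 1))
    obtain ⟨n, -, e1⟩ := eqv o (Function.update o (O 1) ⟨b, OV 1 b hb⟩) ho fun γ => by
      by_cases e : O γ = O 1
      · rw [e, Function.update_self]; exact hb
      · rw [Function.update_of_ne e]; exact ho γ
    have m := (mC _).2 ⟨1, rfl⟩
    rw [e, map_one, Finset.prod_update_of_mem m, ← e, ← Finset.mul_prod_erase C o m,
      Finset.sdiff_singleton_eq_erase, mul_left_inj] at e1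
    exact nb (congrArg Subtype.val e1).symm
  · let cj : X → Set X → Set X := fun g c => {x | g⁻¹ * x * g ∈ c}
    have cjO : ∀ g γ : Γ, cj g (O γ) = O (g * γ) := by
      have key : ∀ g γ : Γ, ∀ x ∈ O γ, (g : X) * x * (g : X)⁻¹ ∈ O (g * γ) := by
        rintro g γ _ ⟨n, hn, u, hu, u1, rfl⟩
        refine ⟨_, ΓN g g.2 n hn, g * u * (g : X)⁻¹, ?_, fun e => u1 (by simpa using e), by group⟩
        rw [coe_mul, ← conj_conj, comm_conj (ΓV g.2)]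
        exact conj_mem_conj hu _
      intro g γ
      ext x
      constructor
      · intro hx
        simpa [mul_assoc] using key g γ _ hx
      · intro hx
        show _ ∈ O γ
        simpa using key g⁻¹ _ _ hx
    let b : Γ := ⟨β, hβ⟩
    obtain ⟨n, hn, e⟩ := eqv o (fun c => φ b (o (cj (b⁻¹ : Γ) c))) ho fun γ => by
      rw [cjO, φe]
      have := ho (b⁻¹ * γ)
      have e := cjO b (b⁻¹ * γ)
      rw [mul_inv_cancel_left] at e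
      rw [← e]
      show _ ∈ O _
      simpa [mul_assoc] using this
    refine ⟨n, NM hn, ?_⟩
    rw [← φe, e, ← φe b, map_prod]
    congr 1
    refine Finset.prod_nbij' (cj (b : Γ)) (cj (b⁻¹ : Γ)) ?_ ?_ ?_ ?_ ?_
    all_goals
      intro c hc
      obtain ⟨γ, rfl⟩ := (mC c).1 hc
    · rw [cjO]; exact (mC _).2 ⟨_, rfl⟩
    · rw [cjO]; exact (mC _).2 ⟨_, rfl⟩
    · rw [cjO, cjO, inv_mul_cancel_left]
    · rw [cjO, cjO, mul_inv_cancel_left]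
    · rw [cjO, cjO, inv_mul_cancel_left]

/-- Fitting decomposition for a group of odd order modulo `C(V)`. -/
theorem fitm {V D : Subgroup X} (hV : IsElementaryAbelian 2 V) (hn : D ≤ 𝐍(V))
    (ho : ¬ 2 ∣ 𝐂(V).relIndex D) : ⁅V, D⁆ ⊔ (V ⊓ 𝐂(D)) = V ∧ ⁅V, D⁆ ⊓ 𝐂(D) = ⊥ := by
  let φ : D →* MulAut V := H1.conjAut hn
  let ψ : φ.range →* MulAut V := φ.range.subtype
  have c : Nat.card φ.range = 𝐂(V).relIndex D := by
    rw [← index_ker, H1.ker_conjAut]; rfl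
  have cp : (Nat.card φ.range).Coprime 𝐨(V) :=
    H1.coprime_card_of_isPGroup (H2.isPGroup_of_elemAb hV)
      (by rw [c]; exact ((Nat.Prime.coprime_iff_not_dvd Nat.prime_two).2 ho).symm)
  have e1 : (H1.fixedSub ψ ⊤).map V.subtype = V ⊓ 𝐂(D) := by
    ext x
    constructor
    · rintro ⟨v, hv, rfl⟩
      refine ⟨v.2, fun d hd => ?_⟩
      have := congrArg Subtype.val (H1.mem_fixedSub_top.1 hv ⟨φ ⟨d, hd⟩, ⟨_, rfl⟩⟩)
      exact mul_inv_eq_iff_eq_mul.1 ((H1.coe_conjAut hn ⟨d, hd⟩ v).symm.trans this)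
    · rintro ⟨hx, hc⟩
      refine ⟨⟨x, hx⟩, H1.mem_fixedSub_top.2 ?_, rfl⟩
      rintro ⟨_, d, rfl⟩
      exact Subtype.ext ((H1.coe_conjAut hn d ⟨x, hx⟩).trans (mul_inv_eq_iff_eq_mul.2 (hc d d.2)))
  have e2 : (H1.commSub ψ ⊤ ⊤).map V.subtype = ⁅V, D⁆ := by
    apply le_antisymm
    · unfold H1.commSub
      rw [MonoidHom.map_closure, closure_le]
      rintro _ ⟨_, ⟨⟨_, d, rfl⟩, -, v, -, rfl⟩, rfl⟩
      have : V.subtype (v⁻¹ * φ d v) = ⁅((v : X))⁻¹, (d : X)⁆ := by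
        show ((v : X))⁻¹ * ((φ d v : V) : X) = _
        rw [H1.coe_conjAut, commutatorElement_def]; simp [mul_assoc]
      exact this ▸ commutator_mem_commutator (V.inv_mem v.2) d.2
    · rw [commutator_le]
      intro v hv d hd
      refine ⟨_, subset_closure ⟨⟨φ ⟨d, hd⟩, ⟨_, rfl⟩⟩, mem_top _, ⟨v, hv⟩⁻¹, mem_top _, rfl⟩, ?_⟩
      show (v⁻¹)⁻¹ * ((φ ⟨d, hd⟩ ⟨v, hv⟩⁻¹ : V) : X) = _
      rw [H1.coe_conjAut, commutatorElement_def]; simp [mul_assoc]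
  have a := H1.aut_commSub_sup_fixedSub ψ cp
    (Or.inr (H1.isSolvable_of_isPGroup (H2.isPGroup_of_elemAb hV)))
  have b := H1.aut_fixedSub_inf_commSub ψ cp hV.1
  constructor
  · rw [← e1, ← e2, ← Subgroup.map_sup, a, ← MonoidHom.range_eq_map, range_subtype]
  · rw [eq_bot_iff, ← Subgroup.map_bot V.subtype, ← b,
      Subgroup.map_inf_eq _ _ _ Subtype.val_injective, e1, e2]
    exact le_inf (inf_le_inf_right _ (H1.commutator_le_of_le_normalizer hn)) inf_le_left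

theorem card_commm {V D : Subgroup X} (hV : IsElementaryAbelian 2 V) (hn : D ≤ 𝐍(V))
    (ho : ¬ 2 ∣ 𝐂(V).relIndex D) : 𝐨((⁅V, D⁆ : Subgroup X)) = 𝐂(D).relIndex V := by
  obtain ⟨f1, f2⟩ := fitm hV hn ho
  have l : ⁅V, D⁆ ≤ V := H1.commutator_le_of_le_normalizer hn
  have c := H1.card_sup_of_inf_eq_bot (A := ⁅V, D⁆) (N := V ⊓ 𝐂(D))
    (H1.le_normalizer_of_le_centralizer fun a ha b hb => el_comm hV hb.1 (l ha))
    (eq_bot_iff.2 (f2 ▸ inf_le_inf_left _ inf_le_right))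
  rw [f1, ← card_inf_mul 𝐂(D) V, mul_comm] at c
  exact (Nat.eq_of_mul_eq_mul_right Nat.card_pos c).symm

end SQ

open Subgroup Cfsg Cfsg.Agent Cfsg.Agent.FT
open scoped commutatorElement

universe u

theorem qlStmt : QLStmt.{u} := by
  intro X _ _ Γ M V D hM hV ΓV DM ho h2 tr sym
  have hn : D ≤ 𝐍(V) := (DM.trans hM.1).trans ΓV
  obtain ⟨f1, f2⟩ := SQ.fitm hV hn ho
  have four : 4 ≤ 𝐨((⁅V, D⁆ : Subgroup X)) := by
    obtain ⟨k, hk⟩ := IsPGroup.iff_card.1 ((H2.isPGroup_of_elemAb hV).to_le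
      (H1.commutator_le_of_le_normalizer hn))
    rw [← SQ.card_commm hV hn ho] at h2
    rw [hk] at h2 ⊢
    have : 1 < k := (Nat.pow_lt_pow_iff_right (by norm_num : 1 < 2)).1 (by simpa using h2)
    exact Nat.pow_le_pow_right (by norm_num : 0 < 2) this
  obtain ⟨v, hv, v1, h⟩ := SQ.ql hV ⟨hn, f1, f2, four, tr⟩ DM hM.2 ΓV (fun γ hγ δ hδ h => by
    rw [SQ.comm_conj (ΓV hγ), le_centralizer_iff, conj_le_iff, ← cent_conj, conj_conj] at h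
    have := sym _ (Γ.mul_mem (Γ.inv_mem hδ) hγ) h
    rw [← conj_conj, ← le_conj_iff, ← cent_conj] at this
    rw [SQ.comm_conj (ΓV hδ), le_centralizer_iff]
    exact this) (DM.trans hM.1)
  refine ⟨v, hv, v1, fun β hβ => ?_⟩
  obtain ⟨m, hm, e⟩ := h β hβ
  have : β = m * (m⁻¹ * β) := by group
  rw [this]
  refine mul_mem (mem_sup_right hm) (mem_sup_left ⟨Γ.mul_mem (Γ.inv_mem (hM.1 hm)) hβ,
    mem_cent1_iff_conj.2 ?_⟩)
  calc m⁻¹ * β * v * (m⁻¹ * β)⁻¹ = m⁻¹ * (β * v * β⁻¹) * m := by group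
    _ = v := by rw [e]; group

end Cfsg.Agent.P22
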