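/-
P22, chapter SQ3: quadratic subgroups are small; abelian subgroups inverted by a small involution.
-/
import Cfsg.Agent.P22.QL

set_option autoImplicit false
set_option linter.unusedSectionVars false

namespace Cfsg.Agent.P22
namespace SQ

open Subgroup Cfsg Cfsg.Agent Cfsg.Agent.FT
open Cfsg.Agent.H7.SC (Red)
open scoped commutatorElement

universe u

variable {X : Type u} [Group X] [Finite X]

/-- A faithful model of the action of `L` on `V`. -/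
structure Tr {Y : Type u} [Group Y] (L V : Subgroup X) (f : L →* Y) (W : Subgroup Y) : Prop where
  el : IsElementaryAbelian 2 W
  n : f.range ≤ 𝐍(W)
  fa : f.range ⊓ 𝐂(W) = ⊥
  one : ∀ l : L, f l = 1 ↔ (l : X) ∈ 𝐂(V)
  ri : ∀ l : L, 𝐂[f l].relIndex W = 𝐂[(l : X)].relIndex V
  rs : ∀ A : Subgroup X, A ≤ L → 𝐂((A.subgroupOf L).map f).relIndex W = 𝐂(A).relIndex V
  qu : ∀ A : Subgroup X, A ≤ L → ⁅V, A⁆ ≤ 𝐂(A) →
    ⁅W, (A.subgroupOf L).map f⁆ ≤ 𝐂((A.subgroupOf L).map f)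

theorem exists_tr {V L : Subgroup X} (hV : IsElementaryAbelian 2 V) (hL : L ≤ 𝐍(V)) :
    ∃ (Y : Type u) (_ : Group Y) (_ : Finite Y) (f : L →* Y) (W : Subgroup Y), Tr L V f W := by
  let φ : L →* MulAut V := H1.conjAut hL
  let ρ : L →* φ.range := φ.rangeRestrict
  let ψ : φ.range →* MulAut V := φ.range.subtype
  have ρ1 : ∀ l : L, ρ l = 1 ↔ (l : X) ∈ 𝐂(V) := fun l => by
    rw [← H1.mem_ker_conjAut hL, MonoidHom.mem_ker, Subtype.ext_iff]; rfl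
  let f : L →* V ⋊[ψ] φ.range := (SemidirectProduct.inr).comp ρ
  let ι : V →* V ⋊[ψ] φ.range := SemidirectProduct.inl
  have f1 : ∀ l : L, f l = 1 ↔ (l : X) ∈ 𝐂(V) := fun l => by
    rw [← ρ1]
    exact ⟨fun e => SemidirectProduct.inr_injective (e.trans (map_one _).symm), fun e => by
      show SemidirectProduct.inr (ρ l) = 1
      rw [e, map_one]⟩
  have cm : ∀ (l : L) (v : V), ι v ∈ 𝐂[f l] ↔ (v : X) ∈ 𝐂[(l : X)] := fun l v => by
    rw [mem_cent1_comm (x := (l : X)), mem_cent1_iff_conj (x := (v : X))]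
    refine (H1.inl_mem_centralizer_inr (φ := ψ) (a := ρ l) (g := v)).trans ?_
    rw [Subtype.ext_iff]
    exact Iff.of_eq (congrArg (· = (v : X)) (H1.coe_conjAut hL l v))
  have ri : ∀ l : L, 𝐂[f l].relIndex (H1.sdL ψ ⊤) = 𝐂[(l : X)].relIndex V := fun l => by
    rw [← relIndex_comap, relIndex_top_right]
    show index _ = index _
    congr 1
    ext v
    exact cm l v
  have cs : ∀ A : Subgroup X, A ≤ L → ∀ v : V,
      ι v ∈ 𝐂((A.subgroupOf L).map f) ↔ (v : X) ∈ 𝐂(A) := fun A hA v => by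
    constructor
    · intro h a ha
      exact mem_cent1.1 ((cm ⟨a, hA ha⟩ v).1 (mem_cent1.2 (h _ (mem_map_of_mem f ha))))
    · rintro h _ ⟨a, ha, rfl⟩
      exact mem_cent1.1 ((cm a v).2 (mem_cent1.2 (h _ ha)))
  refine ⟨V ⋊[ψ] φ.range, inferInstance, inferInstance, f, H1.sdL ψ ⊤, ?_,
    le_top.trans (normalizer_eq_top _).ge, ?_, f1, ri, fun A hA => ?_, fun A hA hq => ?_⟩
  · refine (isElemAb_map_iff SemidirectProduct.inl_injective).2 ?_
    rw [← isElemAb_map_iff (f := V.subtype) Subtype.val_injective, ← MonoidHom.range_eq_map,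
      range_subtype]
    exact hV
  · rw [eq_bot_iff]
    rintro x ⟨⟨l, rfl⟩, hc⟩
    rw [mem_bot, f1, mem_cent_iff_cent1, ← relIndex_eq_one, ← ri, relIndex_eq_one]
    exact mem_cent_iff_cent1.1 hc
  · rw [← relIndex_comap, relIndex_top_right]
    show index _ = index _
    congr 1
    ext v
    exact cs A hA v
  · rw [commutator_le]
    rintro _ ⟨v, -, rfl⟩ _ ⟨a, ha, rfl⟩
    have e : ⁅ι v, f a⁆ = ι (v * φ a v⁻¹) := by
      rw [map_mul, commutatorElement_def, mul_assoc, mul_assoc, ← mul_assoc (f a), ← map_inv]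
      exact congrArg _ (H1.inr_mul_inl_mul_inv (φ := ψ) (ρ a) v⁻¹)
    refine e ▸ (cs A hA _).2 ?_
    have : ((v * φ a v⁻¹ : V) : X) = ⁅(v : X), (a : X)⁆ := by
      rw [coe_mul, H1.coe_conjAut, commutatorElement_def]; simp [mul_assoc]
    rw [this]
    exact hq (commutator_mem_commutator v.2 ha)

namespace Tr

variable {Y : Type u} [Group Y] [Finite Y] {L V : Subgroup X} {f : L →* Y} {W : Subgroup Y}
  (h : Tr L V f W)
include h

theorem card {A : Subgroup X} (hA : A ≤ L) : 𝐨((A.subgroupOf L).map f) = 𝐂(V).relIndex A := by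
  have : f.ker = 𝐂(V).subgroupOf L := by ext l; exact h.one l
  rw [← relIndex_ker, this, relIndex_subgroupOf hA]

omit h in
theorem nrm {K : Subgroup Y} (n : K ⊲ f.range) : (K.comap f).map L.subtype ⊲ L := by
  refine ⟨map_subtype_le _, fun g hg => mem_norm_of_conj_le fun x hx => ?_⟩
  obtain ⟨_, ⟨k, hk, rfl⟩, rfl⟩ := mem_conj'.1 hx
  refine ⟨⟨g, hg⟩ * k * ⟨g, hg⟩⁻¹, ?_, rfl⟩
  show f _ ∈ K
  rw [map_mul, map_mul, map_inv]
  exact (mem_normalizer_iff.1 (n.2 ⟨_, rfl⟩) _).1 hk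

theorem o2 (red : Red L V) : pCoreOf 2 f.range = ⊥ := by
  have n := pCoreOf_normal 2 f.range
  have := red _ (nrm n) ?_
  · rw [eq_bot_iff]
    intro x hx
    obtain ⟨l, rfl⟩ := n.1 hx
    exact (h.one l).2 (this ⟨l, hx, rfl⟩)
  · rintro _ ⟨k, hk, rfl⟩
    obtain ⟨m, hm⟩ := H2.isPGroup_pCoreOf 2 f.range ⟨f k, hk⟩
    refine ⟨m, (h.one (k ^ 2 ^ m)).1 ?_⟩
    rw [map_pow]
    exact congrArg Subtype.val hm

theorem nq (q : NoQ L V) {K : Subgroup Y} (n : K ⊲ f.range) (ho : ¬ 2 ∣ 𝐨(K)) :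
    ∀ y ∈ K, y ^ 3 = 1 → 𝐂[y].relIndex W ≠ 4 := by
  intro y hy y3
  obtain ⟨l, rfl⟩ := n.1 hy
  rw [h.ri]
  refine q _ (nrm n) ?_ l ⟨l, hy, rfl⟩ ((h.one (l ^ 3)).1 (by rw [map_pow, y3]))
  rw [← h.card (map_subtype_le _), subgroupOf, comap_map_eq_self_of_injective Subtype.val_injective,
    map_comap_eq_self n.1]
  exact ho

end Tr

theorem exists_inv {F A : Subgroup X} (ho : Odd 𝐨(F)) (hA : IsElementaryAbelian 2 A)
    (hn : A ≤ 𝐍(F)) {b : X} (bA : b ∈ A) (bF : b ∉ 𝐂(F)) :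
    ∃ B ≤ A, B.relIndex A = 2 ∧ b ∉ B ∧ ∃ y ∈ F ⊓ 𝐂(B), y ≠ 1 ∧ b * y * b⁻¹ = y⁻¹ := by
  have cp : 𝐨(A).Coprime 𝐨(F) := (cop hA ho).symm
  obtain ⟨B', B'A, B'i, c, hc, cb⟩ : ∃ B' ≤ A, B'.relIndex A = 2 ∧ ∃ c ∈ F ⊓ 𝐂(B'), c ∉ 𝐂[b] := by
    by_contra hcon
    push Not at hcon
    exact bF (mem_cent_iff_cent1.2 (H1.le_of_forall_hyperplane Nat.prime_two hA
      (fun e => bF (by rw [e] at bA; rw [mem_bot.1 bA]; exact one_mem _)) hn cp
      fun B' a i => hcon B' a i))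
  have bi : b⁻¹ = b := inv_eq_of_mul_eq_one_right (el_sq hA bA)
  refine ⟨B', B'A, B'i, fun e => cb (mem_cent1.2 (hc.2 b e)), ⁅c, b⁆,
    H1.commutator_le_of_le_normalizer (H1.le_normalizer_inf_centralizer_of_comm hA.1 B'A hn)
      (commutator_mem_commutator hc bA),
    fun e => cb (mem_cent1.2 (commutatorElement_eq_one_iff_mul_comm.1 e).symm), ?_⟩
  rw [commutatorElement_def]
  calc _ = b * c * b * c⁻¹ * (b * b)⁻¹ := by group
    _ = b * c * b⁻¹ * c⁻¹ := by rw [el_sq hA bA, bi]; group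
    _ = _ := by group

/-- The numerical bound of `dim` without elements of order three with small commutator space. -/
theorem dim' {V E : Subgroup X} {t : X} (hV : IsElementaryAbelian 2 V) (tt : t * t = 1)
    (tn : t ∈ 𝐍(V)) (En : E ≤ 𝐍(V)) (oE : Odd 𝐨(E)) (EE : E ≤ 𝐂(E))
    (inv : ∀ e ∈ E, t * e * t⁻¹ = e⁻¹) (fa : E ⊓ 𝐂(V) = ⊥) (E1 : E ≠ ⊥)
    (nq : ∀ y ∈ E, y ^ 3 = 1 → 𝐂[y].relIndex V ≠ 4) :
    2 ^ (om 𝐨(E) + 1) ≤ 𝐂[t].relIndex ⁅V, E⁆ := by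
  have l : ⁅V, E⁆ ≤ V := H1.commutator_le_of_le_normalizer En
  obtain ⟨d1, -, d3⟩ := dim tt E ⁅V, E⁆ (el_mono hV l)
    (zpowers_le.1 (H1.le_normalizer_commutator (zpowers_le.2 tn)
      (zpowers_le.2 (norm_of_inv inv le_rfl)))) H1.le_normalizer_commutator_self oE EE inv
    (eq_bot_iff.2 (fa ▸ le_inf inf_le_left (faith hV oE En))) (fit hV oE En).2
  have h1 : 2 ^ om 𝐨(E) < 𝐨((⁅V, E⁆ ⊓ 𝐂[t] : Subgroup X)) := by
    by_contra hn
    rcases d3 (not_lt.1 hn) with e | ⟨y, hy, y3, y4⟩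
    · exact E1 e
    · rw [← comm_eq hV oE En (zpowers_le.2 hy), card_comm hV (En hy) (odd_orderOf oE hy)] at y4
      exact nq y hy y3 y4
  have h2 : 𝐨((⁅V, E⁆ ⊓ 𝐂[t] : Subgroup X)) ≤ 𝐂[t].relIndex ⁅V, E⁆ := by
    rw [← card_inf_mul 𝐂[t] ⁅V, E⁆, pow_two] at d1
    exact Nat.le_of_mul_le_mul_left d1 Nat.card_pos
  obtain ⟨k, hk⟩ := IsPGroup.iff_card.1 ((H2.isPGroup_of_elemAb hV).to_le
    ((inf_le_left : ⁅V, E⁆ ⊓ 𝐂[t] ≤ _).trans l))
  rw [hk] at h1 h2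
  exact (Nat.pow_le_pow_right (by norm_num)
    ((Nat.pow_lt_pow_iff_right (by norm_num : 1 < 2)).1 h1)).trans h2

theorem sq0 {V L : Subgroup X} (hV : IsElementaryAbelian 2 V) (hL : L ≤ 𝐍(V))
    (fa : L ⊓ 𝐂(V) = ⊥) (hs : Group.IsSolvable L) (o2 : pCoreOf 2 L = ⊥)
    (nq : ∀ y ∈ fittingOf L, y ^ 3 = 1 → 𝐂[y].relIndex V ≠ 4)
    (n4 : ∀ t ∈ L, t * t = 1 → t ≠ 1 → 4 < 𝐂[t].relIndex V) (A : Subgroup X) :
    A ≤ L → ⁅V, A⁆ ≤ 𝐂(A) → A ≠ ⊥ → 𝐨(A) ^ 2 < 𝐂(A).relIndex V := by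
  induction A using WellFoundedLT.induction with
  | ind A ih =>
  intro AL qu A1
  have ho : Odd 𝐨(fittingOf L) := by
    rw [← Nat.not_even_iff_odd, even_iff_two_dvd]
    exact not_dvd_card_fittingOf Nat.prime_two o2
  have FL := (fittingOf_normal L).1
  have sq : ∀ a ∈ A, a * a = 1 := fun a ha => by
    refine mem_bot.1 (fa ▸ ⟨L.mul_mem (AL ha) (AL ha), fun v hv => ?_⟩)
    have h1 := qu (commutator_mem_commutator (V.inv_mem hv) ha) a ha
    have h2 := el_sq hV (H1.commutator_le_of_le_normalizer (AL.trans hL)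
      (commutator_mem_commutator (V.inv_mem hv) ha))
    have e : a * v = v * ⁅v⁻¹, a⁆ * a := by rw [commutatorElement_def]; group
    calc v * (a * a) = v * (⁅v⁻¹, a⁆ * ⁅v⁻¹, a⁆) * a * a := by rw [h2]; group
      _ = v * ⁅v⁻¹, a⁆ * (⁅v⁻¹, a⁆ * a) * a := by group
      _ = (v * ⁅v⁻¹, a⁆ * a) * ⁅v⁻¹, a⁆ * a := by rw [← h1]; group
      _ = a * (v * ⁅v⁻¹, a⁆ * a) := by rw [← e]; group
      _ = _ := by rw [← e]; group
  have hA : IsElementaryAbelian 2 A := by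
    rw [H5.elemAb_iff]
    refine ⟨fun a ha b hb => ?_, fun a ha => by rw [pow_two, sq a ha]⟩
    rw [← inv_eq_of_mul_eq_one_right (sq _ (A.mul_mem ha hb)), mul_inv_rev,
      inv_eq_of_mul_eq_one_right (sq a ha), inv_eq_of_mul_eq_one_right (sq b hb)]
  obtain ⟨⟨b, bA⟩, b1⟩ := ne_bot_iff_exists_ne_one.1 A1
  have b1 : b ≠ 1 := fun e => b1 (Subtype.ext e)
  obtain ⟨B, BA, Bi, bB, y, hy, y1, inv⟩ := exists_inv ho hA (AL.trans (fittingOf_normal L).2) bA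
    fun e => b1 (mem_bot.1 (H1.inf_eq_bot_of_coprime' (cop hA ho) ▸
      ⟨cent_fittingOf_le hs ⟨AL bA, e⟩, bA⟩))
  have cA := H1.card_mul_relIndex BA
  rw [Bi] at cA
  have Cb : 𝐂(A) ≤ 𝐂[b] := cent_le_cent1 bA
  by_cases B0 : B = ⊥
  · rw [B0, card_bot] at cA
    rw [← cA]
    exact (n4 b (AL bA) (sq b bA) b1).trans_le
      (relIndex_le_of_le_left Cb FiniteIndex.index_ne_zero)
  have i1 := ih B (lt_of_le_of_ne BA fun e => bB (e ▸ bA)) (BA.trans AL)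
    ((commutator_mono le_rfl BA).trans (qu.trans (centralizer_le (SetLike.coe_subset_coe.2 BA)))) B0
  have yF : zpowers y ≤ fittingOf L := zpowers_le.2 hy.1
  have oy : Odd 𝐨(zpowers y) := Odd.of_dvd_nat ho (Subgroup.card_dvd_of_le yF)
  have yn : zpowers y ≤ 𝐍(V) := (yF.trans FL).trans hL
  have i2 := dim' hV (sq b bA) (hL (AL bA)) yn oy (H2.le_centralizer_of_comm inferInstance)
    (by rintro _ ⟨k, rfl⟩; rw [← conj_zpow, inv, inv_zpow])
    (eq_bot_iff.2 (fa ▸ inf_le_inf_right _ (yF.trans FL))) (by simpa using y1)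
    fun z hz => nq z (yF hz)
  have p : 0 < om 𝐨(zpowers y) := om_pos ((one_lt_card_iff_ne_bot _).2 (by simpa using y1))
  have i3 : 4 ≤ 𝐂[b].relIndex ⁅V, zpowers y⁆ :=
    (Nat.pow_le_pow_right (by norm_num) (by omega : 2 ≤ om 𝐨(zpowers y) + 1)).trans i2
  have l : ⁅V, zpowers y⁆ ≤ V := H1.commutator_le_of_le_normalizer yn
  have yB : zpowers y ≤ 𝐂(B) := zpowers_le.2 hy.2
  have lB : ⁅V, zpowers y⁆ ≤ 𝐂(B) := by
    rw [← commutator_eq_bot_iff_le_centralizer, eq_bot_iff, ← (fit hV oy yn).2]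
    refine le_inf (H1.commutator_le_of_le_normalizer (H1.le_normalizer_commutator
      ((BA.trans AL).trans hL) (H1.le_normalizer_of_le_centralizer (le_centralizer_iff.1 yB)))) ?_
    have z1 : ⁅⁅V, zpowers y⁆, B⁆ ≤ 𝐂[b] := (commutator_mono l BA).trans (qu.trans Cb)
    have z2 : y ∈ 𝐍(⁅⁅V, zpowers y⁆, B⁆) := zpowers_le.1 (H1.le_normalizer_commutator
      H1.le_normalizer_commutator_self (H1.le_normalizer_of_le_centralizer yB))
    have z3 : ⁅⁅V, zpowers y⁆, B⁆ ≤ 𝐂[y * b * y⁻¹] := by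
      rw [cent1_conj, ← conj_eq_of_mem_norm z2]; exact conj_mono z1 y
    rw [le_centralizer_iff, zpowers_le]
    apply mem_of_sq (odd_orderOf ho hy.1)
    have : y * y = y * b * y⁻¹ * b⁻¹ := by
      rw [mul_assoc y b, mul_assoc y, show b * y⁻¹ * b⁻¹ = (b * y * b⁻¹)⁻¹ by group, inv, inv_inv]
    rw [this]
    exact mul_mem (mem_cent_iff_cent1.2 z3) (inv_mem (mem_cent_iff_cent1.2 z1))
  have i4 : 4 ≤ 𝐂(A).relIndex (V ⊓ 𝐂(B)) := i3.trans
    ((relIndex_le_of_le_left Cb FiniteIndex.index_ne_zero).trans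
      (relIndex_le_of_le_right (le_inf l lB) FiniteIndex.index_ne_zero))
  have i5 : 𝐂(A).relIndex (V ⊓ 𝐂(B)) * 𝐂(B).relIndex V = 𝐂(A).relIndex V := by
    have := relIndex_inf_mul_relIndex 𝐂(A) 𝐂(B) V
    rwa [inf_comm 𝐂(B) V, inf_eq_left.2 (centralizer_le (SetLike.coe_subset_coe.2 BA))] at this
  rw [← i5, ← cA, mul_pow, mul_comm]
  exact Nat.mul_lt_mul_of_le_of_lt i4 i1 (by omega)

/-- Part (a) of chapter N4. -/
theorem n4a {V L K E : Subgroup X} {t : X} (hV : IsElementaryAbelian 2 V) (hL : L ≤ 𝐍(V))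
    (nq : NoQ L V) (hK : K ⊲ L) (oK : ¬ 2 ∣ 𝐂(V).relIndex K) (tL : t ∈ L) (tt : t ^ 2 ∈ 𝐂(V))
    (h4 : 𝐂[t].relIndex V ≤ 4) (EK : E ≤ K) (ab : ∀ a ∈ E, ∀ b ∈ E, ⁅a, b⁆ ∈ 𝐂(V))
    (inv : ∀ e ∈ E, t * e * t⁻¹ * e ∈ 𝐂(V)) : om (𝐂(V).relIndex E) ≤ 1 := by
  obtain ⟨Y, _, _, f, W, h⟩ := exists_tr hV hL
  have EL := EK.trans hK.1
  rw [← h.card EL]
  by_cases E1 : (E.subgroupOf L).map f = ⊥
  · simp [E1]
  have l : (E.subgroupOf L).map f ≤ f.range := map_le_range f _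
  have oE : Odd 𝐨((E.subgroupOf L).map f) := by
    refine Odd.of_dvd_nat (n := 𝐨((K.subgroupOf L).map f)) ?_
      (Subgroup.card_dvd_of_le (map_mono (subgroupOf_mono L EK)))
    rwa [h.card hK.1, ← Nat.not_even_iff_odd, even_iff_two_dvd]
  have := dim' (t := f ⟨t, tL⟩) h.el (by
      rw [← map_mul, h.one, coe_mul, ← pow_two]; exact tt) (h.n ⟨_, rfl⟩) (l.trans h.n) oE
    (by
      rintro _ ⟨a, ha, rfl⟩ _ ⟨b, hb, rfl⟩
      rw [← commutatorElement_eq_one_iff_mul_comm, ← map_commutatorElement, h.one]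
      exact ab b hb a ha)
    (by
      rintro _ ⟨a, ha, rfl⟩
      rw [← mul_eq_one_iff_eq_inv, ← map_inv, ← map_mul, ← map_mul, ← map_mul, h.one]
      exact inv a ha)
    (eq_bot_iff.2 (h.fa ▸ inf_le_inf_right _ l)) E1
    (by
      rintro _ ⟨a, ha, rfl⟩ a3
      rw [h.ri]
      exact nq K hK oK a (EK ha) ((h.one (a ^ 3)).1 (by rw [map_pow, a3])))
  have h5 := this.trans ((relIndex_le_of_le_right (H1.commutator_le_of_le_normalizer (l.trans h.n))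
    FiniteIndex.index_ne_zero).trans ((h.ri ⟨t, tL⟩).le.trans h4))
  have : om 𝐨((E.subgroupOf L).map f) + 1 ≤ 2 :=
    (Nat.pow_le_pow_iff_right (by norm_num : 1 < 2)).1 h5
  omega

/-- Part (a) of chapter N4, for two elements. -/
theorem n4a2 {V L K : Subgroup X} {t y z : X} (hV : IsElementaryAbelian 2 V) (hL : L ≤ 𝐍(V))
    (nq : NoQ L V) (hK : K ⊲ L) (oK : ¬ 2 ∣ 𝐂(V).relIndex K) (tL : t ∈ L) (tt : t ^ 2 ∈ 𝐂(V))
    (h4 : 𝐂[t].relIndex V ≤ 4) (hy : y ∈ K) (hz : z ∈ K) (y1 : y ∉ 𝐂(V)) (ab : ⁅y, z⁆ ∈ 𝐂(V))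
    (iy : t * y * t⁻¹ * y ∈ 𝐂(V)) (iz : t * z * t⁻¹ * z ∈ 𝐂(V)) : z ∈ zpowers y ⊔ 𝐂(V) := by
  obtain ⟨Y, _, _, f, W, h⟩ := exists_tr hV hL
  let y' : L := ⟨y, hK.1 hy⟩
  let z' : L := ⟨z, hK.1 hz⟩
  let t' : L := ⟨t, tL⟩
  have cm : f y' * f z' = f z' * f y' := by
    rw [← commutatorElement_eq_one_iff_mul_comm, ← map_commutatorElement, h.one]; exact ab
  have iv : ∀ a : L, t * a * t⁻¹ * a ∈ 𝐂(V) → f t' * f a * (f t')⁻¹ = (f a)⁻¹ := fun a ha => by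
    rw [← mul_eq_one_iff_eq_inv, ← map_inv, ← map_mul, ← map_mul, ← map_mul, h.one]
    exact ha
  have zc : zpowers (f z') ≤ 𝐂(zpowers (f y')) := by
    rw [zpowers_le, cent_zpowers]; exact mem_cent1.2 cm
  have mem : ∀ x ∈ zpowers (f y') ⊔ zpowers (f z'), ∃ i j : ℤ, x = f y' ^ i * f z' ^ j := by
    intro x hx
    obtain ⟨_, ⟨i, rfl⟩, _, ⟨j, rfl⟩, rfl⟩ :=
      (mem_sup_of_norm (H1.le_normalizer_of_le_centralizer zc)).1 hx
    exact ⟨i, j, rfl⟩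
  have c2 : Commute (f y') (f z') := cm
  have e1 : ((zpowers y ⊔ zpowers z).subgroupOf L).map f = zpowers (f y') ⊔ zpowers (f z') := by
    have : (zpowers y ⊔ zpowers z).subgroupOf L = zpowers y' ⊔ zpowers z' := by
      apply map_injective (f := L.subtype) Subtype.val_injective
      rw [map_subgroupOf_eq_of_le (sup_le (zpowers_le.2 y'.2) (zpowers_le.2 z'.2)),
        Subgroup.map_sup, MonoidHom.map_zpowers, MonoidHom.map_zpowers]
      rfl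
    rw [this, Subgroup.map_sup, MonoidHom.map_zpowers, MonoidHom.map_zpowers]
  have EK : zpowers y ⊔ zpowers z ≤ K := sup_le (zpowers_le.2 hy) (zpowers_le.2 hz)
  have mem' : ∀ a (ha : a ∈ zpowers y ⊔ zpowers z), ∃ i j : ℤ,
      f ⟨a, hK.1 (EK ha)⟩ = f y' ^ i * f z' ^ j := fun a ha =>
    mem _ (e1 ▸ mem_map_of_mem f ha)
  have := n4a hV hL nq hK oK tL tt h4 EK (fun a ha b hb => by
      obtain ⟨i, j, e⟩ := mem' a ha
      obtain ⟨k, l, e'⟩ := mem' b hb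
      refine (h.one ⁅(⟨a, hK.1 (EK ha)⟩ : L), ⟨b, hK.1 (EK hb)⟩⁆).1 ?_
      rw [map_commutatorElement, e, e', commutatorElement_eq_one_iff_commute]
      exact (((Commute.refl _).zpow_zpow i k).mul_right (c2.zpow_zpow i l)).mul_left
        ((c2.symm.zpow_zpow j k).mul_right ((Commute.refl _).zpow_zpow j l)))
    (fun a ha => by
      obtain ⟨i, j, e⟩ := mem' a ha
      refine (h.one (t' * ⟨a, hK.1 (EK ha)⟩ * t'⁻¹ * ⟨a, hK.1 (EK ha)⟩)).1 ?_
      rw [map_mul, map_mul, map_mul, map_inv, e]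
      have : f t' * (f y' ^ i * f z' ^ j) * (f t')⁻¹ =
          (f t' * f y' * (f t')⁻¹) ^ i * (f t' * f z' * (f t')⁻¹) ^ j := by
        rw [conj_zpow, conj_zpow]; group
      rw [this, iv y' iy, iv z' iz, inv_zpow, inv_zpow, ← mul_inv_rev, (c2.symm.zpow_zpow j i).eq,
        inv_mul_cancel])
  rw [← h.card (EK.trans hK.1), e1] at this
  have m : f z' ∈ zpowers (f y') := by
    by_contra hn
    have l : zpowers (f y') < zpowers (f y') ⊔ zpowers (f z') :=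
      left_lt_sup.2 fun e => hn (e (mem_zpowers _))
    have c1 := H1.card_mul_relIndex l.le
    have r1 : 1 < (zpowers (f y')).relIndex (zpowers (f y') ⊔ zpowers (f z')) := by
      have h0 : (zpowers (f y')).relIndex (zpowers (f y') ⊔ zpowers (f z')) ≠ 0 :=
        FiniteIndex.index_ne_zero
      have h1 : (zpowers (f y')).relIndex (zpowers (f y') ⊔ zpowers (f z')) ≠ 1 :=
        fun e => l.not_ge (relIndex_eq_one.1 e)
      omega
    rw [← c1, om_mul Nat.card_pos.ne' (by omega)] at this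
    have a := om_pos r1
    have b : 0 < om 𝐨(zpowers (f y')) := om_pos ((one_lt_card_iff_ne_bot _).2 (by
      rw [Ne, zpowers_eq_bot, h.one]; exact y1))
    omega
  obtain ⟨k, hk⟩ := m
  have : ((y' ^ k)⁻¹ * z' : L).1 ∈ 𝐂(V) := by
    rw [← h.one, map_mul, map_inv, map_zpow, inv_mul_eq_one]; exact hk
  have e : z = y ^ k * ((y' ^ k)⁻¹ * z' : L).1 := by simp [y', z']
  rw [e]
  exact mul_mem (mem_sup_left (zpow_mem (mem_zpowers y) k)) (mem_sup_right this)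

end SQ

open Subgroup Cfsg Cfsg.Agent Cfsg.Agent.FT

universe u

theorem sqStmt : SQStmt.{u} := by
  intro X _ _ L V hs hV hL red nq n4 A AL qu A1
  obtain ⟨Y, _, _, f, W, h⟩ := SQ.exists_tr hV hL
  have o2 := h.o2 red
  rw [← h.card AL, ← h.rs A AL]
  haveI := hs
  refine SQ.sq0 h.el h.n h.fa (solvable_of_surjective f.rangeRestrict_surjective) o2
    (h.nq nq (fittingOf_normal _) (not_dvd_card_fittingOf Nat.prime_two o2)) ?_ _
    (map_le_range f _) (h.qu A AL qu) fun e => A1 fun a ha => (h.one ⟨a, AL ha⟩).1 (by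
      rw [← mem_bot, ← e]; exact mem_map_of_mem f ha)
  rintro _ ⟨t, rfl⟩ tt t1
  rw [h.ri]
  exact n4 t t.2 ((h.one (t ^ 2)).1 (by rw [map_pow, pow_two, tt])) fun e => t1 ((h.one t).2 e)

end Cfsg.Agent.P22
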