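/-
P22, chapter TR: transitivity on a strongly closed elementary subgroup.
-/
import Cfsg.Agent.P22.Defs
import Cfsg.Agent.P19.G2
import Cfsg.Agent.L.SimpleRed

set_option autoImplicit false
set_option linter.unusedSectionVars false

namespace Cfsg.Agent.P22

open Subgroup Cfsg Cfsg.Agent Cfsg.Agent.FT Cfsg.Agent.P14
open Cfsg.Agent.H7.SC (od br od_le)
open Cfsg.Agent.H2.ZC (oc wc oc_le oc_cop le_norm_oc le_wc wc_le wc_mono wc_conj)
open Cfsg.Agent.P19.G2 (zstar_rel)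
open scoped commutatorElement

universe u

variable {X : Type u} [Group X] [Finite X]

namespace TR

/-- The hypotheses of the transitivity lemma. -/
structure Hy (T A : Subgroup X) : Prop where
  syl : IsSyl 2 T ⊤
  le : A ≤ T
  el : IsElementaryAbelian 2 A
  scl : SCl ⊤ T A
  solv : ∀ a ∈ A, a ≠ 1 → Group.IsSolvable 𝐂[a]
  sn : Group.IsSolvable 𝐍(A)
  ns : ¬ Group.IsSolvable X

namespace Hy

variable {T A : Subgroup X} (h : Hy T A)
include h

theorem cc : A ≤ 𝐂(A) := isMulComm_iff_le_cent.1 h.el.1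

theorem pg : IsPGroup 2 A := h.syl.pgrp.to_le h.le

theorem ac {a : X} (ha : a ∈ A) : A ≤ 𝐂[a] := h.cc.trans (cent_le_cent1 ha)

theorem tn : T ≤ 𝐍(A) := h.scl.le_norm le_top h.le

theorem ne_top {M : Subgroup X} (hs : Group.IsSolvable M) : M ≠ ⊤ := fun e => by
  subst e
  exact h.ns (L.isSolvable_of_mulEquiv topEquiv)

theorem elt {t g : X} (ht : t ∈ T) (e : g * t * g⁻¹ ∈ T) :
    ∃ m ∈ 𝐍(A), g * t * g⁻¹ = m * t * m⁻¹ :=
  ((h.scl.ctrl h.syl h.le h.cc).elt ht (mem_top g) e).imp fun _ a => ⟨a.1.2, a.2⟩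

theorem moved {a : X} (ha : a ∈ A) (a1 : a ≠ 1) : ∃ n ∈ 𝐍(A), n * a * n⁻¹ ≠ a := by
  by_contra! hc
  have hp : IsPGroup 2 (zpowers a) := h.pg.to_le (zpowers_le.2 ha)
  have h4 : br ⊤ ⊤ ≤ 𝐂(br ⊤ (zpowers a)) := by
    rw [H1.bar_le_centralizer_iff le_rfl le_top, commutator_comm]
    exact commutator_le.2 fun b hb g hg => by
      obtain ⟨k, rfl⟩ := hb
      refine zstar_rel h.syl (h.le (zpow_mem ha k)) (h.el.2 _ (zpow_mem ha k)) (fun g _ e => ?_) hg
      obtain ⟨m, hm, e'⟩ := h.elt (h.le (zpow_mem ha k)) e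
      rw [e', ← conj_zpow, hc m hm]
  have h5 := h4.trans (H7.SC.cent_br hp le_top)
  rw [H1.bar_le_bar_iff (od_le _) le_rfl inf_le_left, top_inf_eq, cent_zpowers] at h5
  exact h.ne_top (H2.isSolvable_sup_of_le_normalizer
    (le_top.trans (H7.SC.le_norm_od _)) (h.solv a ha a1)
    (feit_thompson _ (Nat.coprime_two_right.1 (H7.SC.od_cop _)))) (top_le_iff.1 h5)

theorem cent_le_sup {a : X} (ha : a ∈ A) (a1 : a ≠ 1) : 𝐂[a] ≤ 𝐍(A) ⊔ oc a := by
  have hs := h.solv a ha a1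
  have h1 : P14.Con 𝐂[a] := by
    have : Group.IsSolvable (𝐂[a] ⧸ (od 𝐂[a]).subgroupOf 𝐂[a]) := inferInstance
    exact (le_inf le_top le_rfl).trans (cent_pCoreOf_le Nat.prime_two inferInstance (H7.SC.od_br _))
  obtain ⟨S, hS, hAS⟩ := exists_isSyl_ge Nat.prime_two h.pg (h.ac ha)
  have h2 := h1.le_norm hS hS.le le_rfl hAS h.cc
    (((h.scl.sc h.syl h.le).scl le_top hS.pgrp hAS).mono le_top)
  rw [H7.SC.norm_br h.pg (h.ac ha), H1.bar_le_bar_iff (od_le _) le_rfl inf_le_left] at h2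
  exact h2.trans (sup_le_sup_right inf_le_right _)

theorem e8 {E : Subgroup X} (hE : E ≤ A) (h3 : IsElem 2 3 E) :
    𝐨(wc E).Coprime 2 ∧ ∀ B ≤ E, ¬ IsCyclic B → wc E ≤ wc B := by
  obtain ⟨M, hM, h⟩ := H2.sig_complete ⟨h3.1, h3.2⟩ (θ := oc) ⟨fun a _ _ => oc_le a,
    fun a ha _ => hE.trans ((h.ac (hE ha)).trans (le_norm_oc a)),
    fun a _ _ => oc_cop a, fun a _ _ => feit_thompson _ (Nat.coprime_two_right.1 (oc_cop a)),
    fun a ha _ b hb b1 => H2.ZC.oc_inf_le (h.solv b (hE hb) b1) (h.ac (hE hb) (hE ha))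
      (h.el.2 a (hE ha))⟩ fun a _ _ => oc_cop a
  refine ⟨hM.cop.coprime_dvd_left (FT.card_dvd_of_le (wc_le h)), fun B hB hnc => ?_⟩
  refine (wc_le h).trans (H1.le_of_forall_centralizer_le (isMulComm_of_le hB h3.comm) hnc
    (hB.trans hM.inv) (H1.coprime_card_of_isPGroup (h3.pgrp.to_le hB) hM.cop).symm
    fun b hb h1 => (hM.le b (hB hb) h1).trans (le_wc hb h1))

theorem wc_eq {B : Subgroup X} (hB : B ≤ A) (hB2 : IsElem 2 2 B) : wc A = wc B := by
  refine le_antisymm (wc_le fun e he h1 => ?_) (wc_mono hB)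
  by_cases heB : e ∈ B
  · exact le_wc heB h1
  exact (le_wc (mem_sup_right (mem_zpowers e)) h1).trans
    ((h.e8 (sup_le hB (zpowers_le.2 he)) (H2.ZC.isElem_sup_zpowers hB2 heB (h.el.2 e he)
      (cent_anti hB (h.cc he)))).2 B le_sup_left (hB2.not_isCyclic Nat.prime_two le_rfl))

theorem exM (five : 5 ≤ 𝐨(A)) :
    ∃ M : Subgroup X, M ≠ ⊤ ∧ 𝐍(A) ≤ M ∧ ∀ a ∈ A, a ≠ 1 → 𝐂[a] ≤ M := by
  have hn : 𝐍(A) ≤ 𝐍(wc A) := fun g hg => conj_eq_self_iff.1 (by
    rw [← wc_conj, conj_eq_of_mem_norm hg])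
  refine ⟨𝐍(A) ⊔ wc A, h.ne_top (H2.isSolvable_sup_of_le_normalizer hn h.sn
    (feit_thompson _ (Nat.coprime_two_right.1 ?_))), le_sup_left, fun a ha a1 =>
    (h.cent_le_sup ha a1).trans (sup_le_sup_left (le_wc ha a1) _)⟩
  obtain ⟨E, a1, a2⟩ := H7.SC.exists_isElem (k := 3) h.el (by omega)
  obtain ⟨B, b1, b2⟩ := a2.exists_le Nat.prime_two (k := 2) (by omega)
  rw [h.wc_eq (b1.trans a1) b2]
  exact (h.e8 a1 a2).1.coprime_dvd_left (FT.card_dvd_of_le (wc_mono b1))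

theorem mem_of_conj {M : Subgroup X} (h1 : 𝐍(A) ≤ M) (h2 : ∀ a ∈ A, a ≠ 1 → 𝐂[a] ≤ M)
    {a g : X} (ha : a ∈ A) (a1 : a ≠ 1) (hg : g * a * g⁻¹ ∈ M) : g ∈ M := by
  obtain ⟨m, hm, e⟩ := (h.syl.of_le (h.tn.trans h1) le_top).exists_conj_le
    Nat.prime_two (two_zp (k := 1) (x := g * a * g⁻¹) (by
      rw [conj_pow, pow_one, h.el.2 a ha]; group)) (zpowers_le.2 hg)
  obtain ⟨n, hn, e'⟩ := h.elt (g := m * g) (h.le ha) (by
    have := e (conj_mem_conj (mem_zpowers _) m)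
    convert this using 1; group)
  have : n⁻¹ * (m * g) ∈ M := h2 a ha a1 (mem_cent1_iff_conj.2 (by
    calc _ = n⁻¹ * (m * g * a * (m * g)⁻¹) * n := by group
      _ = _ := by rw [e']; group))
  exact (mul_mem_cancel_left hm).1 ((mul_mem_cancel_left (inv_mem (h1 hn))).1 this)

theorem five {a y : X} (ha : a ∈ A) (a1 : a ≠ 1) (hy : y ∈ A) (y1 : y ≠ 1)
    (nc : ∀ g : X, g * a * g⁻¹ ≠ y) : 5 ≤ 𝐨(A) := by
  classical
  obtain ⟨n, hn, c1⟩ := h.moved ha a1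
  obtain ⟨m, hm, c2⟩ := h.moved hy y1
  have c3 : n * a * n⁻¹ ≠ m * y * m⁻¹ := fun e => nc (m⁻¹ * n) (by
    calc _ = m⁻¹ * (n * a * n⁻¹) * m := by group
      _ = _ := by rw [e]; group)
  have c4 : m * y * m⁻¹ ≠ a := fun e => nc m⁻¹ (by rw [← e]; group)
  have c5 : a ≠ y := fun e => nc 1 (by rw [← e]; group)
  have h1 := Set.ncard_le_ncard (s := (({n * a * n⁻¹, m * y * m⁻¹, a, y, 1} :
    Finset X) : Set X)) (t := (A : Set X)) (by
      simp only [Finset.coe_insert, Finset.coe_singleton, Set.insert_subset_iff,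
        Set.singleton_subset_iff, SetLike.mem_coe]
      exact ⟨cjm hn ha, cjm hm hy, ha, hy, one_mem _⟩)
  rwa [Set.ncard_coe_finset, Finset.card_insert_of_notMem (by
      simp only [Finset.mem_insert, Finset.mem_singleton, not_or]
      exact ⟨c3, c1, nc n, by simpa using a1⟩),
    Finset.card_insert_of_notMem (by
      simp only [Finset.mem_insert, Finset.mem_singleton, not_or]
      exact ⟨c4, c2, by simpa using y1⟩),
    Finset.card_insert_of_notMem (by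
      simp only [Finset.mem_insert, Finset.mem_singleton, not_or]; exact ⟨c5, a1⟩),
    Finset.card_pair y1] at h1

theorem conj {a y : X} (ha : a ∈ A) (a1 : a ≠ 1) (hy : y ∈ A) (y1 : y ≠ 1) :
    ∃ g : X, g * a * g⁻¹ = y := by
  by_contra! nc
  obtain ⟨M, h0, h1, h2⟩ := h.exM (h.five ha a1 hy y1 nc)
  obtain ⟨g, -, hg⟩ := SetLike.not_le_iff_exists.1 fun e : ⊤ ≤ M => h0 (top_le_iff.1 e)
  have sq : ∀ {a}, a ∈ A → a * a = 1 := fun {a} ha => (pow_two a).symm.trans (h.el.2 a ha)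
  have u1 : g * y * g⁻¹ * (g * y * g⁻¹) = 1 := by rw [conj_mul, sq hy]; group
  have u2 : g * y * g⁻¹ ∉ M := fun e => hg (h.mem_of_conj h1 h2 hy y1 e)
  rcases Nat.even_or_odd (orderOf (a * (g * y * g⁻¹))) with e | e
  · obtain ⟨k, k1, k2, k3, k4⟩ := L.exists_invol_commute_of_even (sq ha) u1 e
    have k5 : ∃ x : X, ∃ z ∈ A, a * (a * (g * y * g⁻¹)) ^ k = x * z * x⁻¹ := by
      obtain ⟨x, e | e⟩ := dih (sq ha) u1 k
      · exact ⟨x, a, ha, e⟩
      · exact ⟨x * g, y, hy, by rw [e]; group⟩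
    generalize (a * (g * y * g⁻¹)) ^ k = c at *
    obtain ⟨x, z, hz, k5⟩ := k5
    obtain ⟨w, -, hw⟩ := h.syl.exists_conj_le Nat.prime_two (Q := zpowers a ⊔ zpowers c)
      (elemAb_isPGroup (elemAb_sup (elemAb_zpowers (h.el.2 a ha))
        (elemAb_zpowers (by rwa [pow_two]))
        (zpowers_le.2 (by rw [cent_zpowers]; exact mem_cent1.2 k3.symm)))) le_top
    have w1 := h.scl a ha w trivial (hw (conj_mem_conj (mem_sup_left (mem_zpowers a)) w))
    have w2 := h.scl z hz (w * x) trivial (by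
      have := hw (conj_mem_conj (mul_mem (mem_sup_left (mem_zpowers a))
        (mem_sup_right (mem_zpowers c))) w)
      rw [k5] at this
      convert this using 1; group)
    have w3 : w * c * w⁻¹ ∈ A := by
      have := mul_mem (inv_mem w1) w2
      rwa [show w * x * z * (w * x)⁻¹ = w * (x * z * x⁻¹) * w⁻¹ by group, ← k5, ← conj_mul,
        inv_mul_cancel_left] at this
    have w4 := h2 _ w3 (by simpa using k1)
    rw [cent1_conj, conj_le_iff, conj_eq_of_mem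
      (inv_mem (h.mem_of_conj h1 h2 ha a1 (h1 (le_normalizer w1))))] at w4
    exact absurd (w4 (mem_cent1.2 k4)) u2
  · obtain ⟨k, k1, k2⟩ := L.exists_invol_conj_of_odd (sq ha) u1 e
    generalize a * (a * (g * y * g⁻¹)) ^ k = c at *
    refine nc (g⁻¹ * c) ?_
    rw [mul_inv_rev, inv_eq_of_mul_eq_one_right k1]
    calc _ = g⁻¹ * (c * a * c) * g := by group
      _ = _ := by rw [k2]; group

theorem trans {a y : X} (ha : a ∈ A) (a1 : a ≠ 1) (hy : y ∈ A) (y1 : y ≠ 1) :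
    ∃ g ∈ 𝐍(A), g * a * g⁻¹ = y := by
  obtain ⟨g, rfl⟩ := h.conj ha a1 hy y1
  exact (h.elt (h.le ha) (h.le hy)).imp fun _ a => ⟨a.1, a.2.symm⟩

theorem two_lt (ne : A ≠ ⊥) : 2 < 𝐨(A) := by
  classical
  obtain ⟨⟨a, ha⟩, a1⟩ := ne_bot_iff_exists_ne_one.1 ne
  replace a1 : a ≠ 1 := fun e => a1 (Subtype.ext e)
  obtain ⟨n, hn, c1⟩ := h.moved ha a1
  have h1 := Set.ncard_le_ncard (s := (({n * a * n⁻¹, a, 1} : Finset X) : Set X))
    (t := (A : Set X)) (by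
      simp only [Finset.coe_insert, Finset.coe_singleton, Set.insert_subset_iff,
        Set.singleton_subset_iff, SetLike.mem_coe]
      exact ⟨cjm hn ha, ha, one_mem _⟩)
  rwa [Set.ncard_coe_finset, Finset.card_insert_of_notMem (by
      simp only [Finset.mem_insert, Finset.mem_singleton, not_or]
      exact ⟨c1, by simpa using a1⟩), Finset.card_pair a1] at h1

end Hy

theorem solv_of_der {D : Subgroup X} (h : Group.IsSolvable (⁅D, D⁆ : Subgroup X)) :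
    Group.IsSolvable D :=
  L.isSolvable_of_normal_of_quotient (_root_.commutator D)
    ((isSolvable_map_iff D.subtype_injective).1 (by rwa [map_subtype_der]))
    (inferInstanceAs (Group.IsSolvable (Abelianization D)))

end TR

theorem trStmt : TRStmt.{u} := by
  intro X _ _ T V syl le el scl sn ns
  have cc : V ≤ 𝐂(V) := isMulComm_iff_le_cent.1 el.1
  obtain ⟨U, -, ⟨UV, nU⟩, mx⟩ := Finite.exists_le_maximal
    (p := fun U : Subgroup X => U ≤ V ∧ ¬ Group.IsSolvable 𝐂(U)) (a := ⊥)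
    ⟨bot_le, by rw [cent_bot]; exact fun _ => ns (L.isSolvable_of_mulEquiv topEquiv)⟩
  have VH : V ≤ 𝐂(U) := cc.trans (cent_anti UV)
  have := H1.normal_subgroupOf_of_le (cent_le_norm U)
  have pV := syl.pgrp.to_le le
  obtain ⟨S, hS, VS⟩ := exists_isSyl_ge Nat.prime_two pV VH
  have nb : H1.unbar 𝐂(U) U 𝐍(H1.bar 𝐂(U) U V) ≤ 𝐍(V) := by
    have := H1.le_normalizer_unbar (H1.unbar_le (N := U) 𝐍(H1.bar 𝐂(U) U V))
      (H1.bar_unbar _).le
    rwa [H1.unbar_bar_of_le UV VH] at this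
  have h : TR.Hy (H1.bar 𝐂(U) U S) (H1.bar 𝐂(U) U V) := by
    refine ⟨H1.bar_top (Y := 𝐂(U)) (N := U) ▸ hS.bar Nat.prime_two le_rfl, H1.bar_mono VS,
      ⟨H1.isMulCommutative_bar el.1, ?_⟩, ?_, ?_, ?_, fun e => nU ?_⟩
    · rintro _ ⟨b, hb, rfl⟩
      rw [← map_pow, show b ^ 2 = 1 from Subtype.ext (el.2 b hb), map_one]
    · rintro _ ⟨b, hb, rfl⟩ g - e
      obtain ⟨g, rfl⟩ := H1.qmk_surjective g
      rw [← map_inv, ← map_mul, ← map_mul] at e ⊢
      rw [H1.qmk_mem_bar_iff (UV.trans VH) hS.le, sup_eq_left.2 (UV.trans VS)] at e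
      exact H1.qmk_mem_bar ((scl.sc syl le).scl le_top hS.pgrp VS b hb g trivial e)
    · rintro _ ⟨a, ha, rfl⟩ a1
      rw [← H1.bar_unbar 𝐂[H1.qmk 𝐂(U) U a]]
      have s1 : Group.IsSolvable 𝐂(U ⊔ zpowers (a : X)) := by_contra fun c =>
        a1 (H1.qmk_eq_one_iff.2 (mx ⟨sup_le UV (zpowers_le.2 ha), c⟩ le_sup_left
          (mem_sup_right (mem_zpowers _))))
      have DH := H1.unbar_le (N := U) 𝐂[H1.qmk 𝐂(U) U a]
      have c1 : ⁅H1.unbar 𝐂(U) U 𝐂[H1.qmk 𝐂(U) U a], zpowers (a : X)⁆ ≤ U := by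
        rw [← H1.bar_le_centralizer_iff DH (zpowers_le.2 a.2), H1.bar_unbar, H1.bar_zpowers,
          cent_zpowers]
      have c2 := comm_eq_bot_iff.2 (c1.trans (cent_comm.1 DH))
      refine H1.isSolvable_bar (TR.solv_of_der (H1.isSolvable_of_le ?_ s1))
      rw [cent_sup]
      exact le_inf ((der_le _).trans DH) (comm_eq_bot_iff.1
        (commutator_commutator_eq_bot_of_rotate c2 (by rwa [commutator_comm (zpowers _)])))
    · rw [← H1.bar_unbar 𝐍(H1.bar 𝐂(U) U V)]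
      exact H1.isSolvable_bar (H1.isSolvable_of_le nb sn)
    · exact L.isSolvable_of_normal_of_quotient (U.subgroupOf 𝐂(U))
        (H1.isSolvable_subgroupOf (H1.isSolvable_of_isPGroup (pV.to_le UV)) _) e
  refine ⟨U, 𝐂(U) ⊓ 𝐍(V), UV, ?_, le_inf (le_inf le_top inf_le_right) inf_le_left,
    fun x hx xU y hy yU => ?_⟩
  · rw [← H1.card_bar VH]
    exact h.two_lt fun e => nU (H1.isSolvable_of_le
      ((cent_anti ((H1.bar_eq_bot_iff VH).1 e)).trans (cent_le_norm V)) sn)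
  obtain ⟨d, hd, e⟩ := h.trans (H1.qmk_mem_bar (y := ⟨x, VH hx⟩) hx)
    (fun e => xU (H1.qmk_eq_one_iff.1 e)) (H1.qmk_mem_bar (y := ⟨y, VH hy⟩) hy)
    fun e => yU (H1.qmk_eq_one_iff.1 e)
  obtain ⟨d, rfl⟩ := H1.qmk_surjective d
  rw [← map_inv, ← map_mul, ← map_mul] at e
  have e' := QuotientGroup.eq.1 e
  exact ⟨d, ⟨d.2, nb (H1.coe_mem_unbar.2 hd)⟩, e'⟩

end Cfsg.Agent.P22
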