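/-
P22: assembly, first part.
-/
import Cfsg.Agent.P22.G
import Cfsg.Agent.P22.Q0
import Cfsg.Agent.P22.QL
import Cfsg.Agent.P22.SQ3
import Cfsg.Agent.P22.TR
import Cfsg.Agent.P22.M1
import Cfsg.Agent.P22.M3
import Cfsg.Agent.P22.Pair
import Cfsg.Agent.P22.App
import Cfsg.Agent.P24.App
import Cfsg.Agent.P24.Cam

set_option autoImplicit false

namespace Cfsg.Agent.P22

universe u

theorem core_of' (NQ : NQStmt.{u}) (N4 : N4Stmt.{u}) (M2 : M2Stmt.{u}) : CoreStmt.{u} :=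
  core_of NQ N4 sqStmt trStmt m1Stmt M2 m3Stmt

theorem inv_of (C : CoreStmt.{u}) : InvStmt.{u} := fun X _ _ G n h1 h2 =>
  C X G n (q0Stmt X G h1 h2)

end Cfsg.Agent.P22
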