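/-
P22, chapter N4: involutions have fixed spaces of index at least 8.
-/
import Cfsg.Agent.P22.Defs
import Cfsg.Agent.P22.SC

set_option autoImplicit false
set_option linter.unusedSectionVars false
set_option linter.style.haveILetI false

namespace Cfsg.Agent.P22

open Subgroup Cfsg Cfsg.Agent Cfsg.Agent.FT
open Cfsg.Agent.H7.SC (Red)
open scoped commutatorElement

universe u

variable {X : Type u} [Group X] [Finite X]

namespace N4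

open SQ

theorem central {A N1 N2 : Subgroup X} (hA : IsPGroup 2 A) (h2 : N2 ≤ A) (n2 : A ≤ 𝐍(N2))
    (h : ¬ N2 ≤ N1) : ∃ z ∈ N2, z ∉ N1 ∧ z * z ∈ N1 ∧ ∀ a ∈ A, ⁅z, a⁆ ∈ N1 := by
  classical
  obtain ⟨W, ⟨w1, w2, w3⟩, mn⟩ := Set.exists_min_image
    {W : Subgroup X | W ≤ N2 ∧ A ≤ 𝐍(W) ∧ ¬ W ≤ N1} (fun W => 𝐨(W)) (Set.toFinite _)
    ⟨N2, le_rfl, n2, h⟩
  haveI := isNilpotent_of_isPGroup Nat.prime_two hA
  have l := L.commutator_lt_of_isNilpotent (w1.trans h2) w2 fun e => w3 (e ▸ bot_le)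
  have k : ⁅W, A⁆ ≤ N1 := by_contra fun e =>
    (H1.card_lt_of_lt l).not_ge (mn _ ⟨l.le.trans w1, H1.le_normalizer_commutator_self, e⟩)
  obtain ⟨z, hz, z1⟩ := SetLike.not_le_iff_exists.1 w3
  have ex : ∃ n, z ^ 2 ^ n ∈ N1 := by
    obtain ⟨n, hn⟩ := hA ⟨z, h2 (w1 hz)⟩
    exact ⟨n, (show z ^ 2 ^ n = 1 from congrArg Subtype.val hn) ▸ one_mem _⟩
  have h0 : Nat.find ex ≠ 0 := fun e => z1 (by simpa [e] using Nat.find_spec ex)
  obtain ⟨n, hn⟩ := Nat.exists_eq_succ_of_ne_zero h0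
  refine ⟨z ^ 2 ^ n, w1 (pow_mem hz _), Nat.find_min ex (by omega), ?_, fun a ha =>
    k (commutator_mem_commutator (pow_mem hz _) ha)⟩
  have := Nat.find_spec ex
  rwa [hn, pow_succ, pow_mul, pow_two] at this

/-- An abelian subgroup inverted by an involution. -/
theorem big {V E : Subgroup X} (hV : IsElementaryAbelian 2 V) {t : X} (tt : t * t = 1)
    (tn : t ∈ 𝐍(V)) (En : E ≤ 𝐍(V)) (fa : E ⊓ 𝐂(V) = ⊥) (oE : Odd 𝐨(E)) (EE : E ≤ 𝐂(E))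
    (inv : ∀ e ∈ E, t * e * t⁻¹ = e⁻¹) (nq : ∀ y ∈ E, y ^ 3 = 1 → 𝐂[y].relIndex V ≠ 4)
    (h : 2 ≤ om 𝐨(E)) : 4 < 𝐂[t].relIndex V := by
  have l : ⁅V, E⁆ ≤ V := H1.commutator_le_of_le_normalizer En
  obtain ⟨d1, -, d3⟩ := dim tt E ⁅V, E⁆ (el_mono hV l)
    (zpowers_le.1 (H1.le_normalizer_commutator (zpowers_le.2 tn)
      (zpowers_le.2 (norm_of_inv inv le_rfl)))) H1.le_normalizer_commutator_self oE EE inv
    (eq_bot_iff.2 (fa ▸ le_inf inf_le_left (faith hV oE En))) (fit hV oE En).2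
  have h1 : 2 ^ om 𝐨(E) < 𝐨((⁅V, E⁆ ⊓ 𝐂[t] : Subgroup X)) := by
    by_contra hn
    rcases d3 (not_lt.1 hn) with e | ⟨y, hy, y3, y4⟩
    · rw [e] at h
      simp at h
    · rw [← comm_eq hV oE En (zpowers_le.2 hy), card_comm hV (En hy) (odd_orderOf oE hy)] at y4
      exact nq y hy y3 y4
  have h2 : 𝐨((⁅V, E⁆ ⊓ 𝐂[t] : Subgroup X)) ≤ 𝐂[t].relIndex ⁅V, E⁆ := by
    rw [← card_inf_mul 𝐂[t] ⁅V, E⁆, pow_two] at d1
    exact Nat.le_of_mul_le_mul_left d1 Nat.card_pos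
  exact ((Nat.pow_le_pow_right (n := 2) (by norm_num) h).trans_lt h1).trans_le
    (h2.trans (relIndex_le_of_le_right l FiniteIndex.index_ne_zero))

/-- A 2-group `A` acting on an odd group `P` of class at most two. -/
structure Cf (A P : Subgroup X) : Prop where
  two : IsPGroup 2 A
  odd : Odd 𝐨(P)
  nrm : A ≤ 𝐍(P)
  ca : ∀ x ∈ P, ∀ y ∈ P, ⁅x, y⁆ ∈ P ⊓ 𝐂(A)
  cp : P ⊓ 𝐂(A) ≤ 𝐂(P)

namespace Cf

variable {A P : Subgroup X} (c : Cf A P)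
include c

theorem cj {a x : X} (ha : a ∈ A) (hx : x ∈ P) : a * x * a⁻¹ ∈ P :=
  (mem_normalizer_iff.1 (c.nrm ha) x).1 hx

theorem one {x : X} (hx : x ∈ P) (h : x⁻¹ = x) : x = 1 :=
  mem_bot.1 (mem_of_sq (odd_orderOf c.odd hx) (by
    rw [mem_bot]; nth_rewrite 1 [← h]; exact inv_mul_cancel x))

theorem fx {a x y : X} (ha : a ∈ A) (hx : x ∈ P) (hy : y ∈ P) :
    ⁅a * x * a⁻¹, a * y * a⁻¹⁆ = ⁅x, y⁆ := by
  rw [← conjugate_commutatorElement, (c.ca x hx y hy).2 a ha, mul_inv_cancel_right]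

theorem cm {w x : X} (hw : w ∈ A) (h : w * w ∈ 𝐂(P)) (hx : x ∈ P) :
    x * (w * x * w⁻¹) = w * x * w⁻¹ * x := by
  have h1 := c.fx hw hx (c.cj hw hx)
  rw [show w * (w * x * w⁻¹) * w⁻¹ = w * w * x * (w * w)⁻¹ by group, ← h x hx,
    mul_inv_cancel_right, ← commutatorElement_inv] at h1
  exact commutatorElement_eq_one_iff_mul_comm.1 (c.one (c.ca _ hx _ (c.cj hw hx)).1 h1)

theorem pl {w x : X} (hw : w ∈ A) (h : w * w ∈ 𝐂(P)) (hx : x ∈ P) :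
    x * (w * x * w⁻¹) ∈ P ⊓ 𝐂[w] := by
  refine ⟨mul_mem hx (c.cj hw hx), mem_cent1_comm.1 (mem_cent1_iff_conj.2 ?_)⟩
  rw [c.cm hw h hx]
  calc _ = w * w * x * (w * w)⁻¹ * (w * x * w⁻¹) := by group
    _ = _ := by rw [← h x hx, mul_inv_cancel_right, c.cm hw h hx]

theorem mi {w x : X} (hw : w ∈ A) (h : w * w ∈ 𝐂(P)) (hx : x ∈ P) :
    w * ((w * x * w⁻¹)⁻¹ * x) * w⁻¹ = ((w * x * w⁻¹)⁻¹ * x)⁻¹ := by
  calc _ = (w * w * x * (w * w)⁻¹)⁻¹ * (w * x * w⁻¹) := by simp [mul_assoc]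
    _ = _ := by rw [← h x hx]; group

theorem sq {w x : X} (hw : w ∈ A) (h : w * w ∈ 𝐂(P)) (hx : x ∈ P) :
    x * x = x * (w * x * w⁻¹) * ((w * x * w⁻¹)⁻¹ * x) := by group

theorem pm {w x y : X} (hw : w ∈ A) (hx : x ∈ P ⊓ 𝐂[w]) (hy : y ∈ P) (h : w * y * w⁻¹ = y⁻¹) :
    x * y = y * x := by
  have h1 := c.fx hw hx.1 hy
  rw [h, mem_cent1_iff_conj.1 (mem_cent1_comm.1 hx.2)] at h1
  have h2 : ⁅x, y⁻¹⁆ = ⁅x, y⁆⁻¹ := by
    calc ⁅x, y⁻¹⁆ = (y⁻¹ * (⁅x, y⁆ * y))⁻¹ := by simp only [commutatorElement_def]; group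
      _ = _ := by rw [← c.cp (c.ca x hx.1 y hy) _ hy, inv_mul_cancel_left]
  exact commutatorElement_eq_one_iff_mul_comm.1 (c.one (c.ca x hx.1 y hy).1 (h2 ▸ h1))

theorem cz {a w x : X} (ha : a ∈ A) (h : ⁅w, a⁆ ∈ 𝐂(P)) (hx : x ∈ P) :
    w * (a * x * a⁻¹) * w⁻¹ = a * (w * x * w⁻¹) * a⁻¹ ∨ w ∉ A := by
  by_cases hw : w ∈ A
  · left
    calc _ = ⁅w, a⁆ * (a * (w * x * w⁻¹) * a⁻¹) * ⁅w, a⁆⁻¹ := by
          simp only [commutatorElement_def]; group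
      _ = _ := by rw [← h _ (c.cj ha (c.cj hw hx)), mul_inv_cancel_right]
  · exact Or.inr hw

/-- Some element of `A` inverts `P` modulo `C_P(A)`. -/
theorem main {S : Set X} (hS : A ≤ closure S) (s1 : ∀ s ∈ S, s ∈ A ∧ s * s = 1)
    (s2 : ∀ s ∈ S, ∀ E ≤ P, E ≤ 𝐂(E) → (∀ e ∈ E, s * e * s⁻¹ = e⁻¹) → om 𝐨(E) < 2) :
    ∃ w ∈ A, w * w ∈ 𝐂(P) ∧ P ⊓ 𝐂[w] ≤ 𝐂(A) := by
  obtain ⟨w, ⟨w1, w2, w3⟩, mn⟩ := Set.exists_min_image
    {w : X | w ∈ A ∧ w * w ∈ 𝐂(P) ∧ ∀ a ∈ A, ⁅w, a⁆ ∈ 𝐂(P)}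
    (fun w => 𝐨((P ⊓ 𝐂[w] : Subgroup X))) (Set.toFinite _)
    ⟨1, one_mem _, by simp, fun a _ => by simp⟩
  refine ⟨w, w1, w2, by_contra fun hn => ?_⟩
  have cz := fun a ha x hx => (c.cz (a := a) (x := x) ha (w3 a ha) hx).resolve_right (not_not.2 w1)
  obtain ⟨s, hs, u, hu, su⟩ : ∃ s ∈ S, ∃ u ∈ P ⊓ 𝐂[w], s * u * s⁻¹ ≠ u := by
    by_contra e
    push Not at e
    exact hn (cent_comm.1 (hS.trans ((closure_le _).2 fun s hs u hu => by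
      rw [← mul_inv_eq_iff_eq_mul.1 (e s hs u hu)])))
  obtain ⟨sA, ss⟩ := s1 s hs
  have s0 : s * s ∈ 𝐂(P) := ss ▸ one_mem _
  have sI : ∀ v ∈ P, w * v * w⁻¹ = v⁻¹ → s * v * s⁻¹ = v := fun v hv e => by
    by_contra sv
    have y1 : (s * u * s⁻¹)⁻¹ * u ∈ P ⊓ 𝐂[w] := mul_mem (inv_mem ⟨c.cj sA hu.1,
      mem_cent1_comm.1 (mem_cent1_iff_conj.2 (by
        rw [cz s sA u hu.1, mem_cent1_iff_conj.1 (mem_cent1_comm.1 hu.2)]))⟩) hu
    have y2 : (s * v * s⁻¹)⁻¹ * v ∈ P := mul_mem (inv_mem (c.cj sA hv)) hv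
    have y3 : w * ((s * v * s⁻¹)⁻¹ * v) * w⁻¹ = ((s * v * s⁻¹)⁻¹ * v)⁻¹ := by
      calc _ = (w * (s * v * s⁻¹) * w⁻¹)⁻¹ * (w * v * w⁻¹) := by group
        _ = v⁻¹ * (v * (s * v * s⁻¹)) * v⁻¹ := by rw [cz s sA v hv, e]; group
        _ = _ := by rw [c.cm sA s0 hv]; group
    have i1 := c.mi sA s0 hu.1
    have i2 := c.mi sA s0 hv
    have n1 : (s * u * s⁻¹)⁻¹ * u ≠ 1 := fun e => su (inv_mul_eq_one.1 e)
    have n2 : (s * v * s⁻¹)⁻¹ * v ≠ 1 := fun e => sv (inv_mul_eq_one.1 e)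
    generalize (s * u * s⁻¹)⁻¹ * u = y at y1 i1 n1
    generalize (s * v * s⁻¹)⁻¹ * v = y' at y2 y3 i2 n2
    have cm := c.pm w1 y1 y2 y3
    have yc : zpowers y' ≤ 𝐂(zpowers y) := by
      rw [cent_zpowers]
      exact zpowers_le.2 (mem_cent1.2 cm)
    have l : zpowers y < zpowers y ⊔ zpowers y' := left_lt_sup.2 fun e => n2 (c.one y2 (by
      rw [← y3]
      exact mem_cent1_iff_conj.1 (mem_cent1_comm.1
        (zpowers_le.2 y1.2 (e (mem_zpowers y'))))))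
    have h := s2 s hs (zpowers y ⊔ zpowers y') (sup_le (zpowers_le.2 y1.1) (zpowers_le.2 y2)) (by
      rw [cent_sup]
      exact le_inf (sup_le (isMulComm_iff_le_cent.1 inferInstance) yc)
        (sup_le (cent_comm.1 yc) (isMulComm_iff_le_cent.1 inferInstance))) fun x hx => by
      obtain ⟨_, ⟨j, rfl⟩, _, ⟨k, rfl⟩, rfl⟩ := (mem_sup_of_norm (yc.trans (cent_le_norm _))).1 hx
      simp only
      rw [← conj_mul, ← conj_zpow, ← conj_zpow, i1, i2,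
        yc (zpow_mem (mem_zpowers y') k) _ (zpow_mem (mem_zpowers y) j)]
      group
    have r1 : 1 < (zpowers y).relIndex (zpowers y ⊔ zpowers y') := by
      have h0 := H2.relIndex_pos (zpowers y) (zpowers y ⊔ zpowers y')
      have h1 := mt relIndex_eq_one.1 l.not_ge
      omega
    rw [← H1.card_mul_relIndex l.le, om_mul Nat.card_pos.ne' (by omega)] at h
    have := om_pos r1
    have := om_pos ((one_lt_card_iff_ne_bot (zpowers y)).2 (mt zpowers_eq_bot.1 n1))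
    omega
  obtain ⟨z, hz, z1, z2, z3⟩ := central (N1 := 𝐂(P))
    (N2 := A ⊓ centralizer {v | v ∈ P ∧ w * v * w⁻¹ = v⁻¹}) c.two inf_le_left
    (fun a ha => mem_norm_of_conj_le fun x hx => by
      obtain ⟨x, hx', rfl⟩ := mem_conj'.1 hx
      refine ⟨A.mul_mem (A.mul_mem ha hx'.1) (A.inv_mem ha), fun v hv => ?_⟩
      have h1 := hx'.2 (a⁻¹ * v * a⁻¹⁻¹) ⟨c.cj (inv_mem ha) hv.1, by
        rw [cz _ (inv_mem ha) v hv.1, hv.2]; group⟩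
      calc _ = a * (a⁻¹ * v * a⁻¹⁻¹ * x) * a⁻¹ := by group
        _ = _ := by rw [h1]; group)
    fun e => su (by
      rw [← e ⟨sA, fun v hv => by rw [← mul_inv_eq_iff_eq_mul.1 (sI v hv.1 hv.2)]⟩ u hu.1,
        mul_inv_cancel_right])
  have nC : A ≤ 𝐍(𝐂(P)) := H1.le_normalizer_centralizer c.nrm
  have cC : ∀ a ∈ A, ∀ x ∈ 𝐂(P), a * x * a⁻¹ ∈ 𝐂(P) :=
    fun a ha x hx => (mem_normalizer_iff.1 (nC ha) x).1 hx
  have zI : ∀ x ∈ P, z * ((w * x * w⁻¹)⁻¹ * x) * z⁻¹ = (w * x * w⁻¹)⁻¹ * x := fun x hx => by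
    rw [← hz.2 _ ⟨mul_mem (inv_mem (c.cj w1 hx)) hx, c.mi w1 w2 hx⟩, mul_inv_cancel_right]
  have l1 : P ⊓ 𝐂[z * w] ≤ P ⊓ 𝐂[w] := fun x hx => ⟨hx.1, by
    have h1 := mem_cent1_iff_conj.1 (mem_cent1_comm.1 hx.2)
    have h2 := cz _ (mul_mem hz.1 w1) x hx.1
    have h3 : z * w * ((w * x * w⁻¹)⁻¹ * x) * (z * w)⁻¹ = (w * x * w⁻¹)⁻¹ * x := by
      calc _ = (z * w * (w * x * w⁻¹) * (z * w)⁻¹)⁻¹ * (z * w * x * (z * w)⁻¹) := by
            simp [mul_assoc]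
        _ = _ := by rw [← h2, h1]
    rw [show z * w * ((w * x * w⁻¹)⁻¹ * x) * (z * w)⁻¹ =
      z * (w * ((w * x * w⁻¹)⁻¹ * x) * w⁻¹) * z⁻¹ by group, c.mi w1 w2 hx.1,
      ← conj_inv (b := z), zI x hx.1] at h3
    exact mem_cent1_comm.1 (mem_cent1_iff_conj.2 (inv_mul_eq_one.1
      (c.one (mul_mem (inv_mem (c.cj w1 hx.1)) hx.1) h3)))⟩
  have l2 := H1.eq_of_le_of_card_le l1 (mn (z * w) ⟨mul_mem hz.1 w1, by
    rw [show z * w * (z * w) = z * z * (z⁻¹ * ⁅w, z⁆ * z⁻¹⁻¹) * (w * w) by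
      simp only [commutatorElement_def]; group]
    exact mul_mem (mul_mem z2 (cC _ (inv_mem hz.1) _ (w3 z hz.1))) w2, fun a ha => by
    rw [show ⁅z * w, a⁆ = z * ⁅w, a⁆ * z⁻¹ * ⁅z, a⁆ by simp only [commutatorElement_def]; group]
    exact mul_mem (cC _ hz.1 _ (w3 a ha)) (z3 a ha)⟩)
  refine z1 (mem_cent_iff_cent1.2 fun x hx => mem_of_sq (odd_orderOf c.odd hx) ?_)
  rw [c.sq w1 w2 hx]
  have h1 := c.pl w1 w2 hx
  refine mul_mem (mem_cent1_comm.1 ?_) (mem_cent1_comm.1 (mem_cent1_iff_conj.2 (zI x hx)))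
  exact (mul_mem_cancel_right (mem_cent1_comm.1 h1.2)).1 (mem_cent1_comm.1 (l2.ge h1).2)

theorem pair {w w' : X} (hw : w ∈ A) (h : w * w ∈ 𝐂(P)) (k : P ⊓ 𝐂[w] ≤ 𝐂(A)) (hw' : w' ∈ A)
    (h' : w' * w' ∈ 𝐂(P)) (k' : P ⊓ 𝐂[w'] ≤ 𝐂(A)) : w * w' ∈ 𝐂(P) := by
  have m : zpowers (w * w') ≤ A := zpowers_le.2 (mul_mem hw hw')
  refine zpowers_le.1 (H1.le_centralizer_of_commutator_le (H := P ⊓ 𝐂(A)) (m.trans c.nrm)
    (H1.coprime_card_of_isPGroup (c.two.to_le m) (Nat.coprime_two_right.2 c.odd)).symm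
    (H1.commutator_zpowers_le (cent_le_norm _ (cent_comm.1 inf_le_right (mul_mem hw hw')))
      fun x hx => ?_) (m.trans (cent_comm.1 inf_le_right)))
  have d := c.pl hw h hx
  have d' := c.pl hw' h' hx
  have e := mem_inf.2 ⟨d.1, k d⟩
  have e' := mem_inf.2 ⟨d'.1, k' d'⟩
  have h1 : ⁅x, w * w'⁆ = x * (w * (x * (w' * x * w'⁻¹)) * w⁻¹)⁻¹ * (w * x * w⁻¹) := by
    simp only [commutatorElement_def]; group
  rw [h1, e'.2 w hw, mul_inv_cancel_right, c.cp (inv_mem e') x hx, mul_assoc]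
  exact mul_mem (inv_mem e') e

end Cf

theorem core {Γ M V : Subgroup X} (nrm : M ⊲ Γ) (hV : IsElementaryAbelian 2 V) (nv : Γ ≤ 𝐍(V))
    (fa : Γ ⊓ 𝐂(V) = ⊥) (hs : Group.IsSolvable M) (o2 : pCoreOf 2 M = ⊥) (qp : QP Γ M)
    (nq : ∀ y ∈ fittingOf M, y ^ 3 = 1 → 𝐂[y].relIndex V ≠ 4) {t : X} (ht : t ∈ M)
    (tt : t * t = 1) (t1 : t ≠ 1) : 4 < 𝐂[t].relIndex V := by
  by_contra hn
  have ho : Odd 𝐨(fittingOf M) := by
    rw [← Nat.not_even_iff_odd, even_iff_two_dvd]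
    exact not_dvd_card_fittingOf Nat.prime_two o2
  have FL := (fittingOf_normal M).1
  obtain ⟨T, hT, tT⟩ := exists_isSyl_ge Nat.prime_two (M := M)
    (elemAb_isPGroup (elemAb_zpowers (p := 2) (by rw [pow_two, tt]))) (zpowers_le.2 ht)
  have fr := hT.frattini Nat.prime_two nrm
  generalize hB : Γ ⊓ 𝐍(T) = B at fr
  have BΓ : B ≤ Γ := hB ▸ inf_le_left
  have BF : B ≤ 𝐍(fittingOf M) := fun b hb => conj_eq_self_iff.1 (by
    rw [← fittingOf_conj, conj_eq_of_mem_norm (nrm.2 (BΓ hb))])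
  have AT : H2.nclIn B (zpowers t) ≤ T :=
    H2.nclIn_le_iff.2 fun b hb => conj_le_of_mem_norm tT (hB.ge hb).2
  have AB : H2.nclIn B (zpowers t) ≤ B :=
    AT.trans (hB ▸ le_inf (hT.le.trans nrm.1) (le_norm_self T))
  have BA : B ≤ 𝐍(H2.nclIn B (zpowers t)) := H2.le_normalizer_nclIn _ _
  have tA : t ∈ H2.nclIn B (zpowers t) := H2.le_nclIn _ _ (mem_zpowers t)
  have AS : H2.nclIn B (zpowers t) ≤ closure {s | ∃ b ∈ B, b * t * b⁻¹ = s} :=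
    H2.nclIn_le_iff.2 fun b hb => by
      change zpowers t ^ᵍ b ≤ _
      rw [← zpowers_conj]
      exact zpowers_le.2 (subset_closure ⟨b, hb, rfl⟩)
  generalize H2.nclIn B (zpowers t) = A at AT AB BA tA AS
  have A2 : IsPGroup 2 A := hT.pgrp.to_le AT
  obtain ⟨P, ⟨p1, p2, p3⟩, mn⟩ := Set.exists_min_image
    {P : Subgroup X | P ≤ fittingOf M ∧ B ≤ 𝐍(P) ∧ ¬ A ≤ 𝐂(P)} (fun P => 𝐨(P)) (Set.toFinite _)
    ⟨_, le_rfl, BF, fun e => t1 (mem_bot.1 (mem_of_sq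
      (odd_orderOf ho (cent_fittingOf_le hs ⟨ht, e tA⟩)) (by rw [tt]; exact one_mem _)))⟩
  have oP : Odd 𝐨(P) := Odd.of_dvd_nat ho (Subgroup.card_dvd_of_le p1)
  have cop : 𝐨(A).Coprime 𝐨(P) :=
    (H1.coprime_card_of_isPGroup A2 (Nat.coprime_two_right.2 oP)).symm
  have AP := AB.trans p2
  have k : ∀ Q < P, B ≤ 𝐍(Q) → A ≤ 𝐂(Q) := fun Q q1 q2 => by_contra fun e =>
    (H1.card_lt_of_lt q1).not_ge (mn Q ⟨q1.le.trans p1, q2, e⟩)
  have pa : ⁅P, A⁆ = P := by_contra fun e => p3 (H1.le_centralizer_of_commutator_le AP cop le_rfl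
    (k _ (lt_of_le_of_ne (H1.commutator_le_of_le_normalizer AP) e)
      (H1.le_normalizer_commutator p2 BA)))
  haveI : Group.IsNilpotent P := isNilpotent_of_le p1 (H2.isNilpotent_fittingOf M)
  have l := L.commutator_lt_of_isNilpotent (le_refl P) (le_norm_self P) fun e => p3 (by
    rw [e, cent_bot]; exact le_top)
  have d1 : ⁅P, P⁆ ≤ P ⊓ 𝐂(A) :=
    le_inf l.le (cent_comm.1 (k _ l (H1.le_normalizer_commutator p2 p2)))
  have c : Cf A P := ⟨A2, oP, AP, fun x hx y hy => d1 (commutator_mem_commutator hx hy), by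
    refine cent_comm.1 ?_
    conv_lhs => rw [← pa]
    refine commutator_le.2 fun x hx a ha => ?_
    have h1 : x ∈ 𝐍(𝐂(P ⊓ 𝐂(A))) := H1.le_normalizer_centralizer
      (comm_le_left_iff.1 ((commutator_mono inf_le_left le_rfl).trans d1)) hx
    have h2 := cent_comm.1 (inf_le_right : P ⊓ 𝐂(A) ≤ 𝐂(A)) ha
    exact mul_mem ((mem_normalizer_iff.1 h1 a).1 h2) (inv_mem h2)⟩
  obtain ⟨w, w1, w2, w3⟩ := c.main AS (by
    rintro _ ⟨b, hb, rfl⟩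
    exact ⟨(mem_normalizer_iff.1 (BA hb) t).1 tA, by rw [conj_mul, tt]; group⟩) (by
    rintro _ ⟨b, hb, rfl⟩ E e1 e2 e3
    by_contra e
    have h1 := big hV (by rw [conj_mul, tt]; group) (nv (mul_mem (mul_mem (BΓ hb) (nrm.1 ht))
      (inv_mem (BΓ hb)))) ((((e1.trans p1).trans FL).trans nrm.1).trans nv)
      (eq_bot_iff.2 (fa ▸ inf_le_inf_right _ (((e1.trans p1).trans FL).trans nrm.1)))
      (Odd.of_dvd_nat oP (Subgroup.card_dvd_of_le e1)) e2 e3 (fun y hy => nq y (p1 (e1 hy)))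
      (not_lt.1 e)
    rw [cent1_conj, ← conj_eq_of_mem_norm (nv (BΓ hb)), relIndex_conj] at h1
    exact hn h1)
  have w0 : w ∉ 𝐂(P) := fun e =>
    p3 (cent_comm.1 ((le_inf le_rfl (mem_cent_iff_cent1.1 e)).trans w3))
  have nC : B ≤ 𝐍(A ⊓ 𝐂(P)) := H1.le_normalizer_inf BA (H1.le_normalizer_centralizer p2)
  have wn : zpowers w ≤ 𝐍(A ⊓ 𝐂(P)) := zpowers_le.2 (nC (AB w1))
  refine qp B (A ⊓ 𝐂(P)) (A ⊓ 𝐂(P) ⊔ zpowers w) BΓ (by rw [sup_comm]; exact fr.ge)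
    ((sup_le inf_le_left (zpowers_le.2 w1)).trans (AT.trans hT.le)) ?_
    (fun b hb => mem_norm_of_conj_le ?_) nC
  · rw [relIndex_sup_of_norm wn]
    refine relIndex_eq_two_iff_exists_notMem_and.2 ⟨w, mem_zpowers w, fun e => w0 e.2, ?_⟩
    rintro _ ⟨j, rfl⟩
    have h1 : ∀ i : ℤ, w ^ (2 * i) ∈ A ⊓ 𝐂(P) := fun i => by
      rw [zpow_mul, zpow_two]
      exact zpow_mem (mem_inf.2 ⟨mul_mem w1 w1, w2⟩) i
    obtain ⟨i, rfl | rfl⟩ := Int.even_or_odd' j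
    · exact Or.inr (h1 i)
    · left
      simp only
      rw [← zpow_add_one, show 2 * i + 1 + 1 = 2 * (i + 1) by ring]
      exact h1 _
  · rw [conj_sup, conj_eq_of_mem_norm (nC hb), ← zpowers_conj]
    refine sup_le le_sup_left (zpowers_le.2 ?_)
    have h1 := (mem_normalizer_iff.1 (BA hb) w).1 w1
    have h2 := c.pair h1 (by
      rw [conj_mul]
      exact (mem_normalizer_iff.1 (H1.le_normalizer_centralizer p2 hb) _).1 w2) (by
      rw [cent1_conj, ← conj_eq_of_mem_norm (p2 hb), ← conj_inf,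
        ← conj_eq_of_mem_norm (BA hb), cent_conj]
      exact conj_mono w3 b) w1 w2 w3
    exact (mul_mem_cancel_right (mem_sup_right (mem_zpowers w))).1
      (mem_sup_left (mem_inf.2 ⟨mul_mem h1 w1, h2⟩))

end N4

theorem N4.qp_map {Γ M : Subgroup X} (h : QP Γ M) (nrm : M ⊲ Γ) {Y : Type u} [Group Y] [Finite Y]
    (f : Γ →* Y) : QP f.range ((M.subgroupOf Γ).map f) := by
  intro S P0 P h1 h2 h3 h4 h5 h6
  haveI := H1.normal_subgroupOf_of_le nrm.2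
  have k : ∀ Q : Subgroup Y, S ≤ 𝐍(Q) → S.comap f ≤ 𝐍(Q.comap f) := fun Q e s hs =>
    mem_norm_of_conj_le fun x hx => by
      obtain ⟨y, hy, rfl⟩ := mem_conj'.1 hx
      rw [mem_comap, map_mul, map_mul, map_inv]
      exact (mem_normalizer_iff.1 (e hs) _).1 hy
  have k' : ∀ Q : Subgroup Γ, S.comap f ≤ 𝐍(Q) →
      (S.comap f).map Γ.subtype ≤ 𝐍(Q.map Γ.subtype) := fun Q e =>
    (map_mono e).trans (le_normalizer_map _)
  refine h ((S.comap f).map Γ.subtype) ((P0.comap f).map Γ.subtype)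
    ((P.comap f ⊓ M.subgroupOf Γ).map Γ.subtype) (map_subtype_le _) ?_
    (map_le_iff_le_comap.2 inf_le_right) ?_
    (k' _ (H1.le_normalizer_inf (k P h5) le_normalizer_of_normal)) (k' _ (k P0 h6))
  · have e : S.comap f ⊔ M.subgroupOf Γ = ⊤ := by
      rw [← comap_map_eq_self (f := f) (H := S.comap f ⊔ M.subgroupOf Γ)
        ((ker_le_comap f S).trans le_sup_left), Subgroup.map_sup, map_comap_eq_self h1]
      exact eq_top_iff.2 fun x _ => h2 ⟨x, rfl⟩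
    conv_lhs => rw [← Γ.range_subtype, MonoidHom.range_eq_map, ← e, Subgroup.map_sup]
    exact sup_le_sup_left (map_le_iff_le_comap.2 le_rfl) _
  · rw [relIndex_map_map_of_injective _ _ Γ.subtype_injective, relIndex_comap, ← h4]
    congr 1
    refine le_antisymm (map_le_iff_le_comap.2 inf_le_left) fun x hx => ?_
    obtain ⟨y, hy, rfl⟩ := h3 hx
    exact ⟨y, ⟨hx, hy⟩, rfl⟩

theorem n4Stmt : N4Stmt.{u} := by
  intro X _ _ Γ M V s nq t ht t2 t1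
  have hL := s.nv
  have hV := s.el
  haveI := H1.normal_subgroupOf_of_le s.nrm.2
  let φ : Γ →* MulAut V := H1.conjAut hL
  let ρ : Γ →* φ.range := φ.rangeRestrict
  let ψ : φ.range →* MulAut V := φ.range.subtype
  have ρ1 : ∀ l : Γ, ρ l = 1 ↔ (l : X) ∈ 𝐂(V) := fun l => by
    rw [← H1.mem_ker_conjAut hL, MonoidHom.mem_ker, Subtype.ext_iff]; rfl
  let f : Γ →* V ⋊[ψ] φ.range := (SemidirectProduct.inr).comp ρ
  have f1 : ∀ l : Γ, f l = 1 ↔ (l : X) ∈ 𝐂(V) := fun l => by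
    rw [← ρ1]
    exact ⟨fun e => SemidirectProduct.inr_injective (e.trans (map_one _).symm), fun e => by
      show SemidirectProduct.inr (ρ l) = 1
      rw [e, map_one]⟩
  have ri : ∀ l : Γ, 𝐂[f l].relIndex (H1.sdL ψ ⊤) = 𝐂[(l : X)].relIndex V := fun l => by
    rw [← relIndex_comap, relIndex_top_right]
    show index _ = index _
    congr 1
    ext v
    rw [mem_comap, mem_subgroupOf, mem_cent1_comm (x := (l : X)), mem_cent1_iff_conj (x := (v : X))]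
    refine (H1.inl_mem_centralizer_inr (φ := ψ) (a := ρ l) (g := v)).trans ?_
    rw [Subtype.ext_iff]
    exact Iff.of_eq (congrArg (· = (v : X)) (H1.coe_conjAut hL l v))
  have nK : ∀ K, K ⊲ (M.subgroupOf Γ).map f →
      (K.comap f ⊓ M.subgroupOf Γ).map Γ.subtype ⊲ M := fun K n =>
    ⟨map_le_iff_le_comap.2 inf_le_right, fun g hg => mem_norm_of_conj_le fun x hx => by
      obtain ⟨_, ⟨k, hk, rfl⟩, rfl⟩ := mem_conj'.1 hx
      refine ⟨⟨g, s.nrm.1 hg⟩ * k * ⟨g, s.nrm.1 hg⟩⁻¹, ⟨?_,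
        M.mul_mem (M.mul_mem hg hk.2) (M.inv_mem hg)⟩, rfl⟩
      show f _ ∈ K
      rw [map_mul, map_mul, map_inv]
      exact (mem_normalizer_iff.1 (n.2 ⟨⟨g, s.nrm.1 hg⟩, hg, rfl⟩) _).1 hk.1⟩
  have o2 : pCoreOf 2 ((M.subgroupOf Γ).map f) = ⊥ := by
    have n := pCoreOf_normal 2 ((M.subgroupOf Γ).map f)
    have := s.red _ (nK _ n) ?_
    · rw [eq_bot_iff]
      intro x hx
      obtain ⟨l, hl, rfl⟩ := n.1 hx
      exact (f1 l).2 (this ⟨l, ⟨hx, hl⟩, rfl⟩)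
    · rintro _ ⟨k, hk, rfl⟩
      obtain ⟨m, hm⟩ := H2.isPGroup_pCoreOf 2 _ ⟨f k, hk.1⟩
      refine ⟨m, (f1 (k ^ 2 ^ m)).1 ?_⟩
      rw [map_pow]
      exact congrArg Subtype.val hm
  haveI := s.sol
  haveI : Group.IsSolvable (M.subgroupOf Γ) :=
    Group.isSolvable_of_surjective (f := (subgroupOfEquivOfLe s.nrm.1).symm.toMonoidHom)
      (subgroupOfEquivOfLe s.nrm.1).symm.surjective
  rw [← ri ⟨t, s.nrm.1 ht⟩]
  refine N4.core (Γ := f.range) (M := (M.subgroupOf Γ).map f) ⟨map_le_range _ _, ?_⟩ ?_ ?_ ?_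
    (Group.isSolvable_of_surjective (f.subgroupMap_surjective _)) o2 (N4.qp_map s.qp s.nrm f) ?_
    ⟨_, ht, rfl⟩ ?_ (mt (f1 _).1 t1)
  · exact f.range_eq_map.le.trans
      ((map_mono le_normalizer_of_normal).trans (le_normalizer_map _))
  · refine (isElemAb_map_iff SemidirectProduct.inl_injective).2 ?_
    rw [← isElemAb_map_iff (f := V.subtype) Subtype.val_injective, ← MonoidHom.range_eq_map,
      range_subtype]
    exact hV
  · rintro _ ⟨l, rfl⟩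
    exact H1.sdR_le_normalizer_top ⊤ ⟨ρ l, mem_top _, rfl⟩
  · rw [eq_bot_iff]
    rintro _ ⟨⟨l, rfl⟩, hc⟩
    rw [mem_bot, f1, mem_cent_iff_cent1, ← relIndex_eq_one, ← ri, relIndex_eq_one]
    exact mem_cent_iff_cent1.1 hc
  · intro y hy y3
    have n := fittingOf_normal ((M.subgroupOf Γ).map f)
    obtain ⟨l, hl, rfl⟩ := n.1 hy
    rw [ri]
    refine nq _ (nK _ n) ?_ l ⟨l, ⟨hy, hl⟩, rfl⟩ ((f1 (l ^ 3)).1 (by rw [map_pow, y3]))
    have e : f.ker = 𝐂(V).comap Γ.subtype := by ext l; exact f1 l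
    rw [← relIndex_comap, ← e, relIndex_ker]
    exact fun h => not_dvd_card_fittingOf Nat.prime_two o2
      (h.trans (Subgroup.card_dvd_of_le (map_le_iff_le_comap.2 inf_le_left)))
  · rw [← map_mul, f1, ← pow_two]
    exact t2

end Cfsg.Agent.P22
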