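/-
P22, chapter NQ: no subgroup is transitive on its commutator space.
-/
import Cfsg.Agent.P22.QL
import Cfsg.Agent.P22.Pair
import Cfsg.Agent.H8.ClassMN

set_option autoImplicit false
set_option linter.unusedSectionVars false
set_option linter.style.haveILetI false

namespace Cfsg.Agent.P22

open Subgroup Cfsg Cfsg.Agent Cfsg.Agent.FT
open scoped commutatorElement

universe u

variable {X : Type u} [Group X] [Finite X]

namespace NQ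

variable {Γ M V D : Subgroup X}

theorem comm_le {g : X} (hn : D ≤ 𝐍(V)) (hg : g ∈ 𝐍(V)) (h : D ≤ 𝐂(⁅V, D⁆ ^ᵍ g)) :
    ⁅D ^ᵍ g, D⁆ ≤ 𝐂((V ⊓ 𝐂(D) : Subgroup X)) ⊓ centMod V (V ⊓ 𝐂(D)) := by
  rw [← SQ.comm_conj hg] at h
  have h1 : ⁅V, D ^ᵍ g⁆ ≤ V ⊓ 𝐂(D) :=
    le_inf (comm_le_left_iff.2 (conj_le_of_mem hn hg)) (cent_comm.1 h)
  have h2 : D ^ᵍ g ≤ 𝐍((V ⊓ 𝐂(D) : Subgroup X)) :=
    comm_le_left_iff.1 ((commutator_mono inf_le_left le_rfl).trans h1)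
  have h3 : D ≤ 𝐂((V ⊓ 𝐂(D) : Subgroup X)) := cent_comm.1 inf_le_right
  exact le_inf ((commutator_mono le_rfl h3).trans
    (comm_le_right_iff.2 (H1.le_normalizer_centralizer h2)))
    ((commutator_mono (le_centMod_iff.2 ⟨h2, h1⟩) le_rfl).trans
      (comm_le_left_iff.2 (norm_le_norm_centMod hn (h3.trans (cent_le_norm _)))))

theorem core (QL : QLStmt.{u}) (l : Loc Γ M V) (DM : D ≤ M) (ho : ¬ 2 ∣ 𝐂(V).relIndex D)
    (h2 : 2 < 𝐂(D).relIndex V)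
    (tr : ∀ x ∈ ⁅V, D⁆, x ≠ 1 → ∀ y ∈ ⁅V, D⁆, y ≠ 1 → ∃ d ∈ D, d * x * d⁻¹ = y)
    (hs : ∀ g ∈ Γ, ⁅D ^ᵍ g, D⁆ ≤ 𝐂((V ⊓ 𝐂(D) : Subgroup X)) ⊓ centMod V (V ⊓ 𝐂(D)) →
      ⁅D ^ᵍ g, D⁆ ≤ 𝐂(V)) : False := by
  obtain ⟨v, hv, v1, h⟩ := QL X Γ M V D l.nrm l.el l.nv DM ho h2 tr fun g hg h => by
    have h1 := hs g hg (comm_le ((DM.trans l.nrm.1).trans l.nv) (l.nv hg) h)
    rw [← SQ.comm_conj (l.nv hg)] at h
    exact cent_comm.1 (comm_eq_bot_iff.1 (commutator_commutator_eq_bot_of_rotate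
      (by rw [Subgroup.commutator_comm D]; exact comm_eq_bot_iff.2 h1)
      (by rw [Subgroup.commutator_comm _ V]; exact comm_eq_bot_iff.2 (cent_comm.1 h))))
  refine l.qp _ ⊥ (zpowers v) inf_le_left h (zpowers_le.2 (l.vm hv)) ?_
    ((inf_le_right.trans (cent_zpowers v).ge).trans (cent_le_norm _)) (le_top.trans norm_bot.ge)
  rw [relIndex_bot_left, Nat.card_zpowers]
  exact orderOf_eq_prime (by rw [sq, SQ.el_sq l.el hv]) v1

theorem tr3 (hV : IsElementaryAbelian 2 V) {y : X} (hy : y ∈ 𝐍(V)) (h3 : y ^ 3 ∈ 𝐂(V))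
    (h4 : 𝐂[y].relIndex V = 4) : ¬ 2 ∣ 𝐂(V).relIndex (zpowers y) ∧
      2 < 𝐂(zpowers y).relIndex V ∧ ∀ x ∈ ⁅V, zpowers y⁆, x ≠ 1 → ∀ w ∈ ⁅V, zpowers y⁆, w ≠ 1 →
        ∃ d ∈ zpowers y, d * x * d⁻¹ = w := by
  have ho : ¬ 2 ∣ 𝐂(V).relIndex (zpowers y) := fun e =>
    absurd (e.trans (H8.MNHyp.relIndex_zpowers_dvd h3)) (by norm_num)
  refine ⟨ho, by rw [cent_zpowers, h4]; norm_num, fun x hx x1 w hw w1 => ?_⟩
  have c := SQ.card_comm' hV hy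
  have f := (SQ.fitm hV (zpowers_le.2 hy) ho).2
  have n : ∀ a ∈ ⁅V, zpowers y⁆, y * a * y⁻¹ ∈ ⁅V, zpowers y⁆ := fun a =>
    (mem_normalizer_iff.1 (H1.le_normalizer_commutator_self (mem_zpowers y)) a).1
  have e1 : x ≠ y * x * y⁻¹ := fun e => x1 (mem_bot.1 (f.le (mem_inf.2
    ⟨hx, (cent_zpowers y).ge (mem_cent1_comm.1 (mem_cent1_iff_conj.2 e.symm))⟩)))
  have e2 : x ≠ y * (y * x * y⁻¹) * y⁻¹ := fun e => e1 (by
    have := h3 x (comm_le_left_iff.2 (zpowers_le.2 hy) hx)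
    calc x = y ^ 3 * x * (y ^ 3)⁻¹ := by rw [← this]; group
      _ = y * (y * (y * x * y⁻¹) * y⁻¹) * y⁻¹ := by
        simp only [pow_succ, pow_zero, one_mul, mul_inv_rev, mul_assoc]
      _ = _ := by rw [← e])
  have e3 : ({1, x, y * x * y⁻¹, y * (y * x * y⁻¹) * y⁻¹} : Set X) = (⁅V, zpowers y⁆ : Subgroup X) :=
    Set.eq_of_subset_of_ncard_le (by
      rintro _ (rfl | rfl | rfl | rfl)
      exacts [one_mem _, hx, n _ hx, n _ (n _ hx)]) (by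
      rw [Set.ncard_insert_of_notMem (by simp [eq_comm, x1]),
        Set.ncard_insert_of_notMem (by simp [e1, e2]), Set.ncard_pair (by simpa using e1)]
      exact (c.trans h4).le)
  rcases e3.ge hw with rfl | rfl | rfl | rfl
  · exact (w1 rfl).elim
  · exact ⟨1, one_mem _, by group⟩
  · exact ⟨y, mem_zpowers y, rfl⟩
  · exact ⟨y * y, mul_mem (mem_zpowers y) (mem_zpowers y), by group⟩

theorem sq_mem (hV : IsElementaryAbelian 2 V) {C : Subgroup X} (hC : C ≤ V) {x : X}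
    (hx : x ∈ 𝐂(C) ⊓ centMod V C) : x ^ 2 ∈ 𝐂(V) := fun v hv => by
  have h1 := (mem_centMod.1 hx.2).2 _ (inv_mem hv)
  have h2 : x * v * x⁻¹ = v * ⁅v⁻¹, x⁆ := by group
  calc v * x ^ 2 = v * (⁅v⁻¹, x⁆ * ⁅v⁻¹, x⁆) * x ^ 2 := by rw [SQ.el_sq hV (hC h1), mul_one]
    _ = x * v * x⁻¹ * (⁅v⁻¹, x⁆ * x) * x := by rw [h2]; group
    _ = x * (v * ⁅v⁻¹, x⁆) * x := by rw [hx.1 _ h1]; group
    _ = _ := by rw [← h2, sq]; group

theorem noQ (QL : QLStmt.{u}) (l : Loc Γ M V) : NoQ M V := fun K hK ho y hy h3 h4 => by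
  have n : K ≤ 𝐍(V) := (hK.1.trans l.nrm.1).trans l.nv
  obtain ⟨a, b, c⟩ := tr3 l.el (n hy) h3 h4
  refine core QL l (zpowers_le.2 (hK.1 hy)) a b c fun g hg h x hx => ?_
  have h1 : x ∈ K := (commutator_mono (conj_le_of_mem_norm (zpowers_le.2 (hK.1 hy)) (l.nrm.2 hg))
    (zpowers_le.2 hy)).trans (comm_le_right_iff.2 hK.2) hx
  haveI := H1.normal_subgroupOf_of_le (H1.le_normalizer_centralizer n)
  have h5 : x ^ 𝐂(V).relIndex K ∈ 𝐂(V) := (𝐂(V).subgroupOf K).pow_index_mem ⟨x, h1⟩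
  obtain ⟨k, hk⟩ := Nat.not_even_iff_odd.1 fun e => ho e.two_dvd
  rw [hk, pow_succ, pow_mul] at h5
  exact (mul_mem_cancel_left (pow_mem (sq_mem l.el inf_le_left (h hx)) k)).1 h5

theorem snf (QL : QLStmt.{u}) (l : Loc Γ M V) (s : SNF M V) (DM : D ≤ M)
    (ho : ¬ 2 ∣ 𝐂(V).relIndex D) (h2 : 2 < 𝐂(D).relIndex V)
    (tr : ∀ x ∈ ⁅V, D⁆, x ≠ 1 → ∀ y ∈ ⁅V, D⁆, y ≠ 1 → ∃ d ∈ D, d * x * d⁻¹ = y) : False := by
  have n : M ≤ 𝐍(V) := l.nrm.1.trans l.nv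
  suffices H : M ⊓ (𝐂((V ⊓ 𝐂(D) : Subgroup X)) ⊓ centMod V (V ⊓ 𝐂(D))) ≤ 𝐂(V) from
    core QL l DM ho h2 tr fun g hg h => (le_inf ((commutator_mono
      (conj_le_of_mem_norm DM (l.nrm.2 hg)) DM).trans (der_le M)) h).trans H
  set N := M ⊓ (𝐂((V ⊓ 𝐂(D) : Subgroup X)) ⊓ centMod V (V ⊓ 𝐂(D))) with hN
  by_contra e
  have h1 : ⁅V, N⁆ ≤ V ⊓ 𝐂(D) := (le_centMod_iff.1 (inf_le_right.trans inf_le_right)).2
  have h3 : V ⊓ 𝐂(D) ≤ 𝐂(N) := cent_comm.1 (inf_le_right.trans inf_le_left)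
  have h4 := s N inf_le_left (h1.trans h3) e
  have h5 : D ≤ 𝐍((V ⊓ 𝐂(D) : Subgroup X)) := (cent_comm.1 inf_le_right).trans (cent_le_norm _)
  rw [Subgroup.commutator_comm] at h1
  obtain ⟨U, -, u1, u2, u3, u4⟩ := pair (P19.le_cent_self l.el) (inf_le_left.trans n)
    (h1.trans h3) le_rfl e
  have nU : D ≤ 𝐍(U) := le_trans (le_inf (le_inf (DM.trans n) (H1.le_normalizer_inf
    (DM.trans (le_norm_self M)) (H1.le_normalizer_inf (H1.le_normalizer_centralizer h5)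
      (norm_le_norm_centMod (DM.trans n) h5)))) (cent_comm.1 (h1.trans inf_le_right))) u3
  have wV : ⁅V, D⁆ ≤ V := comm_le_left_iff.2 (DM.trans n)
  have h6 : U ⊓ ⁅V, D⁆ = ⊥ := eq_bot_iff.2 fun x hx => by_contra fun x1 =>
    u1 ((SQ.fitm l.el (DM.trans n) ho).1.ge.trans (sup_le (fun y hy => by
      by_cases y1 : y = 1
      · exact y1 ▸ one_mem U
      obtain ⟨d, hd, rfl⟩ := tr x hx.2 x1 y hy y1
      exact (mem_normalizer_iff.1 (nU hd) x).1 hx.1) ((le_inf inf_le_left h3).trans u2)))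
  have h7 := u4 _ wV
  rw [← inf_relIndex_right, h6, relIndex_bot_left, SQ.card_commm l.el (DM.trans n) ho] at h7
  have h8 := relIndex_le_of_le_left (cent_anti wV) (H2.relIndex_pos 𝐂(V) N).ne'
  have h9 := relIndex_le_of_le_left h3 (H2.relIndex_pos _ V).ne'
  rw [inf_relIndex_left] at h9
  exact absurd ((h4.trans_le h9).trans_le (h7.trans h8)) (not_lt.2 (Nat.le_self_pow two_ne_zero _))

theorem nq2 (QL : QLStmt.{u}) (l : Loc Γ M V) (s : SNF M V) : ¬ Q2 M V := by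
  rintro ⟨V0, D, h0, h2, hD, tr⟩
  have DM : D ≤ M := hD.trans (inf_le_left.trans inf_le_left)
  have n : D ≤ 𝐍(V) := hD.trans (inf_le_left.trans inf_le_right)
  have c0 : D ≤ 𝐂(V0) := hD.trans inf_le_right
  obtain ⟨E, hE⟩ := exists_hall (H1.isSolvable_of_le DM l.sol) {2}ᶜ
  obtain ⟨T, hT⟩ := exists_isSyl Nat.prime_two D
  obtain ⟨x0, hx0, x1, x2⟩ := BG01.exists_mem_centMod (K := T ⊔ V) (A := V0) (Q := V)
    (isNilpotent_of_isPGroup Nat.prime_two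
      (isPGroup_sup hT.pgrp (elemAb_isPGroup l.el) (hT.le.trans n)))
    ((sup_le (hT.le.trans c0) ((P19.le_cent_self l.el).trans (cent_anti h0))).trans
      (cent_le_norm _)) ⟨le_sup_right, sup_le (hT.le.trans n) (le_norm_self V)⟩
    fun e => by rw [relIndex_eq_one.2 e] at h2; omega
  have t0 : ∀ y ∈ V, y ∉ V0 → ∃ d ∈ E, (d * x0 * d⁻¹)⁻¹ * y ∈ V0 := fun y hy y0 => by
    obtain ⟨d, hd, e⟩ := tr x0 hx0 x1 y hy y0
    obtain ⟨a, ha, t, ht, e1⟩ := H9.exists_mul_eq_of_coprime_index (H := E.subgroupOf D)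
      (K := T.subgroupOf D) (Nat.coprime_of_dvd fun p hp h1 h3 =>
        hall_not_dvd hE hp (fun (k : p = 2) => hT.ndvd (k ▸ h3)) h1) ⟨d, hd⟩
    have e2 : (a : X) * t = d := congrArg Subtype.val e1
    refine ⟨a, ha, ?_⟩
    have e3 := (mem_normalizer_iff.1 (cent_le_norm _ (c0 a.2)) _).1
      ((mem_centMod.1 (inv_mem x2)).2 t (mem_sup_left ht))
    have := mul_mem (inv_mem e3) e
    convert this using 1
    rw [← e2]
    group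
  have t1 : ∀ x ∈ V, x ∉ V0 → ∀ y ∈ V, y ∉ V0 → ∃ d ∈ E, (d * x * d⁻¹)⁻¹ * y ∈ V0 :=
    fun x hx x0 y hy y0 => by
      obtain ⟨a, ha, e1⟩ := t0 x hx x0
      obtain ⟨b, hb, e2⟩ := t0 y hy y0
      have hd := mul_mem hb (inv_mem ha)
      refine ⟨_, hd, ?_⟩
      have := mul_mem (inv_mem ((mem_normalizer_iff.1 (cent_le_norm _ (c0 (hE.1 hd))) _).1 e1)) e2
      convert this using 1
      group
  have ho : ¬ 2 ∣ 𝐂(V).relIndex E := fun e =>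
    hE.2.1 2 Nat.prime_two (e.trans (relIndex_dvd_card _ _)) rfl
  have c1 : V0 ≤ 𝐂(E) := cent_comm.1 (hE.1.trans c0)
  have f := (SQ.fitm l.el (hE.1.trans n) ho).2
  have wV : ⁅V, E⁆ ≤ V := comm_le_left_iff.2 (hE.1.trans n)
  have k : ∀ x ∈ ⁅V, E⁆, x ∈ V0 → x = 1 := fun x h1 h3 => mem_bot.1 (f.le (mem_inf.2 ⟨h1, c1 h3⟩))
  refine snf QL l s (hE.1.trans DM) ho ?_ fun x hx x1 y hy y1 => ?_
  · rw [← inf_relIndex_left, show V ⊓ 𝐂(E) = V0 from le_antisymm (fun x hx => by_contra fun x0 =>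
      absurd (Nat.le_of_dvd two_pos (relIndex_dvd_two_iff.2 ⟨x⁻¹, inv_mem hx.1, fun y hy =>
        or_iff_not_imp_right.2 fun y0 => by
          obtain ⟨d, hd, e⟩ := t1 x hx.1 x0 y hy y0
          rwa [hx.2 d hd, mul_inv_cancel_right, SQ.el_comm l.el (inv_mem hx.1) hy] at e⟩))
        (by omega)) (le_inf h0 c1)]
    exact h2
  · obtain ⟨d, hd, e⟩ := t1 x (wV hx) (fun e => x1 (k x hx e)) y (wV hy) fun e => y1 (k y hy e)
    exact ⟨d, hd, inv_mul_eq_one.1 (k _ (mul_mem (inv_mem ((mem_normalizer_iff.1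
      (H1.le_normalizer_commutator_self hd) x).1 hx)) hy) e)⟩

end NQ

theorem nqStmt (QL : QLStmt.{u}) : NQStmt.{u} := fun _ _ _ _ _ _ l =>
  ⟨NQ.noQ QL l, fun s => ⟨NQ.nq2 QL l s, fun y hy h3 h4 => by
    obtain ⟨a, b, c⟩ := NQ.tr3 l.el (l.nv (l.nrm.1 hy)) h3 h4
    exact NQ.snf QL l s (zpowers_le.2 hy) a b c⟩⟩

end Cfsg.Agent.P22
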