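/-
P22: assembly.
-/
import Cfsg.Agent.P22.Main0
import Cfsg.Agent.P22.NQ
import Cfsg.Agent.P22.N4
import Cfsg.Agent.P22.M2

set_option autoImplicit false

namespace Cfsg.Agent.P22

universe u

theorem core : CoreStmt.{u} := core_of' (nqStmt qlStmt) n4Stmt m2Stmt

theorem inv : InvStmt.{u} := inv_of core

end Cfsg.Agent.P22
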